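import Cfsg.Agent.H28.FE6
import Cfsg.Agent.H15.Mathieu

/-! Fusion invariants that separate `PSL₄(q)` from `A₁₀`, `A₁₁`, `M₂₂`, `M₂₃`, `McL`, and the two types of order `2 ^ 7`. -/

set_option autoImplicit false

namespace H28.FE
open Matrix Subgroup H28 Polynomial

variable {G H K : Type*} [Group G] [Group H] [Field K] {x y w h : G}

/-- `x, y, w` generate an elementary abelian group all of whose involutions are conjugate -/
def P3 (x y w : G) : Prop := x * x = 1 ∧ IsConj x y ∧ IsConj x w ∧ IsConj x (x * y) ∧ IsConj x (x * w) ∧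
  IsConj x (y * w) ∧ IsConj x (x * y * w)

def PE (G : Type*) [Group G] : Prop := ∃ x y w : G, x ≠ 1 ∧ P3 x y w

/-- `h` acts as an element of order 7 on the elementary abelian group generated by `x, y, w` -/
def W3 (x y w h : G) : Prop := x * x = 1 ∧ y = h * x * h⁻¹ ∧ w = h * y * h⁻¹ ∧ x * y = h * w * h⁻¹

def W7 (G : Type*) [Group G] : Prop := ∃ x y w h : G, x ≠ 1 ∧ W3 x y w h

theorem sq_conj (a : x * x = 1) (b : IsConj x y) : y * y = 1 := by
  obtain ⟨g, rfl⟩ := isConj_iff.1 b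
  rw [conj_mul, a]; simp

theorem com_inv (a : x * x = 1) (b : y * y = 1) (c : x * y * (x * y) = 1) : x * y = y * x := by
  rw [← inv_eq_of_mul_eq_one_right c, _root_.mul_inv_rev, inv_eq_of_mul_eq_one_right a, inv_eq_of_mul_eq_one_right b]

theorem P3.com (a : P3 x y w) : y * y = 1 ∧ w * w = 1 ∧ x * y = y * x ∧ x * w = w * x ∧ y * w = w * y :=
  have b := sq_conj a.1 a.2.1
  have c := sq_conj a.1 a.2.2.1
  ⟨b, c, com_inv a.1 b (sq_conj a.1 a.2.2.2.1), com_inv a.1 c (sq_conj a.1 a.2.2.2.2.1),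
    com_inv b c (sq_conj a.1 a.2.2.2.2.2.1)⟩

theorem W3.p3 (a : W3 x y w h) : P3 x y w := by
  obtain ⟨a, b, c, d⟩ := a
  have k : ∀ {u}, IsConj x u → IsConj x (h * u * h⁻¹) := fun e => e.trans (isConj_iff.2 ⟨h, rfl⟩)
  have c1 : IsConj x y := b ▸ k (.refl x)
  have c2 : IsConj x w := c ▸ k c1
  have c3 : IsConj x (x * y) := d ▸ k c2
  have c4 : IsConj x (y * w) := by have := k c3; rwa [← conj_mul, ← b, ← c] at this
  have c5 : IsConj x (w * (x * y)) := by have := k c4; rwa [← conj_mul, ← c, ← d] at this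
  have c6 : IsConj x (x * w) := by
    have := k c5
    rwa [← conj_mul, ← conj_mul, ← b, ← c, ← d, mul_assoc, ← mul_assoc y, sq_conj a c1, one_mul] at this
  exact ⟨a, c1, c2, c3, c6, c4, (com_inv (sq_conj a c2) (sq_conj a c3) (sq_conj a c5)) ▸ c5⟩

theorem W7.pe : W7 G → PE G := fun ⟨x, y, w, _, a, b⟩ => ⟨x, y, w, a, b.p3⟩

theorem W7.map (f : G →* H) (hf : Function.Injective f) : W7 G → W7 H := fun ⟨x, y, w, h, a, b, c, d, e⟩ =>
  ⟨f x, f y, f w, f h, (map_ne_one_iff f hf).2 a, by rw [← map_mul, b, map_one], by simp [c], by simp [d],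
    by simpa using congrArg f e⟩

theorem P3.pg (a : P3 x y w) : IsPGroup 2 (closure {x, y, w}) := by
  obtain ⟨b, c, d, e, f⟩ := a.com
  have := Subgroup.isMulCommutative_closure (k := {x, y, w}) (by
    rintro _ (rfl | rfl | rfl) _ (rfl | rfl | rfl) <;> first | rfl | assumption | (symm; assumption))
  rintro ⟨u, hu⟩
  refine ⟨1, Subtype.ext ?_⟩
  change u ^ 2 ^ 1 = 1
  rw [pow_one]
  induction hu using closure_induction with
  | mem u hu => rcases hu with rfl | rfl | rfl <;> rw [sq] <;> first | exact a.1 | assumption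
  | one => simp
  | mul u v hu hv p q => rw [Commute.mul_pow (setLike_mul_comm hu hv), p, q, one_mul]
  | inv u _ p => rw [inv_pow, p, inv_one]

theorem FE.pe [Finite G] (e : FE G H) : PE G → PE H := fun ⟨x, y, w, a, b⟩ => by
  obtain ⟨f, hf⟩ := e.sub b.pg
  let X : closure {x, y, w} := ⟨x, subset_closure (by simp)⟩
  let Y : closure {x, y, w} := ⟨y, subset_closure (by simp)⟩
  let W : closure {x, y, w} := ⟨w, subset_closure (by simp)⟩
  refine ⟨f X, f Y, f W, mt hf.one.2 a, ?_⟩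
  simp only [P3, ← map_mul, ← hf.isConj, ← hf.one]
  exact b

theorem FE.w7 [Finite G] (e : FE G H) : W7 G → W7 H := fun ⟨x, y, w, h, a, b⟩ => by
  obtain ⟨f, hf⟩ := e.sub b.p3.pg
  let X : closure {x, y, w} := ⟨x, subset_closure (by simp)⟩
  let Y : closure {x, y, w} := ⟨y, subset_closure (by simp)⟩
  let W : closure {x, y, w} := ⟨w, subset_closure (by simp)⟩
  obtain ⟨g, hg⟩ := (hf {(X, Y), (Y, W), (W, X * Y)}).1 ⟨h, by
    rintro _ (rfl | rfl | rfl)
    exacts [b.2.1, b.2.2.1, b.2.2.2]⟩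
  exact ⟨f X, f Y, f W, g, mt hf.one.2 a, by rw [← map_mul, ← hf.one]; exact b.1, hg (X, Y) (by simp),
    hg (Y, W) (by simp), map_mul f X Y ▸ hg (W, X * Y) (by simp)⟩

/-- an element acting on an elementary abelian 2-group as an automorphism of order 7 -/
theorem w7_of {E : Subgroup G} (e2 : ∀ a ∈ E, a * a = 1) (hn : h ∈ 𝐍 E) (h7 : h ^ 7 ∈ 𝐂 E) (h1 : h ∉ 𝐂 E) : W7 G := by
  obtain ⟨v, hv, n⟩ : ∃ v ∈ E, v * h ≠ h * v := by simpa [mem_centralizer_iff] using h1
  let a : ℕ → G := fun i => h ^ i * v * (h ^ i)⁻¹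
  have m : ∀ i, a i ∈ E := fun i => (mem_normalizer_iff.1 (pow_mem hn i) v).1 hv
  have s : ∀ i, h * a i * h⁻¹ = a (i + 1) := fun i => by simp only [a]; group
  have s' : ∀ i, h⁻¹ * a (i + 1) * h⁻¹⁻¹ = a i := fun i => by simp only [a]; group
  have a7 : a 7 = a 0 := by simp only [a]; rw [← h7 v hv]; simp
  have c : ∀ i j, a i * a j = a j * a i := fun i j => com_inv (e2 _ (m i)) (e2 _ (m j)) (e2 _ (mul_mem (m i) (m j)))
  have c' : ∀ i j u, a i * (a j * u) = a j * (a i * u) := fun i j u => by rw [← mul_assoc, c, mul_assoc]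
  have q : ∀ i u, a i * (a i * u) = u := fun i u => by rw [← mul_assoc, e2 _ (m i), one_mul]
  have q' : ∀ i, a i * a i = 1 := fun i => e2 _ (m i)
  have o : ∀ i j, i < j → ∀ u, a j * (a i * u) = a i * (a j * u) := fun i j _ => c' j i
  have o' : ∀ i j, i < j → a j * a i = a i * a j := fun i j _ => c j i
  by_cases z : a 0 * a 1 * a 2 * a 4 = 1
  · have z1 := congrArg (fun u => h * u * h⁻¹) z
    simp only [← conj_mul, s, mul_one, mul_inv_cancel] at z1
    refine ⟨a 3 * a 4, a 2 * a 3, a 1 * a 2, h⁻¹, fun e => n ?_, e2 _ (mul_mem (m _) (m _)), by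
      rw [← conj_mul, s', s'], by rw [← conj_mul, s', s'], ?_⟩
    · have := congrArg (fun u => h⁻¹ * (h⁻¹ * (h⁻¹ * u * h⁻¹⁻¹) * h⁻¹⁻¹) * h⁻¹⁻¹) e
      simp only [← conj_mul, s', mul_one, mul_inv_cancel] at this
      rw [← inv_eq_iff_mul_eq_one, inv_eq_of_mul_eq_one_right (q' 0)] at this
      simp only [a, pow_zero, pow_one, one_mul, inv_one, mul_one, zero_add] at this
      exact (mul_inv_eq_iff_eq_mul.1 this.symm).symm
    · rw [← conj_mul, s', s', ← one_mul (a 3 * a 4 * _), ← z]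
      simp (disch := decide) only [mul_assoc, o, o', q, q', mul_one]
  · refine ⟨_, a 1 * a 2 * a 3 * a 5, a 2 * a 3 * a 4 * a 6, h, z, e2 _ (mul_mem (mul_mem (mul_mem (m _) (m _))
      (m _)) (m _)), by simp only [← conj_mul, s], by simp only [← conj_mul, s], ?_⟩
    simp only [← conj_mul, s, a7]
    simp (disch := decide) only [mul_assoc, o, o', q, q', mul_one]

theorem inv4 (h2 : (2 : K) ≠ 0) {x : Matrix (Fin 4) (Fin 4) K} (h : x * x = 1) :
    x = 1 ∨ x = -1 ∨ x.trace = 0 ∨ (x.trace = 2 ∨ x.trace = -2) ∧ x.det = -1 := by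
  obtain ⟨e, rfl, he⟩ : ∃ e : Matrix (Fin 4) (Fin 4) K, x = (2 : K) • e - 1 ∧ e * e = e :=
    ⟨(2 : K)⁻¹ • (x + 1), by simp [smul_smul, h2], by
      rw [smul_mul_smul_comm, mul_add, add_mul, h, mul_one, one_mul, show 1 + x + (x + 1) = (2 : K) • (x + 1) by
        rw [two_smul]; abel, smul_smul, inv_mul_cancel_right₀ h2]⟩
  obtain ⟨s, a, b⟩ := H0.charpoly_idem e he
  generalize Module.finrank K (LinearMap.range e.toLin') = r at a b
  have d : r + s = 4 := by
    have := congrArg natDegree a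
    rw [charpoly_natDegree_eq_dim, ← C_1, natDegree_mul (pow_ne_zero _ (X_sub_C_ne_zero 1)) (pow_ne_zero _ X_ne_zero),
      natDegree_pow, natDegree_pow, natDegree_X_sub_C] at this
    simpa using this.symm
  have c := aeval_self_charpoly e
  have t : ((2 : K) • e - 1).trace = 2 * r - 4 := by simp [b]
  have u : ((2 : K) • e - 1).det = (-1) ^ r := by
    have := eval_charpoly e 2⁻¹
    rw [a] at this
    rw [show (2 : K) • e - 1 = (-2 : K) • (scalar _ 2⁻¹ - e) by
      rw [smul_sub, scalar_apply, ← smul_one_eq_diagonal, smul_smul]; simp [h2]; abel, det_smul, ← this,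
      Fintype.card_fin, ← d, pow_add, show (-1 : K) ^ r = (-2) ^ r * (2⁻¹ - 1) ^ r * ((-2) ^ s * 2⁻¹ ^ s) * (-1) ^ (r + s) by
        rw [← mul_pow, ← mul_pow, show (-2 : K) * (2⁻¹ - 1) = 1 by field_simp; ring, show (-2 : K) * 2⁻¹ = -1 by field_simp,
          pow_add, one_pow, one_mul, mul_left_comm, ← mul_pow]; simp, d]
    simp; ring
  rw [t, u]
  rw [a] at c
  simp only [map_mul, map_pow, map_sub, aeval_X, map_one] at c
  obtain rfl : s = 4 - r := by omega
  have e4 : e ^ 4 = e := IsIdempotentElem.pow_succ_eq 3 he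
  have e5 : (1 - e) ^ 4 = 1 - e := (IsIdempotentElem.one_sub he).pow_succ_eq 3
  have : r ≤ 4 := by omega
  interval_cases r
  · right; left; simp [e4] at c; simp [c]
  · right; right; right; norm_num
  · right; right; left; norm_num
  · right; right; right; norm_num
  · left
    rw [← neg_sub, Even.neg_pow (by decide), e5] at c
    simp [sub_eq_zero] at c
    rw [← c, two_smul]; simp

/-- the characteristic is not small -/
def Big (K : Type*) [Field K] : Prop := ∀ z : ℤ, z.natAbs < 16 → (z : K) = 0 → z = 0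

theorem Big.two (h : Big K) : (2 : K) ≠ 0 := fun e => by simpa using h 2 (by decide) (by simpa using e)

theorem big_of (p : ℕ) [CharP K p] (h : 16 ≤ p) : Big K := fun z a b =>
  Int.eq_zero_of_dvd_of_natAbs_lt_natAbs ((CharP.intCast_eq_zero_iff K p z).1 b) (by simp; omega)

theorem core (b : Big K) {x y w : Matrix (Fin 4) (Fin 4) K} (xx : x * x = 1) (yy : y * y = 1) (ww : w * w = 1)
    (xy : x * y = y * x) (xw : x * w = w * x) (yw : y * w = w * y) (t1 : y.trace = x.trace) (t2 : w.trace = x.trace)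
    (t3 : (x * y).trace = x.trace) (t4 : (x * w).trace = x.trace) (t5 : (y * w).trace = x.trace)
    (t6 : (x * y * w).trace = x.trace) : x = 1 ∨ x = -1 := by
  have h2 := b.two
  have i : ∀ u : Matrix (Fin 4) (Fin 4) K, u * u = 1 → IsIdempotentElem ((2 : K)⁻¹ • (1 + u)) := fun u h => by
    rw [IsIdempotentElem, smul_mul_smul_comm, mul_add, add_mul, add_mul, h, mul_one, one_mul, mul_one,
      show 1 + u + (u + 1) = (2 : K) • (1 + u) by rw [two_smul]; abel, smul_smul, inv_mul_cancel_right₀ h2]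
  have k : ∀ {u v : Matrix (Fin 4) (Fin 4) K}, Commute u v → Commute ((2 : K)⁻¹ • (1 + u)) ((2 : K)⁻¹ • (1 + v)) :=
    fun h => (((Commute.one_left _).add_left ((Commute.one_right _).add_right h)).smul_left _).smul_right _
  have e := ((i (-x) (by simpa)).mul_of_commute (k (Commute.neg_left xy)) (i y yy)).mul_of_commute
    ((k (Commute.neg_left xw)).mul_left (k yw)) (i w ww)
  obtain ⟨n, r, a⟩ : ∃ n : ℕ, n ≤ 4 ∧ trace _ = (n : K) := let ⟨_, _, a⟩ := H0.charpoly_idem _ e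
    ⟨_, (Submodule.finrank_le _).trans_eq (Module.finrank_fin_fun K), a⟩
  simp only [smul_mul_smul_comm, add_mul, mul_add, one_mul, mul_one, neg_mul, trace_smul, trace_add, trace_neg, t1, t2,
    t3, t4, t5, t6, trace_one, Fintype.card_fin, smul_eq_mul] at a
  have f : ∀ c : ℤ, 0 < c → c < 4 → x.trace = 4 - 2 * c → False := fun c h1 h4 h => by
    have := b (4 * n - c) (by omega) (mul_left_cancel₀ h2 (by
      push_cast; rw [← a, h]; field_simp; ring))
    omega
  rcases inv4 h2 xx with h | h | h | ⟨h | h, -⟩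
  exacts [.inl h, .inr h, (f 2 (by decide) (by decide) (by rw [h]; norm_num)).elim,
    (f 1 (by decide) (by decide) (by rw [h]; norm_num)).elim, (f 3 (by decide) (by decide) (by rw [h]; norm_num)).elim]

theorem core_gl (b : Big K) {x y w : GL (Fin 4) K} (a : P3 x y w) : x.1 = 1 ∨ x.1 = -1 := by
  obtain ⟨c, d, e, f, g⟩ := a.com
  have t : ∀ {u : GL (Fin 4) K}, IsConj x u → u.1.trace = x.1.trace := fun h => by
    obtain ⟨g, rfl⟩ := isConj_iff.1 h
    exact trace_units_conj g x.1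
  obtain ⟨a0, a1, a2, a3, a4, a5, a6⟩ := a
  exact core b (congrArg Units.val a0) (congrArg Units.val c) (congrArg Units.val d) (congrArg Units.val e)
    (congrArg Units.val f) (congrArg Units.val g) (t a1) (t a2) (t a3) (t a4) (t a5) (t a6)

theorem w3_lift {e : G} (he : e ∈ center G) (a : x * x = 1) (b : y = h * x * h⁻¹) (c : w = h * y * h⁻¹)
    (d : e * (x * y) = h * w * h⁻¹) : W3 (e * x) (e * y) (e * w) h := by
  have z : ∀ g, g * e = e * g := mem_center_iff.1 he
  have z' : ∀ g u, g * (e * u) = e * (g * u) := fun g u => by rw [← mul_assoc, z, mul_assoc]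
  have k : ∀ u, h * (e * u) * h⁻¹ = e * (h * u * h⁻¹) := fun u => by rw [z' h, mul_assoc]
  have q : ∀ {u : G}, u * u = 1 → h * u * h⁻¹ * (h * u * h⁻¹) = 1 := fun p => by rw [conj_mul, p]; simp
  have y2 : y * y = 1 := b ▸ q a
  have w2 : w * w = 1 := c ▸ q y2
  have m : ∀ {u : G}, u * u = 1 → ∀ v, u * (u * v) = v := fun p v => by rw [← mul_assoc, p, one_mul]
  have sw : ∀ {u v k : G}, u * u = 1 → v * v = 1 → k * (u * v * (u * v)) = 1 → v * u = k * (u * v) := fun p r s => by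
    rw [← mul_assoc, mul_eq_one_iff_eq_inv] at s
    rw [s, _root_.mul_inv_rev, inv_eq_of_mul_eq_one_right p, inv_eq_of_mul_eq_one_right r]
  have cm : ∀ u v, h * (u * v) * h⁻¹ = h * u * h⁻¹ * (h * v * h⁻¹) := fun u v => conj_mul.symm
  have h3 := q w2
  have h4 := q h3
  have h5 := q h4
  have h6 := q h5
  rw [← d] at h3 h4 h5 h6
  rw [k, cm x, ← b, ← c] at h4 h5 h6
  rw [k, cm y, ← c, ← d] at h5 h6
  rw [k, cm w, k, cm x, ← b, ← c, ← d] at h6
  have e1 : y * x = e * e * (x * y) := sw a y2 (by rw [← h3]; simp only [mul_assoc, z' x, z' y])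
  have e4 : e * (e * (e * e)) = 1 := by
    have : x * (y * x) * (x * (y * x)) = 1 := by simp only [mul_assoc, m a, m y2, a]
    simpa only [e1, mul_assoc, z' x, z' y, m a, y2, mul_one] using this
  have e5 : ∀ u, e * (e * (e * (e * u))) = u := fun u => by simpa only [mul_assoc, one_mul] using congrArg (· * u) e4
  have e2 : w * x = e * e * (x * w) := sw a w2 (by
    rw [← h6]; simp only [mul_assoc, z' x, z' y, z' w, m y2, e5])
  have e3 : w * y = e * e * (y * w) := sw y2 w2 (by rw [← h4]; simp only [mul_assoc, z' w, z' y])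
  have ee : e * e = 1 := by
    have a1 : ∀ u, y * (x * u) = e * (e * (x * (y * u))) := fun u => by rw [← mul_assoc, e1]; simp only [mul_assoc]
    have a2 : ∀ u, w * (x * u) = e * (e * (x * (w * u))) := fun u => by rw [← mul_assoc, e2]; simp only [mul_assoc]
    have a3 : ∀ u, w * (y * u) = e * (e * (y * (w * u))) := fun u => by rw [← mul_assoc, e3]; simp only [mul_assoc]
    simpa only [mul_assoc, z' x, z' y, z' w, e5, a1, a2, a3, e3, m a, m y2, m w2, w2, a, y2, mul_one] using h5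
  exact ⟨by rw [mul_assoc, z' x, a, mul_one, ee], by rw [k, b], by rw [k, c], by
    rw [k, ← d, mul_assoc, z' x]⟩

theorem not_w7 {F : Type*} [Field F] (b : Big F) : ¬ W7 (ProjectiveSpecialLinearGroup (Fin 4) F) := by
  rintro ⟨x, y, w, h, n, a, rfl, rfl, d⟩
  obtain ⟨x, rfl⟩ := QuotientGroup.mk_surjective x
  obtain ⟨h, rfl⟩ := QuotientGroup.mk_surjective h
  let K := AlgebraicClosure F
  let φ : SpecialLinearGroup (Fin 4) F →* GL (Fin 4) K :=
    SpecialLinearGroup.toGL.comp (SpecialLinearGroup.map (algebraMap F K))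
  let sc : Kˣ →* GL (Fin 4) K := GeneralLinearGroup.scalar (Fin 4)
  have c : ∀ u g, g * sc u = sc u * g := fun u g => Units.ext (scalar_commute (u : K) (fun _ => .all _ _) g.1).eq.symm
  have z : ∀ g ∈ center _, ∃ u, φ g = sc u := fun g hg => by
    obtain ⟨r, h1, h2⟩ := Matrix.SpecialLinearGroup.mem_center_iff.1 hg
    refine ⟨Units.mk0 (algebraMap F K r) (by rintro e; simp_all), Units.ext ?_⟩
    change (g.1).map _ = _
    rw [← h2]; simp [sc, diagonal_map]
  obtain ⟨s, hs⟩ := z _ ((QuotientGroup.eq_one_iff (x * x)).1 a)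
  obtain ⟨t, ht⟩ := z _ (QuotientGroup.eq.1 (show ((x * (h * x * h⁻¹) : SpecialLinearGroup (Fin 4) F) :
    ProjectiveSpecialLinearGroup (Fin 4) F) = (h * (h * (h * x * h⁻¹) * h⁻¹) * h⁻¹ : SpecialLinearGroup (Fin 4) F) from d))
  obtain ⟨r, hr⟩ := IsAlgClosed.exists_eq_mul_self (s⁻¹ : Kˣ).1
  let u : Kˣ := Units.mk0 r (by rintro rfl; simp at hr)
  have hu : u * u = s⁻¹ := Units.ext hr.symm
  have k : ∀ v g, φ h * (sc v * g) * (φ h)⁻¹ = sc v * (φ h * g * (φ h)⁻¹) := fun v g => by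
    rw [← mul_assoc, c, mul_assoc, mul_assoc, mul_assoc]
  have := (w3_lift (e := sc (t * u⁻¹)) (x := sc u * φ x) (h := φ h) (mem_center_iff.2 (c _)) (by
    rw [mul_assoc, ← mul_assoc (φ x), c, mul_assoc, ← map_mul, hs, ← map_mul, ← map_mul, ← mul_assoc, hu]; simp)
    rfl rfl (by
    simp only [map_mul, map_inv, inv_mul_eq_iff_eq_mul, c] at ht
    rw [k, k, k, ht, mul_assoc (sc u), ← mul_assoc (φ x) (sc u), c, mul_assoc (sc u), ← mul_assoc (sc u),
      ← mul_assoc, ← mul_assoc (sc u), ← map_mul sc, ← map_mul sc, ← map_mul sc, ← mul_assoc (t * u⁻¹),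
      inv_mul_cancel_right, mul_comm t])).p3
  have hb : Big K := fun z p q => b z p ((algebraMap F K).injective (by simpa using q))
  obtain ⟨v, hv⟩ : ∃ v, φ x = sc v := by
    rcases core_gl hb this with e | e
    · exact ⟨(t * u⁻¹ * u)⁻¹, by rw [map_inv, eq_inv_iff_mul_eq_one, c, map_mul, mul_assoc]; exact Units.ext e⟩
    · refine ⟨(t * u⁻¹ * u)⁻¹ * -1, ?_⟩
      rw [map_mul, map_inv, eq_inv_mul_iff_mul_eq, map_mul, mul_assoc]
      exact Units.ext (e.trans (by ext i j; by_cases i = j <;> simp [sc, *]))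
  refine n ((QuotientGroup.eq_one_iff x).2 (mem_center_iff.2 fun g => ?_))
  have : Function.Injective φ := SpecialLinearGroup.toGL_injective.comp fun a b e => Subtype.ext
    (Matrix.map_injective (algebraMap F K).injective (congrArg Subtype.val e))
  exact this (by rw [map_mul, map_mul, hv, c])

theorem not_pe (b : Big K) (h4 : ∀ r : K, r ^ 4 = 1 → r = 1 ∨ r = -1) : ¬ PE (ProjectiveSpecialLinearGroup (Fin 4) K) := by
  rintro ⟨x, y, w, n, a, a1, a2, a3, a4, a5, a6⟩
  obtain ⟨x, rfl⟩ := QuotientGroup.mk_surjective x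
  obtain ⟨y, rfl⟩ := QuotientGroup.mk_surjective y
  obtain ⟨w, rfl⟩ := QuotientGroup.mk_surjective w
  have z : ∀ g ∈ center (SpecialLinearGroup (Fin 4) K), g.1 = 1 ∨ g.1 = -1 := fun g hg => by
    obtain ⟨r, h1, h2⟩ := Matrix.SpecialLinearGroup.mem_center_iff.1 hg
    rcases h4 r h1 with rfl | rfl <;> simp [-scalar_apply, ← h2]
  have s := z _ ((QuotientGroup.eq_one_iff (x * x)).1 a)
  have k : ∀ {u : SpecialLinearGroup (Fin 4) K}, IsConj (x : ProjectiveSpecialLinearGroup (Fin 4) K) u →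
      u.1 * u.1 = x.1 * x.1 ∧ (x.1.trace = 0 → u.1.trace = 0) := fun {u} h => by
    obtain ⟨g, h⟩ := isConj_iff.1 h
    obtain ⟨g, rfl⟩ := QuotientGroup.mk_surjective g
    have e := z _ (QuotientGroup.eq.1 (show ((g * x * g⁻¹ : SpecialLinearGroup (Fin 4) K) :
      ProjectiveSpecialLinearGroup (Fin 4) K) = u from h))
    have t : (g * x * g⁻¹).1.trace = x.1.trace := by
      rw [Matrix.SpecialLinearGroup.coe_mul, trace_mul_comm, ← Matrix.SpecialLinearGroup.coe_mul, inv_mul_cancel_left]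
    have q : (g * x * g⁻¹).1 * (g * x * g⁻¹).1 = x.1 * x.1 := by
      rw [← Matrix.SpecialLinearGroup.coe_mul, conj_mul, mem_center_iff.1 ((QuotientGroup.eq_one_iff (x * x)).1 a) g,
        mul_inv_cancel_right, Matrix.SpecialLinearGroup.coe_mul]
    generalize g * x * g⁻¹ = v at e t q
    rw [← mul_inv_cancel_left v u, Matrix.SpecialLinearGroup.coe_mul, ← t, ← q]
    rcases e with e | e <;> simp [e]
  have x1 : ¬ (x.1 = 1 ∨ x.1 = -1) := fun h => n ((QuotientGroup.eq_one_iff x).2 (mem_center_iff.2 fun g =>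
    Subtype.ext (by rcases h with h | h <;> simp [h])))
  obtain ⟨b1, c1⟩ := k a1
  obtain ⟨b2, c2⟩ := k a2
  obtain ⟨b3, c3⟩ := k (u := x * y) a3
  obtain ⟨b4, c4⟩ := k (u := x * w) a4
  obtain ⟨b5, c5⟩ := k (u := y * w) a5
  obtain ⟨b6, c6⟩ := k (u := x * y * w) a6
  have d := x.2
  simp only [Matrix.SpecialLinearGroup.coe_mul] at *
  generalize x.1 = x at *
  generalize y.1 = y at *
  generalize w.1 = w at *
  have cm : ∀ {u v : Matrix (Fin 4) (Fin 4) K}, u * (u * v * (u * v)) * v = u * u * (v * u) * (v * v) :=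
    fun {u v} => by simp only [mul_assoc]
  rcases s with s | s <;> rw [s] at b1 b2 b3 b4 b5 b6
  · have t : x.trace = 0 := by
      rcases inv4 b.two s with h | h | h | ⟨-, h⟩
      exacts [(x1 (.inl h)).elim, (x1 (.inr h)).elim, h, (b.two (by linear_combination d.symm.trans h)).elim]
    exact x1 (core b s b1 b2 (by simpa [s, b1, b3] using cm (u := x) (v := y)) (by simpa [s, b2, b4] using cm (u := x) (v := w))
      (by simpa [b1, b2, b5] using cm (u := y) (v := w)) (t ▸ c1 t) (t ▸ c2 t) (t ▸ c3 t) (t ▸ c4 t) (t ▸ c5 t) (t ▸ c6 t))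
  · have e1 : y * x = -(x * y) := by simpa [s, b1, b3] using (cm (u := x) (v := y)).symm
    have e2 : w * x = -(x * w) := by simpa [s, b2, b4] using (cm (u := x) (v := w)).symm
    have e3 : y * w * x = -(x * (y * w)) := by simpa [s, b5, ← mul_assoc x y w, b6] using (cm (u := x) (v := y * w)).symm
    rw [mul_assoc, e2, mul_neg, ← mul_assoc, e1, neg_mul, neg_neg, ← mul_assoc, eq_neg_iff_add_eq_zero] at e3
    have := congrArg (· * (x * y * w)) e3
    simp only [add_mul, b6, zero_mul] at this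
    have : (-1 : K) + -1 = 0 := by simpa using congrFun₂ this 0 0
    exact b.two (by linear_combination -this)

theorem pe5 : PE (ProjectiveSpecialLinearGroup (Fin 4) (ZMod 5)) := by
  let x : SpecialLinearGroup (Fin 4) (ZMod 5) := ⟨!![1, 0, 0, 0; 0, 1, 0, 0; 0, 0, 4, 0; 0, 0, 0, 4], by decide +kernel⟩
  let y : SpecialLinearGroup (Fin 4) (ZMod 5) := ⟨!![1, 0, 0, 0; 0, 4, 0, 0; 0, 0, 1, 0; 0, 0, 0, 4], by decide +kernel⟩
  let w : SpecialLinearGroup (Fin 4) (ZMod 5) := ⟨!![0, 1, 0, 0; 1, 0, 0, 0; 0, 0, 0, 1; 0, 0, 1, 0], by decide +kernel⟩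
  have k : ∀ (u : SpecialLinearGroup (Fin 4) (ZMod 5)) (g : Matrix (Fin 4) (Fin 4) (ZMod 5)) (c : ZMod 5),
      g.det = 1 ∧ c ^ 4 = 1 ∧ u.1 * g = g * x.1 * scalar _ c → IsConj (x : ProjectiveSpecialLinearGroup (Fin 4) (ZMod 5)) u :=
    fun u g c ⟨h1, h2, h3⟩ => by
      let s : SpecialLinearGroup (Fin 4) (ZMod 5) := ⟨scalar _ c, by simpa using h2⟩
      let v : SpecialLinearGroup (Fin 4) (ZMod 5) := ⟨g, h1⟩
      have : u * v = v * x * s := Subtype.ext h3
      rw [← mul_inv_cancel_right u v, this, QuotientGroup.mk_mul, QuotientGroup.mk_mul, QuotientGroup.mk_mul,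
        (QuotientGroup.eq_one_iff s).2 (Matrix.SpecialLinearGroup.mem_center_iff.2 ⟨c, h2, rfl⟩), mul_one]
      exact isConj_iff.2 ⟨_, rfl⟩
  exact ⟨x, y, w, fun e => absurd (mem_center_iff.1 ((QuotientGroup.eq_one_iff x).1 e)
      ⟨!![0, 0, 1, 0; 0, 4, 0, 0; 1, 0, 0, 0; 0, 0, 0, 1], by decide +kernel⟩) (by decide +kernel),
    congrArg (QuotientGroup.mk (s := center _)) (by decide +kernel : x * x = 1),
    k y !![3, 0, 0, 0; 0, 0, 0, 2; 0, 1, 0, 0; 0, 0, 1, 0] 1 (by decide +kernel),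
    k w !![4, 0, 4, 0; 4, 0, 1, 0; 0, 3, 0, 2; 0, 3, 0, 3] 1 (by decide +kernel),
    k (x * y) !![0, 0, 1, 0; 0, 3, 0, 0; 4, 0, 0, 0; 0, 0, 0, 2] 4 (by decide +kernel),
    k (x * w) !![4, 0, 4, 0; 4, 0, 1, 0; 0, 2, 0, 2; 0, 3, 0, 2] 1 (by decide +kernel),
    k (y * w) !![0, 2, 0, 3; 0, 4, 0, 4; 1, 0, 4, 0; 2, 0, 2, 0] 2 (by decide +kernel),
    k (x * y * w) !![0, 2, 0, 2; 0, 4, 0, 1; 4, 0, 1, 0; 2, 0, 2, 0] 2 (by decide +kernel)⟩

theorem w7_A8 : W7 (alternatingGroup (Fin 8)) :=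
  ⟨⟨.swap 0 1 * .swap 2 3 * .swap 4 5 * .swap 6 7, Equiv.Perm.mem_alternatingGroup.2 (by decide +kernel)⟩,
    ⟨.swap 0 2 * .swap 1 3 * .swap 4 6 * .swap 5 7, Equiv.Perm.mem_alternatingGroup.2 (by decide +kernel)⟩,
    ⟨.swap 0 4 * .swap 1 5 * .swap 2 6 * .swap 3 7, Equiv.Perm.mem_alternatingGroup.2 (by decide +kernel)⟩,
    ⟨.swap 1 5 * .swap 1 7 * .swap 1 6 * .swap 1 3 * .swap 1 4 * .swap 1 2, Equiv.Perm.mem_alternatingGroup.2 (by decide +kernel)⟩,
    by decide +kernel, by decide +kernel, by decide +kernel, by decide +kernel, by decide +kernel⟩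

theorem w7_alt {n : ℕ} (h : 8 ≤ n) : W7 (alternatingGroup (Fin n)) :=
  w7_A8.map (((Equiv.Perm.extendDomainHom (Fin.castLEEmb h).toEquivRange).comp (Subgroup.subtype _)).codRestrict _ fun x =>
    Equiv.Perm.mem_alternatingGroup.2 ((Equiv.Perm.sign_extendDomain x.1 _).trans x.2)) fun _ _ e =>
      Subtype.ext (Equiv.Perm.extendDomainHom_injective _ (congrArg Subtype.val e))

open H15 in
theorem w7_M22 : W7 Cfsg.Spor.M22 := by
  rw [M22_eq]
  obtain ⟨x, a, a'⟩ := inK_Fx (F := 8388609) (g := 0xbd9624c64c2b950ab661399e41d100) (by decide +kernel) (by decide +kernel)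
  obtain ⟨y, b, b'⟩ := inK_Fx (F := 8388609) (g := 0xbba4c9d5627d9548b521218a71c100) (by decide +kernel) (by decide +kernel)
  obtain ⟨w, c, c'⟩ := inK_Fx (F := 8388609) (g := 0xbb9929d04b2d9b58292138de434500) (by decide +kernel) (by decide +kernel)
  obtain ⟨h, d, d'⟩ := inK_Fx (F := 8388609) (g := 0xbbe50551912150ba85ae1cce648ac0) (by decide +kernel) (by decide +kernel)
  have k : ∀ {σ τ g g'}, Rep σ g → Rep τ g' → g = g' → σ = τ := fun p q e => p.unique (e ▸ q)
  exact ⟨⟨x, a⟩, ⟨y, b⟩, ⟨w, c⟩, ⟨h, d⟩, fun e => a'.ne_of_ap Rep.one (i := 1) (by decide) (by decide +kernel)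
    (congrArg Subtype.val e), Subtype.ext (k (a'.mul a') Rep.one (by decide +kernel)),
    Subtype.ext (eq_mul_inv_of_mul_eq (k (b'.mul d') (d'.mul a') (by decide +kernel))),
    Subtype.ext (eq_mul_inv_of_mul_eq (k (c'.mul d') (d'.mul b') (by decide +kernel))),
    Subtype.ext (eq_mul_inv_of_mul_eq (k ((a'.mul b').mul d') (d'.mul c') (by decide +kernel)))⟩

theorem w7_M23 : W7 Cfsg.Spor.M23 := w7_M22.map (inclusion inf_le_left) (inclusion_injective _)

variable {Q Q' : ℤ} {t t' : Bool} {k k' n : ℕ} {H' : Type*} [Group H']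

theorem lg_p (p : ℕ) [Fact p.Prime] (h : Odd p) (hn : 1 ≤ n) : LG n p (ProjectiveSpecialLinearGroup (Fin n) (ZMod p)) := by
  have := lg_PSL (F := ZMod p) (by rwa [ZMod.card]) hn
  rwa [ZMod.card] at this

theorem r19 : ∀ r : ZMod 19, r ^ 4 = 1 → r = 1 ∨ r = -1 := by decide

theorem LG.pe (h : LG 4 Q H) (a : Ty Q t 2) : PE H ↔ t = true := by
  have := h.fin
  have : Fact (Nat.Prime 19) := ⟨by decide⟩
  have : Fact (Nat.Prime 5) := ⟨by decide⟩
  have h4 : In 4 := .inr (.inr (.inl rfl))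
  cases t
  · simpa using mt (LG.fe h4 a ⟨le_rfl, 5, by decide, rfl⟩ h (lg_p 19 (by decide) (by decide))).pe
      (not_pe (big_of 19 (by decide)) r19)
  · simpa using (LG.fe h4 ⟨le_rfl, 1, by decide, rfl⟩ a (lg_p 5 (by decide) (by decide)) h).pe pe5

theorem LG.nw7 (h : LG 4 Q H) (a : Ty Q t 2) : ¬ W7 H := by
  have := h.fin
  have : Fact (Nat.Prime 29) := ⟨by decide⟩
  cases t
  · exact fun w => by simpa using (h.pe a).1 w.pe
  · exact mt (LG.fe (.inr (.inr (.inl rfl))) a ⟨le_rfl, 7, by decide, rfl⟩ h (lg_p 29 (by decide) (by decide))).w7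
      (not_w7 (big_of 29 (by decide)))

theorem LG.ty' (hn : n = 3 ∨ n = 4 ∨ n = 5) (a : Ty Q t k) (a' : Ty Q' t' k') (h : LG n Q H) (h' : LG n Q' H')
    (e : FE H H') : t' = t ∧ k' = k := by
  have := h.fin
  have := h'.fin
  refine (LG.ty hn a a' h h' e).elim id fun ⟨r, s, s', u⟩ => ?_
  subst r s s' u
  have := (h.pe a).symm.trans ((show PE H ↔ PE H' from ⟨e.pe, e.symm.pe⟩).trans (h'.pe a'))
  cases t <;> simp at this

/-- a group with Sylow 2-subgroups of order `2 ^ 7` and `W7` does not have the 2-fusion system of `PSL₄^ε(q)` -/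
theorem LG.nw [Finite G] (h : LG 4 Q H) (a : Ty Q t k) (e : FE G H) (c : (Nat.card G).factorization 2 = 7) : ¬ W7 G := by
  have := h.fin
  have o := e.fact
  rw [c, h.ord a (.inr (.inr (.inl rfl)))] at o
  obtain rfl : k = 2 := by cases t <;> simp [so] at o <;> omega
  exact mt e.w7 (h.nw7 a)

end H28.FE
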