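/-
The namespace `H28.K` speaks the ambient vocabulary of `H19` (and `H1`).
-/
import Cfsg.Agent.H1.SF11

namespace H28.K

export H19 (cj_zpowers cj_eq_iff card_mul_relIndex cj_le_iff cjEquiv conj_mem_cj cj_inj cj_bot PG
  cj_inv_cj cj_mono card_cj orderOf_conj' cj_lt_cj UniqMax cj_eq_top relIndex_pos cj_inf le_cj_iff
  cj_cj relIndex_cj cj_eq_bot cj_le_cj cj_le_of_mem cj_one cj_sup cj_cj_inv card_subgroupOf mem_cj
  cj_top card_sup_dvd)

export H1 (le_pCore le_pCoreOf SubnIn)

scoped notation:max (priority := high) "cj " g:max H:max => H19.cj g H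

end H28.K
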