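/-
Standard components of linear type in characteristic two, part 6: the product endgame, no fusion
between elements fixing and elements swapping the two components.
-/
import Cfsg.Agent.H28.SF5

set_option autoImplicit false
set_option linter.unusedSectionVars false

namespace H28.SF
open Cfsg Subgroup H19 H28.CY
open scoped commutatorElement

universe u
variable {G : Type u} [Group G] [Finite G] {A B D E F H K L M O P Q R S T V W X Y Z : Subgroup G}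
  {a b c d e g h i j k n r s t u v w x y z : G}
  {𝔄 : Type*} [Group 𝔄] [Finite 𝔄] {I U Γ : Subgroup 𝔄} {α β γ : 𝔄} {f : G → 𝔄} {C : Type*} [CommGroup C] {ρ : 𝔄 →* C}

theorem cm1 : a * b * a⁻¹ * b⁻¹ = 1 ↔ a * b = b * a := commutatorElement_eq_one_iff_mul_comm

theorem ex_st (hV : PG 2 V) (hS : PG 2 S) (l : A < V) (n0 : V ≤ N(A)) (n1 : S ≤ N(A)) (n2 : S ≤ N(V)) :
    ∃ g ∈ V, g ∉ A ∧ ∀ s ∈ S, g * s * g⁻¹ * s⁻¹ ∈ A := by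
  obtain ⟨x, hx, x1⟩ := exists_ne_one ((hV.quo A).meet_cent (hS.quo A) (quo_norms n2) fun e => l.not_ge ((quo_eq_bot_iff n0).1 e))
  obtain ⟨g, hg, rfl⟩ := mem_im.1 hx.1
  refine ⟨g, hg, fun k => x1 (qmk_eq_one.2 k), fun s hs => (qmk_eq_one (x := g * ⟨s, n1 hs⟩ * g⁻¹ * ⟨s, n1 hs⟩⁻¹)).1 ?_⟩
  rw [map_mul, map_mul, map_mul, map_inv, map_inv, ← mem_cent.1 hx.2 _ (mem_im_of (x := ⟨s, n1 hs⟩) hs)]; simp

/-- the data of the product endgame with a Sylow subgroup -/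
structure PS (I U Γ : Subgroup 𝔄) (ρ : 𝔄 →* C) (L : Subgroup G) (f : G → 𝔄) (t : G) (S : Subgroup G) : Prop
    extends PD I U Γ ρ L f t where
  hS : Syl 2 S N(G0 L t)
  tS : t ∈ S
  l : ∀ g ∈ S ⊓ M1 L t, f g ∈ U ⊔ Γ

namespace PS
variable (π : PS I U Γ ρ L f t S)
include π

theorem sylG : Syl 2 S ⊤ := π.uq.syl π.hS π.tS
theorem syl1 : Syl 2 (S ⊓ M1 L t) (M1 L t) := π.hS.inf_of_norm π.M1le (π.hS.le.trans π.nM1)
theorem tS1 (h : g ∈ S ⊓ M1 L t) : t * g * t⁻¹ ∈ S ⊓ M1 L t := ⟨jmem π.tS h.1, conj_mem_of_norm π.tN h.2⟩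
theorem tS1' (h : g ∈ S ⊓ M1 L t) : t⁻¹ * g * t ∈ S ⊓ M1 L t := by simpa [π.ti] using π.tS1 h
theorem nS1 : S ≤ N(S ⊓ M1 L t) := norms_inf le_normalizer (π.hS.le.trans π.nM1)
theorem lF (g : G) (h : g ∈ S ⊓ M1 L t) : FF f t g ∈ U.prod U ⊔ Γ.prod Γ := by
  obtain ⟨a, ha, b, hb, e1⟩ := π.τ.mem.1 (π.l g h)
  obtain ⟨c, hc, d, hd, e2⟩ := π.τ.mem.1 (π.l _ (π.tS1' h))
  exact (Prod.ext e1 e2 : FF f t g = (a, c) * (b, d)) ▸ mul_mem_sup ⟨ha, hc⟩ ⟨hb, hd⟩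
theorem inj (ha : a ∈ S ⊓ M1 L t) (hb : b ∈ S ⊓ M1 L t) (e : FF f t a = FF f t b) : a = b :=
  inv_mul_eq_one.1 ((π.hS.pi.elt (mul_mem (inv_mem (mem_inf.1 ha).1) hb.1)).e_eq_one (π.o.elt ((π.θF.eq ha.2 hb.2).1 e)))
theorem U1 : S ⊓ L ≤ S ⊓ M1 L t := inf_le_inf_left _ π.L1
theorem U2 : S ⊓ cj t L ≤ S ⊓ M1 L t := inf_le_inf_left _ π.L2
theorem cjU : cj t (S ⊓ L) = S ⊓ cj t L := by rw [cj_inf, cj_of_mem π.tS]
theorem lift (h : α ∈ U) : ∃ g ∈ S ⊓ L, f g = α :=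
  let ⟨g, hg, e⟩ := (π.θ.mono π.L1 inf_le_left).imU π.τ π.syl1 π.l h; ⟨g, ⟨hg.1.1, hg.2⟩, e⟩
theorem fU (h : g ∈ S ⊓ L) : f g ∈ U := π.τ.inf.le ⟨π.l g (π.U1 h), π.θ.into g h.2⟩
theorem lN : S ⊓ L ≤ N(L) := inf_le_right.trans le_normalizer
theorem imU : im π.θ.mul.hom (S ⊓ L) = U := le_antisymm
  (fun _ h => let ⟨_, hg, e⟩ := (π.θ.mul.mem_im π.lN).1 h; e ▸ π.fU hg) fun _ h => (π.θ.mul.mem_im π.lN).2 (π.lift h)
theorem dp : DP (S ⊓ L) (S ⊓ cj t L) :=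
  ⟨cents_mono π.c inf_le_right inf_le_right, eq_bot_iff.2 fun _ h => π.one h.1.2 h.2.2 (π.hS.pi.elt h.1.1)⟩
theorem mem1 (h : y ∈ S ⊓ M1 L t) (e1 : ρ (f y) = 1) (e2 : f (t⁻¹ * y * t) = 1) : y ∈ S ⊓ L := by
  obtain ⟨a, ha, e⟩ := π.lift (π.τ.memU (π.l y h) e1)
  exact π.inj (π.U1 ha) h (by rw [π.FL ha.2, FF, e, e2]) ▸ ha
theorem mem2 (h : y ∈ S ⊓ M1 L t) (e1 : f y = 1) (e2 : ρ (f (t⁻¹ * y * t)) = 1) : y ∈ S ⊓ cj t L :=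
  π.cjU ▸ mem_cj.2 (π.mem1 (π.tS1' h) e2 (by rwa [show t⁻¹ * (t⁻¹ * y * t) * t = (t * t)⁻¹ * y * (t * t) by group, π.tt,
    inv_one, one_mul, mul_one]))
theorem mem0 (h : y ∈ S ⊓ M1 L t) (e : ρ.prodMap ρ (FF f t y) = 1) : y ∈ S ⊓ L ⊔ S ⊓ cj t L := by
  obtain ⟨a, ha, e'⟩ := π.lift (π.τ.memU (π.l y h) (congrArg Prod.fst e))
  have m := mul_mem (inv_mem (π.U1 ha)) h
  have k := π.θF.mul _ (inv_mem (π.L1 ha.2)) _ h.2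
  rw [π.FL (inv_mem (mem_inf.1 ha).2), π.θ.mul.inv (π.lN ha), e'] at k
  rw [← mul_inv_cancel_left a y]
  exact mul_mem_sup ha (π.mem2 m ((congrArg Prod.fst k).trans (inv_mul_cancel _))
    ((congrArg (fun x => ρ x.2) k).trans (by simpa using congrArg Prod.snd e)))

theorem le2 (h1 : A ≤ S ⊓ L) (h2 : K ≤ L) (h : im π.θ.mul.hom A ≤ im π.θ.mul.hom K) : A ≤ K := fun _ hx =>
  π.θ.mem2 (h1 hx).2 (π.hS.pi.elt (h1 hx).1) h2 (h (π.θ.mul.mem_im' (h1.trans π.lN) hx))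
theorem imZ : im π.θ.mul.hom Z(S ⊓ L) ≤ Z(U) := by
  conv_rhs => rw [← π.imU]
  exact le_inf (im_mono inf_le_left) (im_cents inf_le_right)
theorem zd : Z(S ⊓ L) ≤ ⁅S ⊓ L, S ⊓ L⁆ := π.le2 inf_le_left ((der_le _).trans inf_le_right) (by
  rw [im_comm π.lN π.lN, π.imU]; exact π.imZ.trans π.p.zd)
theorem nc : ∃ a ∈ S ⊓ L, ∃ b ∈ S ⊓ L, a * a = 1 ∧ b * b = 1 ∧ a * b ≠ b * a := by
  obtain ⟨a, ha, b, hb, aa, bb, ne⟩ := π.p.nc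
  obtain ⟨x, hx, rfl⟩ := π.lift ha
  obtain ⟨y, hy, rfl⟩ := π.lift hb
  have k : ∀ {x}, x ∈ S ⊓ L → f x * f x = 1 → x * x = 1 := fun hx e => π.θ.eq2 (mul_mem hx hx).2 (one_mem _)
    (π.hS.pi.elt (mul_mem hx hx).1) PiN.e_one (by rw [π.θ.mul _ (π.lN hx) _ (π.lN hx), e, π.θ.mul.one])
  exact ⟨x, hx, y, hy, k hx aa, k hy bb, fun e => ne (by
    rw [← π.θ.mul _ (π.lN hx) _ (π.lN hy), e, π.θ.mul _ (π.lN hy) _ (π.lN hx)])⟩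

theorem ca1 (hA : A ≤ S ⊓ M1 L t) (hB : B ≤ S ⊓ M1 L t) (nA : S ⊓ L ≤ N(A)) (nB : S ⊓ L ≤ N(B)) (c : A ≤ C(B)) :
    (∀ y ∈ ⁅A, A⁆, f y = 1) ∨ ∀ y ∈ ⁅B, B⁆, f y = 1 := by
  have l : S ⊓ M1 L t ≤ N(L) := inf_le_right.trans inf_le_left
  have k : ∀ {A : Subgroup G}, A ≤ S ⊓ M1 L t → im π.θ.mul.hom A ≤ U ⊔ Γ := fun hA _ h =>
    let ⟨g, hg, e⟩ := (π.θ.mul.mem_im (hA.trans l)).1 h; e ▸ π.l g (hA hg)
  have k' : ∀ {A : Subgroup G}, A ≤ S ⊓ M1 L t → im π.θ.mul.hom A ≤ C(im π.θ.mul.hom A) → ∀ y ∈ ⁅A, A⁆, f y = 1 :=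
    fun hA h y hy => by
      have := π.θ.mul.mem_im' ((der_le _).trans (hA.trans l)) hy
      rwa [im_comm (hA.trans l) (hA.trans l), commg_eq_bot.2 h] at this
  exact (π.p.ca _ _ (k hA) (k hB) (π.imU.ge.trans (im_norms nA)) (π.imU.ge.trans (im_norms nB)) (im_cents c)).imp (k' hA) (k' hB)

theorem ca2 (hA : A ≤ S ⊓ M1 L t) (hB : B ≤ S ⊓ M1 L t) (nA : S ⊓ cj t L ≤ N(A)) (nB : S ⊓ cj t L ≤ N(B)) (c : A ≤ C(B)) :
    (∀ y ∈ ⁅A, A⁆, f (t⁻¹ * y * t) = 1) ∨ ∀ y ∈ ⁅B, B⁆, f (t⁻¹ * y * t) = 1 := by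
  have k : ∀ {A : Subgroup G}, S ⊓ cj t L ≤ N(A) → S ⊓ L ≤ N(cj t A) := fun h => by
    rw [← cj_norm, le_cj_iff, π.ti, π.cjU]; exact h
  have k' : ∀ {A : Subgroup G}, (∀ y ∈ ⁅cj t A, cj t A⁆, f y = 1) → ∀ y ∈ ⁅A, A⁆, f (t⁻¹ * y * t) = 1 := fun h y hy =>
    h _ (by rw [← cj_comm, π.mcj]; simpa [mul_assoc] using hy)
  exact (π.ca1 (cj_le_of_mem_norm (π.nS1 π.tS) hA) (cj_le_of_mem_norm (π.nS1 π.tS) hB) (k nA) (k nB)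
    (by rw [← cj_cent]; exact cj_mono t c)).imp k' k'

theorem nosw (hr : r ∈ N(G0 L t)) (r1 : r ∉ M1 L t) (hy : y ∈ S ⊓ L ∨ y ∈ S ⊓ cj t L) (c : r * y * r⁻¹ = y) : y = 1 := by
  rcases hy with h | h
  · exact π.one h.2 (π.swL hr r1 ▸ c ▸ conj_mem_cj.2 h.2) (π.hS.pi.elt h.1)
  · exact π.one (π.swL2 hr r1 ▸ c ▸ conj_mem_cj.2 h.2) h.2 (π.hS.pi.elt h.1)

theorem zcj (hk : k ∈ N(S ⊓ M1 L t)) (hz : z ∈ Z(S ⊓ L)) : k * z * k⁻¹ ∈ S ⊓ L ∨ k * z * k⁻¹ ∈ S ⊓ cj t L := by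
  have hA := cj_le_of_mem_norm hk π.U1
  have hB := cj_le_of_mem_norm hk π.U2
  have nn : ∀ {A : Subgroup G}, M1 L t ≤ N(A) → S ⊓ M1 L t ≤ N(cj k (S ⊓ A)) := fun h => by
    rw [← cj_norm, ← cj_of_mem_norm hk]
    exact cj_mono k (norms_inf (norms_of_le inf_le_left) (inf_le_right.trans h))
  have c : cj k (S ⊓ L) ≤ C(cj k (S ⊓ cj t L)) := (π.dp.J k).c
  have zA : k * z * k⁻¹ ∈ ⁅cj k (S ⊓ L), cj k (S ⊓ L)⁆ := by rw [← cj_comm]; exact conj_mem_cj.2 (π.zd hz)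
  have m := hA (der_le _ zA)
  have e := π.θF.der π.τ.prod (der_mono (hA.trans inf_le_right) zA)
  rcases π.ca1 hA hB (π.U1.trans (nn inf_le_left)) (π.U1.trans (nn inf_le_right)) c with h1 | h1
  · exact .inr (π.mem2 m (h1 _ zA) (congrArg Prod.snd e))
  rcases π.ca2 hA hB (π.U2.trans (nn inf_le_left)) (π.U2.trans (nn inf_le_right)) c with h2 | h2
  · exact .inl (π.mem1 m (congrArg Prod.fst e) (h2 _ zA))
  obtain ⟨a, ha, b, hb, -, -, ne⟩ := π.nc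
  have m' : ⁅k * (t * a * t⁻¹) * k⁻¹, k * (t * b * t⁻¹) * k⁻¹⁆ ∈ ⁅cj k (S ⊓ cj t L), cj k (S ⊓ cj t L)⁆ :=
    commutator_mem_commutator (conj_mem_cj.2 (π.cjU ▸ conj_mem_cj.2 ha)) (conj_mem_cj.2 (π.cjU ▸ conj_mem_cj.2 hb))
  have := π.inj (hB (der_le _ m')) (one_mem _) ((Prod.ext (h1 _ m') (h2 _ m')).trans π.θF.mul.one.symm)
  rw [commutatorElement_eq_one_iff_mul_comm, conj_mul, conj_mul, conj_mul, conj_mul] at this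
  exact (ne (by simpa using this)).elim

theorem idx (l : P ≤ N(G0 L t)) : #P ≤ 2 * #(P ⊓ M1 L t) := by
  rw [← card_inf_mul_relIndex (M1 L t) P, mul_comm, inf_comm]
  refine Nat.mul_le_mul_right _ (Nat.le_of_dvd two_pos ((relIndex_dvd_of_norm (l.trans π.nM1) π.M1le l).trans
    (relIndex_dvd_two_iff.2 ⟨t, π.tM, fun b hb => ?_⟩)))
  rw [π.mul2 hb π.tM]; have := π.t1; tauto

theorem sylz (hz : z ∈ Z(S ⊓ L)) (z1 : z ≠ 1) (c : S ⊓ M1 L t ≤ C[z]) : Syl 2 (S ⊓ M1 L t) C[z] := by_contra fun k => by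
  obtain ⟨P, h1, h2, h3, h4⟩ := π.syl1.pi.exists_lt_norm c k
  obtain ⟨k, hk, l⟩ := (π.sylG.of_le π.nS1 le_top).scj_le h4 h2
  obtain ⟨r, hr, r1⟩ := SetLike.exists_of_lt (cj_of_mem_norm hk ▸ (cj_lt_cj (g := k)).2 h1)
  have := cj_mono k h3 hr
  rw [cj_cent1, mem_cent1] at this
  exact z1 (conj_eq_one_iff.1 (π.nosw (π.hS.le (l hr)) (fun e => r1 ⟨l hr, e⟩) (π.zcj hk hz) (mul_inv_eq_iff_eq_mul.2 this)))

theorem tM1 (h : g * t * g⁻¹ ∈ M1 L t) : False :=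
  π.t1 ((π.cjM (inv_mem_iff.1 (π.uq g⁻¹ (by simpa using π.M1le h)))).1 h)

theorem ntz (hz : z ∈ Z(S ⊓ L)) (z1 : z ≠ 1) (c : S ⊓ M1 L t ≤ C[z]) (k : h * t * h⁻¹ ∈ C[g * z * g⁻¹]) : False := by
  rw [← cj_cent1, mem_cj] at k
  obtain ⟨x, -, l⟩ := (π.sylz hz z1 c).scj_le (zpowers_le.2 k) (piG_zpowers.2 (two_of_sq (cj_sq' (cj_sq π.tt h) g)))
  exact π.tM1 (g := x * g⁻¹ * h) (by simpa [mul_assoc] using (l (conj_mem_cj.2 (mem_zpowers _))).2)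

theorem dg (hw : w ∈ S ⊓ M1 L t) (ww : w * w = 1) (hr : r ∈ S) (r1 : r ∉ M1 L t) (c : r * w = w * r) :
    ∃ h, h * t * h⁻¹ ∈ C[w] := by
  have nO : N(G0 L t) ≤ N(C(G0 L t)) := norm_le_norm_cent _
  have m : t * r ∈ S ⊓ M1 L t := ⟨mul_mem π.tS hr, π.sw (π.hS.le hr) r1⟩
  obtain ⟨a, ha, b, hb, e⟩ := π.τ.mem.1 (π.l _ m)
  obtain ⟨l, hl, k⟩ := π.τ.nf _ (π.l _ hw) (π.θ.mul.sq hw.2.1 ww)
  obtain ⟨x, hx, e1⟩ := π.θ.sur _ (mul_mem (π.τ.UI ha) (mul_mem (π.τ.cjI b (inv_mem hl)) hl))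
  have e2 : f (t⁻¹ * w * t) = f (x * w * x⁻¹) := by
    rw [show t⁻¹ * w * t = t * r * w * (t * r)⁻¹ by rw [mul_assoc t, c, π.ti, mul_inv_rev, π.ti]; group,
      π.θ.mul.cnj m.2.1 hw.2.1, π.θ.mul.cnj (le_normalizer hx) hw.2.1, e, e1,
      show a * b * f w * (a * b)⁻¹ = a * b * l⁻¹ * b⁻¹ * (b * (l * f w * l⁻¹)) * l * (a * b)⁻¹ by group, mem_cent.1 k b hb]
    group
  have m1 := jmem (π.L1 hx) hw.2
  have e3 : FF f t (x * w * x⁻¹) = (f (x * w * x⁻¹), f (x * w * x⁻¹)) := by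
    refine Prod.ext rfl ?_
    rw [π.θF.mul.cnj (π.L1 hx) hw.2, π.FL hx, ← e2]; simp [FF]
  obtain ⟨o, -, k'⟩ := odd_comm π.o (nO π.tM) (nO (π.M1le m1)) (two_of_sq π.tt) (two_of_sq (cj_sq ww x)) (by
    simpa [mul_assoc] using (π.θF.eq (inv_mem (conj_mem_of_norm π.tN m1)) (inv_mem m1)).1
      (by rw [π.θF.mul.inv m1, π.θF.mul.inv (conj_mem_of_norm π.tN m1), π.Ft, e3, Prod.swap_prod_mk]))
  refine ⟨x⁻¹ * o, ?_⟩
  rw [← mem_cent1, ← cj_cent1, mem_cj] at k'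
  simpa [mul_assoc] using k'

theorem exV : ∃ V ≤ S ⊓ L, S ⊓ M1 L t ≤ N(V) ∧ (∀ v ∈ V, v * v = 1) ∧ 2 < #V := by
  obtain ⟨V, h1, h2, h3, h4⟩ := π.p.el
  have l : S ⊓ L ⊓ pre π.θ.mul.hom V ≤ N(L) := inf_le_left.trans π.lN
  refine ⟨S ⊓ L ⊓ pre π.θ.mul.hom V, inf_le_left, fun s hs => mem_norm_of fun x hx => ⟨⟨jmem hs.1 hx.1.1,
    conj_mem_of_norm hs.2.1 hx.1.2⟩, π.θ.mul.mem_pre.2 ⟨jmem hs.2.1 (l hx), ?_⟩⟩, fun x hx => ?_, h4.trans_le ?_⟩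
  · rw [π.θ.mul.cnj hs.2.1 (l hx)]; exact conj_mem_of_norm (h2 (π.l s hs)) (π.θ.mul.mem_pre.1 hx.2).2
  · exact π.θ.eq2 (mul_mem hx hx).1.2 (one_mem _) (π.hS.pi.elt (mul_mem hx hx).1.1) PiN.e_one
      (by rw [π.θ.mul _ (l hx) _ (l hx), h3 _ (π.θ.mul.mem_pre.1 hx.2).2, π.θ.mul.one])
  · refine (card_le fun α hα => ?_).trans (Nat.le_of_dvd (card_pos _) (card_im_dvd π.θ.mul.hom _))
    obtain ⟨g, hg, rfl⟩ := π.lift (h1 hα)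
    exact π.θ.mul.mem_im' l ⟨hg, π.θ.mul.mem_pre.2 ⟨π.lN hg, hα⟩⟩

theorem noMB (m : MB ⊤ S D (M1 L t)) : False := by
  obtain ⟨V, V1, V2, V3, V4⟩ := π.exV
  have pV := π.hS.pi.of_le (V1.trans inf_le_left)
  obtain ⟨z, hz, z1⟩ := exists_ne_one (pV.meet_cent π.syl1.pi V2 (ne_bot_iff_one_lt_card.2 (by omega)))
  have zz := V3 z hz.1
  have zU := V1 hz.1
  have zZ : z ∈ Z(S ⊓ L) := ⟨zU, cent_mono π.U1 hz.2⟩
  have zc : S ⊓ M1 L t ≤ C[z] := le_cent1_iff.2 hz.2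
  have zi := inv_eq_of_mul_eq_one_right zz
  obtain ⟨z2, hz2⟩ : ∃ z2, z2 = t * z * t⁻¹ := ⟨_, rfl⟩
  have zU2 : z2 ∈ S ⊓ cj t L := π.cjU ▸ hz2 ▸ conj_mem_cj.2 zU
  have zsw : ∀ r ∈ S, r ∉ M1 L t → r * z * r⁻¹ = z2 := fun r hr r1 => by
    have := mem_cent1.1 (zc ⟨mul_mem π.tS hr, π.sw (π.hS.le hr) r1⟩)
    rw [hz2, show r * z * r⁻¹ = t⁻¹ * (t * r * z) * r⁻¹ by group, this, π.ti]; group
  obtain ⟨u, hu⟩ : ∃ u, u = z * z2 := ⟨_, rfl⟩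
  have u1 : u ≠ 1 := fun e => z1 ((π.dp.memV zU zU2).1 (hu ▸ e ▸ one_mem _))
  have uu : u * u = 1 := by rw [hu, π.dp.mul4 zU2 zU, zz, hz2, cj_sq zz, one_mul]
  have ui := inv_eq_of_mul_eq_one_right uu
  have cz1 : ∀ d ∈ S, d ∈ M1 L t → z * d * z⁻¹ * d⁻¹ = 1 := fun d hd d1 => by rw [← mem_cent1.1 (zc ⟨hd, d1⟩)]; group
  have cz2 : ∀ d ∈ S, d ∉ M1 L t → z * d * z⁻¹ * d⁻¹ = u := fun d hd d1 => by rw [hu, ← zsw d hd d1, zi]; group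
  have cz3 : ∀ d ∈ S, z * d = d * z → d ∈ M1 L t := fun d hd e => by_contra fun k => u1 (by rw [← cz2 d hd k, e]; group)
  have uC : u ∈ C(S) := mem_cent.2 fun d hd => by
    have k : ∀ d ∈ S ⊓ M1 L t, d * u = u * d := fun d hd => by
      have := mem_cent1.1 (zc (π.tS1' hd))
      rw [hu, ← mul_assoc, mem_cent1.1 (zc hd), hz2, show z * d * (t * z * t⁻¹) = z * t * (t⁻¹ * d * t * z) * t⁻¹ by group, this]
      group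
    have kt : t * u = u * t := (mem_cent1.1 (hu ▸ hz2 ▸ diag_cent π.tt (π.cjU ▸ π.dp.c) zU)).symm
    by_cases h : d ∈ M1 L t
    · exact k d ⟨hd, h⟩
    · rw [← inv_mul_cancel_left t d, mul_assoc, k _ ⟨mul_mem π.tS hd, π.sw (π.hS.le hd) h⟩, ← mul_assoc, π.ti, kt, mul_assoc]
  have uS : u ∈ S := hu ▸ mul_mem (mem_inf.1 zU).1 zU2.1
  have uZ : u ∈ Z(D) := ⟨m.cent uS (cent_mono m.le uC), cent_mono m.le uC⟩
  have cz : ∀ {A : Subgroup G}, u ∈ A → ∀ d ∈ D, z * d * z⁻¹ * d⁻¹ ∈ A := fun h d hd => by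
    by_cases k : d ∈ M1 L t
    · rw [cz1 d (m.le hd) k]; exact one_mem _
    · rwa [cz2 d (m.le hd) k]
  have zN : z ∈ S ⊓ N(D) := ⟨zU.1, mem_norm_of fun d hd => by simpa using mul_mem (cz uZ.1 d hd) hd⟩
  by_cases hI : ∃ r ∈ Z(D), r * r = 1 ∧ r ∉ M1 L t
  · obtain ⟨r, hr, rr, r1⟩ := hI
    have zD : z ∉ D := fun k => r1 (cz3 r (m.le hr.1) (mem_cent.1 hr.2 z k))
    have l1 : D ≤ S ⊓ C[r] := le_inf m.le (le_cent1_iff.2 hr.2)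
    have l2 : S ⊓ C[r] ≤ D := by_contra fun k => by
      obtain ⟨a, ha, a1, a2⟩ := ex_sq (π.hS.pi.infl _) (lt_of_le_not_ge l1 k)
      obtain ⟨h, hh, d, hd, e⟩ := m.one_class ⟨ha.1.1, ha.2⟩ a1 a2 zN zD (zz ▸ one_mem _)
      have k1 := conj_mem_of_norm (norm_le_norm_center D hh.1.2) hr
      have k2 : z * d ∈ C[h * r * h⁻¹] := by rw [← e, ← cj_cent1]; exact conj_mem_cj.2 ha.1.2
      exact r1 ((hh.2 r hr.1).2 (cz3 _ (m.le k1.1) (mem_cent1.1 ((mul_mem_cancel_right (le_cent1_iff.2 k1.2 hd)).1 k2))))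
    have c1 : S ⊓ L ≤ C(cj r (S ⊓ L)) := by
      rw [cj_inf, cj_of_mem (m.le hr.1), π.swL (π.hS.le (m.le hr.1)) r1]; exact π.dp.c
    have uD := diag c1 (π.zd zZ) fun a ha => l2 ⟨mul_mem (mem_inf.1 ha).1 (jmem (m.le hr.1) ha.1), diag_cent rr c1 ha⟩
    rw [zsw r (m.le hr.1) r1, ← hu] at uD
    refine zD (m.rad2 (A := ⁅D, D⁆ ⊓ C(D)) (inf_le_left.trans (der_le D))
      (norms_inf (norms_der inf_le_right) (norms_cent inf_le_right)) zN (le_cent1_iff.1 fun x hx => zc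
        ⟨m.le (der_le D hx.1), π.derM (der_mono (m.le.trans π.hS.le) hx.1)⟩) (cz ⟨uD, uZ.2⟩))
  push Not at hI
  have zD : z ∈ D := m.rad2 (A := Ohm1 2 Z(D)) ((Ohm1_le _ _).trans inf_le_left)
    (inf_le_right.trans (norm_le_norm_Ohm1_center 2 D)) zN (le_cent1_iff.1 (Ohm1_le_iff.2 fun x hx xx =>
      zc ⟨m.le hx.1, hI x hx (by rwa [← pow_two])⟩)) (cz (mem_Ohm1 uZ (by rwa [pow_two])))
  have nd : ∀ g, ∀ r ∈ S, g * z * g⁻¹ ∈ S ⊓ M1 L t → r * (g * z * g⁻¹) = g * z * g⁻¹ * r → r ∈ M1 L t := fun g r hr h c =>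
    by_contra fun k => let ⟨_, e⟩ := π.dg h (cj_sq zz g) hr k c; π.ntz zZ z1 zc e
  have bad1 : ∀ n ∈ N(D), ¬ Gd (M1 L t) D n → n * z * n⁻¹ ∉ M1 L t ∧ n * u * n⁻¹ = u := fun n hn bad => by
    have wD := conj_mem_of_norm hn zD
    have h1 : n * z * n⁻¹ ∉ M1 L t := fun k => bad fun x hx => by
      have : n ∈ N(D ⊓ M1 L t) := mem_norm_of fun x hx => ⟨conj_mem_of_norm hn hx.1, nd n _ (m.le (conj_mem_of_norm hn hx.1))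
        ⟨m.le wD, k⟩ (by rw [conj_mul, conj_mul, mem_cent1.1 (zc ⟨m.le hx.1, hx.2⟩)])⟩
      exact ⟨fun k => (conj_mem_of_norm this (mi hx k)).2, fun k => by
        simpa [mul_assoc] using (conj_mem_of_norm' this (mi (conj_mem_of_norm hn hx) k)).2⟩
    refine ⟨h1, ?_⟩
    have h2 := cz2 _ (m.le wD) h1
    have h3 := cz (mem_zpowers u) _ (conj_mem_of_norm' hn zD)
    have h4 : n * (z * (n⁻¹ * z * n) * z⁻¹ * (n⁻¹ * z * n)⁻¹) * n⁻¹ = u := by rw [← ui, ← h2]; group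
    rcases (mem_zp uu).1 h3 with e | e <;> rw [e] at h4
    · exact (u1 (by simpa using h4.symm)).elim
    · exact h4
  obtain ⟨n, hn, bad⟩ := m.bad
  have Nu : ⊤ ⊓ N(D) ≤ N(zpowers u) := fun h hh => cent1_le_norm_zpowers u (by
    have k : ∀ n ∈ ⊤ ⊓ N(D), n ∉ MB.H0 ⊤ D (M1 L t) → n ∈ C[u] := fun n hn k =>
      mem_cent1.2 (mul_inv_eq_iff_eq_mul.1 (bad1 n hn.2 fun k' => k ⟨hn, k'⟩).2)
    by_cases h0 : h ∈ MB.H0 ⊤ D (M1 L t)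
    · exact (mul_mem_cancel_right (k n hn fun e => bad e.2)).1
        (k _ (mul_mem hh hn) fun e => bad ((mul_mem_cancel_left h0).1 e).2)
    · exact k h hh h0)
  obtain ⟨w1, nu⟩ := bad1 n hn.2 bad
  have cw : ∀ d ∈ D, n * z * n⁻¹ * d * (n * z * n⁻¹)⁻¹ * d⁻¹ ∈ zpowers u := fun d hd => by
    simpa [mul_assoc] using conj_mem_of_norm (Nu hn) (cz (mem_zpowers u) _ (conj_mem_of_norm' hn.2 hd))
  have nd' : ∀ g, g * z * g⁻¹ ∈ D ⊓ C[n * z * n⁻¹] → ∀ d ∈ D, d * (g * z * g⁻¹) = g * z * g⁻¹ * d → d ∈ C[n * z * n⁻¹] :=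
    fun g h d hd c => by
      have k1 := conj_mem_of_norm' hn.2 h.1
      have k2 := (mem_inf.1 h).2
      rw [← cj_cent1, mem_cj] at k2 ⊢
      refine zc ⟨m.le (conj_mem_of_norm' hn.2 hd), nd (n⁻¹ * g) _ (m.le (conj_mem_of_norm' hn.2 hd)) ?_ ?_⟩
      · simpa [mul_assoc] using mi (m.le k1) (cz3 _ (m.le k1) (mem_cent1.1 k2).symm)
      · simpa [mul_assoc] using congrArg (fun x => n⁻¹ * x * n) c
  have wD := conj_mem_of_norm hn.2 zD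
  have ww := cj_sq zz n
  obtain ⟨w, hw⟩ : ∃ w, w = n * z * n⁻¹ := ⟨_, rfl⟩
  rw [← hw] at w1 cw nd' wD ww
  have wi := inv_eq_of_mul_eq_one_right ww
  have wS := m.le wD
  have wU : ∀ {a}, a ∈ S ⊓ L → w * a * w⁻¹ ∈ S ⊓ cj t L := fun ha =>
    ⟨jmem wS ha.1, π.swL (π.hS.le wS) w1 ▸ conj_mem_cj.2 ha.2⟩
  have zw := cz2 w wS w1
  have red0 : ∀ p : G → Prop, (∀ d ∈ D, p d → p (d * z)) →
      (∀ d ∈ D, d ∈ M1 L t → d ∈ C[w] → p d) → ∀ d ∈ D, d ∈ M1 L t → p d := fun p p2 p3 d hd d1 => by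
    rcases (mem_zp uu).1 (cw d hd) with e | e
    · exact p3 d hd d1 (mem_cent1.2 (cm1.1 e).symm)
    · have := p2 _ (mul_mem hd zD) (p3 _ (mul_mem hd zD) (mul_mem d1 (π.U1 zU).2) (mem_cent1.2 (by
        rw [show d * z * w = d * (z * w * z⁻¹ * w⁻¹) * (w * z) by group, zw, mem_cent.1 uZ.2 d hd, ← e]; group)))
      rwa [mul_assoc, zz, mul_one] at this
  have dw : ∀ d ∈ D, d ∉ M1 L t → d * w ∈ M1 L t := fun d hd d1 =>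
    (π.mul2 (π.hS.le (m.le hd)) (π.hS.le wS)).2 (iff_of_false d1 w1)
  have red : ∀ p : G → Prop, (∀ d ∈ D, p d → p (d * w)) → (∀ d ∈ D, p d → p (d * z)) →
      (∀ d ∈ D, d ∈ M1 L t → d ∈ C[w] → p d) → ∀ d ∈ D, p d := fun p p1 p2 p3 d hd => by
    by_cases d1 : d ∈ M1 L t
    · exact red0 p p2 p3 d hd d1
    · have := p1 _ (mul_mem hd wD) (red0 p p2 p3 _ (mul_mem hd wD) (dw d hd d1))
      rwa [mul_assoc, ww, mul_one] at this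
  obtain ⟨a, ha, a1, a2⟩ := ex_st (A := zpowers z) pV π.syl1.pi (lt_of_le_of_ne (zpowers_le.2 hz.1) fun e => by
      rw [← e, Nat.card_zpowers, orderOf_eq_prime (p := 2) (by rw [pow_two, zz]) z1] at V4; omega)
    (V1.trans (π.U1.trans (zc.trans (cent1_le_norm_zpowers z)))) (zc.trans (cent1_le_norm_zpowers z)) V2
  have aU := V1 ha
  have aa := V3 a ha
  have ai := inv_eq_of_mul_eq_one_right aa
  have az := mem_cent1.1 (zc (π.U1 aU))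
  obtain ⟨g, hg⟩ : ∃ g, g = a * (w * a * w⁻¹) := ⟨_, rfl⟩
  have gS : g ∈ S ⊓ M1 L t := hg ▸ mul_mem (π.U1 aU) (π.U2 (wU aU))
  have gw : g * w = w * g := mem_cent1.1 (hg ▸ diag_cent ww (by
    rw [cj_inf, cj_of_mem wS, π.swL (π.hS.le wS) w1]; exact π.dp.c) aU)
  have gz := mem_cent1.1 (zc gS)
  have gd : ∀ d ∈ D, d ∈ M1 L t → d ∈ C[w] →
      g * d * g⁻¹ * d⁻¹ = a * d * a⁻¹ * d⁻¹ * (w * (a * d * a⁻¹ * d⁻¹) * w⁻¹) := fun d hd d1 d2 => by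
    have k1 : d * a⁻¹ * d⁻¹ ∈ S ⊓ L := ⟨jmem (m.le hd) (inv_mem (mem_inf.1 aU).1), conj_mem_of_norm d1.1 (inv_mem (mem_inf.1 aU).2)⟩
    have k2 : w * (d * a⁻¹ * d⁻¹) * w⁻¹ = d * (w * a * w⁻¹)⁻¹ * d⁻¹ := by
      rw [show w * (d * a⁻¹ * d⁻¹) * w⁻¹ = w * d * a⁻¹ * (w * d)⁻¹ by group, ← mem_cent1.1 d2]; group
    calc _ = a * (w * a * w⁻¹) * (d * a⁻¹ * d⁻¹ * (d * (w * a * w⁻¹)⁻¹ * d⁻¹)) := by rw [hg, π.dp.inv2 aU (wU aU)]; group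
      _ = _ := by rw [π.dp.mul4 (wU aU) k1, ← k2]; group
  have gu : ∀ d ∈ D, g * d * g⁻¹ * d⁻¹ ∈ zpowers u := red _
    (fun d _ k => by rwa [show g * (d * w) * g⁻¹ * (d * w)⁻¹ = g * d * g⁻¹ * (g * w) * g⁻¹ * (d * w)⁻¹ by group, gw,
      show g * d * g⁻¹ * (w * g) * g⁻¹ * (d * w)⁻¹ = g * d * g⁻¹ * d⁻¹ by group])
    (fun d _ k => by rwa [show g * (d * z) * g⁻¹ * (d * z)⁻¹ = g * d * g⁻¹ * (g * z) * g⁻¹ * (d * z)⁻¹ by group, gz,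
      show g * d * g⁻¹ * (z * g) * g⁻¹ * (d * z)⁻¹ = g * d * g⁻¹ * d⁻¹ by group])
    fun d hd d1 d2 => by
      rw [gd d hd d1 d2]
      rcases (mem_zp zz).1 (a2 d ⟨m.le hd, d1⟩) with e | e <;> rw [e]
      · simp
      · rw [zsw w wS w1, ← hu]; exact mem_zpowers u
  have gD : g ∈ D := m.rad2 (zpowers_le.2 uZ.1) Nu ⟨gS.1, mem_norm_of fun d hd => by
    simpa using mul_mem (zpowers_le.2 uZ.1 (gu d hd)) hd⟩ (cent_zpowers u ▸ le_cent1_iff.2 uC gS.1) gu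
  have gc : ∀ d ∈ D, d ∈ C[w] → g * d = d * g := fun d hd d2 => by
    rcases (mem_zp uu).1 (gu d hd) with e | e
    · exact cm1.1 e
    have e1 : a * n * z * (a * n)⁻¹ = g * w := by rw [hg, mul_assoc a _ w, inv_mul_cancel_right, hw, mul_inv_rev, ai]; group
    have := nd' (a * n) (e1 ▸ mul_mem (mi gD (mem_cent1.2 gw)) (mi wD (mem_cent1_self w))) _ (mul_mem hd zD) (by
      rw [e1, mul_assoc, ← mul_assoc z, ← gz, show d * (g * z * w) = d * g * (z * w * z⁻¹ * w⁻¹) * (w * z) by group, zw,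
        mem_cent.1 uZ.2 _ (mul_mem hd gD), ← e, mul_assoc g w, ← mul_assoc w, ← mem_cent1.1 d2]
      group)
    exact (w1 (cz3 w wS (mem_cent1.1 ((mul_mem_cancel_left d2).1 this)))).elim
  have gZ : g ∈ Z(D) := ⟨gD, mem_cent.2 (red _ (fun d _ k => by rw [mul_assoc, ← gw, ← mul_assoc, k, mul_assoc])
    (fun d _ k => by rw [mul_assoc, ← gz, ← mul_assoc, k, mul_assoc]) fun d hd _ d2 => (gc d hd d2).symm)⟩
  have ac0 : ∀ d ∈ D, d ∈ M1 L t → a * d = d * a := red0 _ (fun d _ k => by rw [← mul_assoc, k, mul_assoc, az, mul_assoc])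
    fun d hd d1 d2 => by
      have k := gd d hd d1 d2
      have k1 := zpowers_le.2 zU (a2 d ⟨m.le hd, d1⟩)
      rw [cm1.2 (gc d hd d2), eq_comm] at k
      exact cm1.1 (π.dp.uniq k1 (wU k1) (one_mem _) (one_mem _) (k.trans (mul_one 1).symm)).1
  have ac : ∀ d ∈ D, a * d * a⁻¹ * d⁻¹ ∈ Z(D) ∧ (d ∈ M1 L t → a * d = d * a) := fun d hd => ⟨by
    by_cases d1 : d ∈ M1 L t
    · rw [cm1.2 (ac0 d hd d1)]; exact one_mem _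
    · rw [← mul_inv_cancel_right d w, ← mul_assoc, ← mul_assoc, mul_assoc a, ac0 _ (mul_mem hd wD) (dw d hd d1),
        show d * w * a * w⁻¹ * a⁻¹ * (d * w * w⁻¹)⁻¹ = d * (a * (w * a⁻¹ * w⁻¹))⁻¹ * d⁻¹ by group, ai, ← hg]
      exact conj_mem_of_norm (norm_le_norm_center D (le_normalizer hd)) (inv_mem gZ), ac0 d hd⟩
  have aD : a ∈ D := m.rad2 (A := Z(D)) inf_le_left (inf_le_right.trans (norm_le_norm_center D))
    ⟨aU.1, mem_norm_of fun d hd => by simpa using mul_mem (mem_inf.1 (ac d hd).1).1 hd⟩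
    (mem_cent.2 fun d hd => ((ac d hd.1).2 (cz3 d (m.le hd.1) (mem_cent.1 hd.2 z zD))).symm) fun d hd => (ac d hd).1
  have := inv_mem (cw a aD)
  rw [show (w * a * w⁻¹ * a⁻¹)⁻¹ = a * (w * a⁻¹ * w⁻¹) by group] at this
  rcases (mem_zp uu).1 this with e | e
  · exact a1 ((π.dp.uniq aU (wU (inv_mem aU)) (one_mem _) (one_mem _) (e.trans (mul_one 1).symm)).1 ▸ one_mem _)
  · exact a1 ((π.dp.uniq aU (wU (inv_mem aU)) zU zU2 (e.trans hu)).1 ▸ mem_zpowers _)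

end PS

end H28.SF
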