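/-
Standard components of linear type in characteristic two, part 7: the product endgame.
-/
import Cfsg.Agent.H28.SF6
import Mathlib.GroupTheory.Focal

set_option autoImplicit false
set_option linter.unusedSectionVars false

namespace H28.SF
open Cfsg Subgroup H19 H28.CY
open scoped commutatorElement

universe u
variable {G : Type u} [Group G] [Finite G] {A B D E F H K L M O P Q R S T V W X Y Z : Subgroup G}
  {a b c d e g h i j k n r s t u v w x y z : G}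
  {𝔄 : Type*} [Group 𝔄] [Finite 𝔄] {I U Γ : Subgroup 𝔄} {α β γ : 𝔄} {f : G → 𝔄} {C : Type*} [CommGroup C] {ρ : 𝔄 →* C}

theorem Fa.J (h : Fa X A B) (g : G) : Fa (cj g X) (cj g A) (cj g B) where
  zd := by rw [← cj_cent, ← cj_inf, ← cj_comm]; exact cj_mono g h.zd
  ci := fun D E c e => (h.ci (cj g⁻¹ D) (cj g⁻¹ E) (by rw [← cj_cent]; exact cj_mono _ c)
    (by rw [← cj_sup, e, cj_inv_cj])).imp (fun k => by rw [← k, cj_cj_inv]) fun k => by rw [← k, cj_cj_inv]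
  der := by
    rw [← cj_cent, ← cj_cent, ← cj_inf, ← cj_inf, ← cj_norm, ← cj_inf, ← cj_comm]; exact cj_mono g h.der
  nc := let ⟨a, ha, b, hb, aa, bb, ne⟩ := h.nc
    ⟨_, conj_mem_cj.2 ha, _, conj_mem_cj.2 hb, cj_sq aa g, cj_sq bb g, by simpa using ne⟩

namespace PS
variable (π : PS I U Γ ρ L f t S)
include π

theorem derS (h : x ∈ S) (k : x ∈ ⁅(⊤ : Subgroup G), (⊤ : Subgroup G)⁆) : x ∈ M1 L t := by
  have := Fact.mk Nat.prime_two
  obtain ⟨P, rfl⟩ := π.sylG.exists_sylow_top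
  have k1 := (commutator_inf_eq_focalSubgroup P).le ⟨k, h⟩
  rw [focalSubgroup_def] at k1
  refine (Subgroup.closure_le (M1 L t)).2 ?_ k1
  rintro g ⟨hg, x, hx, u, e⟩
  change g ∈ M1 L t
  rw [e, commutatorElement_def, mul_assoc, mul_assoc, ← mul_assoc u] at hg ⊢
  have h1 := (mul_mem_cancel_left hx).1 hg
  refine (π.mul2 (π.hS.le hx) (π.hS.le h1)).2 (inv_mem_iff.symm.trans (by_contra fun k => ?_))
  obtain ⟨D, m⟩ := exists_MB (𝒰 := M1 L t) π.sylG (fun s hs y _ => (π.cjM (π.hS.le hs)).symm) (inv_mem hx) (mem_top u) h1 k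
  exact π.noMB m

variable (nX : X.Normal) (pX : X ≤ ⁅X, X⁆) (LX : L ≤ X)
include nX pX

theorem sylX : Syl 2 (S ⊓ X) (X ⊓ N(G0 L t)) :=
  (π.sylG.inf_normal normalIn_top).of_le (le_inf inf_le_right (inf_le_left.trans π.hS.le)) inf_le_left

theorem XM : X ⊓ N(G0 L t) ≤ M1 L t := fun x hx => by
  obtain ⟨y, o, e, -, y2, o2, y1, o1⟩ := parts x
  have l := zpowers_le.2 hx
  obtain ⟨k, hk, l'⟩ := (π.sylX nX pX).scj_le (zpowers_le.2 (l y1)) (piG_zpowers.2 y2)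
  have := l' (conj_mem_cj.2 (mem_zpowers y))
  exact e ▸ mul_mem ((π.cjM hk.2).1 (π.derS this.1 (der_mono le_top (pX this.2))))
    (mem_of_odd o2 ((π.mul2 (l o1).2 (l o1).2).2 Iff.rfl))

include LX

theorem GX : G0 L t ≤ X := sup_le LX (cj_le_of_mem_norm ((normalIn_top (H := X)).norm (mem_top t)) LX)

theorem key (φ : C →* C) (hy : y ∈ S ⊓ X) (yy : y * y = 1) (e : FF f t y = (γ, γ))
    (h : ∀ s ∈ X ⊓ N(G0 L t), s * s = 1 → EE I (f s) * EE I (f (t⁻¹ * s * t)) = EE I γ * EE I γ →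
      φ (ρ (f s)) = φ (ρ (f (t⁻¹ * s * t)))) : φ (ρ γ) = 1 := by
  have XM := π.XM nX pX
  have nX' : ∀ g, g ∈ N(X) := fun g => (normalIn_top (H := X)).norm (mem_top g)
  have yH := (π.sylX nX pX).le hy
  have y1 : y ∈ S ⊓ M1 L t := ⟨hy.1, XM yH⟩
  have yt : t * y = y * t := mul_inv_eq_iff_eq_mul.1 (π.inj (π.tS1 y1) y1 (by rw [π.Ft, e, Prod.swap_prod_mk]))
  obtain ⟨P, hP, tP⟩ := (piG_zpowers.2 (two_of_sq π.tt)).exists_syl (zpowers_le.2 (mem_cent1.2 yt))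
  have PM : P ≤ N(G0 L t) := by
    obtain ⟨k, -, l⟩ := π.sylG.sle_cj le_top hP.pi
    exact l.trans (cj_le_of_mem (π.uq k (π.hS.le (mem_cj.1 (l (tP (mem_zpowers t)))))) π.hS.le)
  have hQ := hP.inf_normal (inf_normal_of_norm (H := X) fun g _ => nX' g)
  rw [show P ⊓ (X ⊓ C[y]) = P ⊓ X from le_antisymm (inf_le_inf_left _ inf_le_left)
    (le_inf inf_le_left (le_inf inf_le_right (inf_le_left.trans hP.le)))] at hQ
  have sz : ∀ g ∈ X, cj g⁻¹ (P ⊓ X) ≤ N(G0 L t) → g⁻¹ * y * g ∈ X ⊓ N(G0 L t) →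
      #(P ⊓ X) * #(U.prod U) = EE (I.prod I) (FF f t (g⁻¹ * y * g)) * e2 (X ⊓ N(G0 L t)) := fun g hg l m => by
    have h1 := hQ.J g⁻¹
    rw [cj_inf g⁻¹ X, cj_of_mem (inv_mem hg), cj_cent1, inv_inv] at h1
    rw [← π.θF.size π.o' π.τ.prod (le_inf (π.GX nX pX LX) le_normalizer) XM m (cj_sq' yy g), e2_eq (h1.of_le
      (le_inf (le_inf (h1.le.trans inf_le_left) l) (h1.le.trans inf_le_right)) (inf_le_inf_right _ inf_le_left)), card_cj]
  have yP : y ∈ P ⊓ X := hQ.mem_of_norm ⟨hy.2, mem_cent1_self y⟩ (two_of_sq yy)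
    (cent_le_norm _ (le_cent1_iff.1 (hQ.le.trans inf_le_right)))
  have s1 := sz 1 (one_mem _) (by simpa using inf_le_left.trans PM) (by simpa using yH)
  rw [inv_one, one_mul, mul_one, e] at s1
  rw [← show f y = γ from congrArg Prod.fst e]
  refine trT (κ := fun g => φ (ρ (f g))) (nX' t) π.tM π.tt π.uq ((π.θ.mul.mu (φ.comp ρ)).mono (XM.trans inf_le_left)) (pX hy.2) yy yt
    hQ.pi hQ.le yP (inf_le_left.trans PM) (norms_inf (norms_of_le tP) (fun g _ => nX' g) (mem_zpowers t)) fun g hg l => ?_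
  have m : g⁻¹ * y * g ∈ X ⊓ N(G0 L t) := mi (mul_mem (mul_mem (inv_mem hg) (mem_inf.1 hy).2) hg)
    (l (mem_cj_inv.2 (by simpa [mul_assoc] using yP)))
  have s2 := (sz g hg l m).symm.trans s1
  rw [FF, π.EEp, π.EEp] at s2
  rw [show ∀ s, t * s * t⁻¹ = t⁻¹ * s * t from fun s => by rw [π.ti],
    ← h _ m (cj_sq' yy g) (Nat.eq_of_mul_eq_mul_right (e2_pos _) s2), ← map_mul, ← map_mul,
    π.θ.mul.sq (XM m).1 (cj_sq' yy g), map_one, map_one]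

theorem dia (hy : y ∈ S ⊓ X) (h1 : FF f t y ∈ Γ.prod Γ) (h2 : FF f t y * FF f t y = 1) :
    ∃ z ∈ S ⊓ X, z * z = 1 ∧ FF f t z = ((FF f t y).1 * (FF f t y).2, (FF f t y).1 * (FF f t y).2) := by
  have y1 : y ∈ S ⊓ M1 L t := ⟨hy.1, π.XM nX pX ((π.sylX nX pX).le hy)⟩
  have m := mul_mem y1 (π.tS1 y1)
  have c := mem_cent.1 (π.τ.ab h1.1) _ h1.2
  have e : FF f t (y * (t * y * t⁻¹)) = ((FF f t y).1 * (FF f t y).2, (FF f t y).1 * (FF f t y).2) := by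
    rw [π.θF.mul _ y1.2 _ (π.tS1 y1).2, π.Ft]; exact Prod.ext rfl c
  refine ⟨_, ⟨m.1, mul_mem (mem_inf.1 hy).2 (nX.conj_mem y hy.2 t)⟩, π.inj (mul_mem m m) (one_mem _) ?_, e⟩
  have : (FF f t y).1 * (FF f t y).2 * ((FF f t y).1 * (FF f t y).2) = 1 := by
    rw [mul_assoc, ← mul_assoc _ (FF f t y).1, c, mul_assoc, show (FF f t y).2 * _ = 1 from congrArg Prod.snd h2, mul_one]
    exact congrArg Prod.fst h2
  rw [π.θF.mul _ m.2 _ m.2, e, π.θF.mul.one]; exact Prod.ext this this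

theorem SX : S ⊓ X = S ⊓ L ⊔ S ⊓ cj t L := by
  have XM := π.XM nX pX
  have l1 : S ⊓ X ≤ S ⊓ M1 L t := le_inf inf_le_left ((π.sylX nX pX).le.trans XM)
  refine le_antisymm (fun x hx => π.mem0 (l1 hx) (by_contra fun k => ?_))
    (sup_le (inf_le_inf_left _ LX) (inf_le_inf_left _ (le_sup_right.trans (π.GX nX pX LX))))
  obtain ⟨φ, hφ⟩ := π.p.k0
  have sq : ∀ {s}, s ∈ M1 L t → s * s = 1 → f s * f s = 1 ∧ f (t⁻¹ * s * t) * f (t⁻¹ * s * t) = 1 := fun h e =>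
    ⟨π.θ.mul.sq h.1 e, π.θ2.mul.sq h.2 e⟩
  have st1 : ∀ y ∈ S ⊓ X, y * y = 1 → ∀ γ, FF f t y = (γ, γ) → φ (ρ γ) = 1 := fun y hy yy γ e => by_contra fun k =>
    k (π.key nX pX LX φ hy yy e fun s hs ss e' => (hφ γ _ _ ((show f y = γ from congrArg Prod.fst e) ▸ (sq (l1 hy).2 yy).1)
      (sq (XM hs) ss).1 (sq (XM hs) ss).2 e').1 k)
  have st2 : ∀ s ∈ X ⊓ N(G0 L t), s * s = 1 → φ (ρ (f s)) = φ (ρ (f (t⁻¹ * s * t))) := fun s hs ss => by
    obtain ⟨k, hk, l⟩ := (π.sylX nX pX).scj_le (zpowers_le.2 hs) (piG_zpowers.2 (two_of_sq ss))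
    have m := l (conj_mem_cj.2 (mem_zpowers s))
    obtain ⟨a, ha, b, hb, e⟩ := π.τ.prod.mem.1 (π.lF _ (l1 m))
    obtain ⟨g, hg, rfl⟩ := π.θF.imU π.τ.prod π.syl1 π.lF ha
    have e1 : FF f t (g⁻¹ * (k * s * k⁻¹)) = b := by
      rw [π.θF.mul _ (inv_mem (mem_inf.1 hg.1).2) _ (l1 m).2, π.θF.mul.inv hg.1.2, e, inv_mul_cancel_left]
    have e2 : ρ.prodMap ρ b = ρ.prodMap ρ (FF f t s) := by
      rw [← π.τ.prod.ρcj (FF f t s) (FF f t k), ← π.θF.mul.cnj (XM hk) (XM hs), e, map_mul, π.τ.prod.ρI _ (π.τ.prod.UI ha), one_mul]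
    have b2 : b * b = 1 := π.τ.prod.ρΓ _ (mul_mem hb hb) (by rw [map_mul, e2, ← map_mul, π.θF.mul.sq (XM hs) ss, map_one])
    obtain ⟨z, hz, zz, e3⟩ := π.dia nX pX LX (mul_mem (inv_mem (mi hg.1.1 (π.GX nX pX LX hg.2))) m) (e1 ▸ hb) (e1 ▸ b2)
    have := st1 z hz zz _ e3
    rw [e1, map_mul, map_mul, show ρ b.1 = ρ (f s) from congrArg Prod.fst e2,
      show ρ b.2 = ρ (f (t⁻¹ * s * t)) from congrArg Prod.snd e2] at this
    rw [eq_inv_of_mul_eq_one_left this, inv_eq_iff_mul_eq_one, ← map_mul, ← map_mul, (sq (XM hs) ss).2, map_one, map_one]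
  have st3 : ∀ y ∈ S ⊓ X, y * y = 1 → ∀ γ ∈ Γ, FF f t y = (γ, γ) → γ = 1 := fun y hy yy γ hγ e =>
    π.τ.ρΓ γ hγ (by_contra fun k => k (π.key nX pX LX (MonoidHom.id C) hy yy e fun s hs ss e' =>
      (hφ γ _ _ ((show f y = γ from congrArg Prod.fst e) ▸ (sq (l1 hy).2 yy).1)
        (sq (XM hs) ss).1 (sq (XM hs) ss).2 e').2 (st1 y hy yy γ e) k (st2 s hs ss)))
  obtain ⟨y, hy, yy, y1, y2⟩ := π.θF.ex_gam π.τ.prod π.o' π.syl1 π.lF (π.GX nX pX LX) ⟨l1 hx, hx.2⟩ k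
  have y3 := π.θF.mul.sq hy.1.2 yy
  obtain ⟨z, hz, zz, e⟩ := π.dia nX pX LX ⟨hy.1.1, hy.2⟩ y1 y3
  have h1 := st3 z hz zz _ (mul_mem (mem_prod.1 y1).1 y1.2) e
  have h2 : (FF f t y).2 = (FF f t y).1 := by
    rw [eq_inv_of_mul_eq_one_right h1, inv_eq_iff_mul_eq_one]; exact congrArg Prod.fst y3
  have h3 := st3 y ⟨hy.1.1, hy.2⟩ yy _ y1.1 (Prod.ext rfl h2)
  exact y2 (Prod.ext h3 (h2.trans h3))

theorem fa : Fa X (S ⊓ L) (S ⊓ cj t L) where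
  zd := π.zd
  ci := fun A B c e => by
    have hA := le_sup_left.trans e.le
    have hB := le_sup_right.trans e.le
    have k : ∀ {A B : Subgroup G}, A ≤ C(B) → A ⊔ B = S ⊓ L → (∀ y ∈ ⁅B, B⁆, f y = 1) → A = S ⊓ L := fun {A B} c e h => by
      have hB := le_sup_right.trans e.le
      have ab : ⁅B, B⁆ = ⊥ := eq_bot_iff.2 fun y hy => π.θ.eq2 (hB (der_le _ hy)).2 (one_mem _)
        (π.hS.pi.elt (hB (der_le _ hy)).1) PiN.e_one ((h y hy).trans π.θ.mul.one.symm)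
      have := (le_inf hB (e ▸ cents_sup (cents_symm c) (commg_eq_bot.1 ab))).trans π.zd
      rw [← e, der_sup_cent (cents_symm c), ab, sup_bot_eq] at this
      rw [← e, sup_eq_left.2 (this.trans (der_le A))]
    exact (π.ca1 (hA.trans π.U1) (hB.trans π.U1) (e ▸ sup_le le_normalizer (norms_of_cents (cents_symm c)))
      (e ▸ sup_le (norms_of_cents c) le_normalizer) c).symm.imp (k c e) (k (cents_symm c) (sup_comm A B ▸ e))
  der := by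
    have l : L ⊓ N(Z(S ⊓ L)) ≤ N(L) := inf_le_left.trans le_normalizer
    refine (π.le2 (K := ⁅L ⊓ N(Z(S ⊓ L)), L ⊓ N(Z(S ⊓ L))⁆) le_rfl ((der_le _).trans inf_le_left) ?_).trans
      (der_mono (inf_le_inf_right _ (le_inf LX (cents_mono π.c le_rfl inf_le_right))))
    rw [π.imU, im_comm l l]
    refine π.p.der.trans (der_mono fun α h => ?_)
    obtain ⟨a, ha, rfl⟩ := π.θ.sur α h.1
    refine π.θ.mul.mem_im' l ⟨ha, mem_norm_of fun z hz => ?_⟩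
    have k := conj_mem_of_norm h.2 (π.imZ (π.θ.mul.mem_im' (inf_le_left.trans π.lN) hz))
    obtain ⟨y, hy, e⟩ := π.lift k.1
    rw [← π.θ.eq2 hy.2 (jmem ha hz.1.2) (π.hS.pi.elt hy.1) ((π.hS.pi.elt hz.1.1).e_conj a)
      (e.trans (π.θ.mul.cnj (le_normalizer ha) (π.lN hz.1)).symm)]
    refine ⟨hy, mem_cent.2 fun x hx => π.θ.eq2 (mul_mem hx hy).2 (mul_mem hy hx).2 (π.hS.pi.elt (mul_mem hx hy).1)
      (π.hS.pi.elt (mul_mem hy hx).1) ?_⟩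
    rw [π.θ.mul _ (π.lN hx) _ (π.lN hy), π.θ.mul _ (π.lN hy) _ (π.lN hx), e]
    exact mem_cent.1 k.2 _ (π.fU hx)
  nc := π.nc

end PS

/-- the product endgame -/
theorem pe (π : PD I U Γ ρ L f t) (nX : X.Normal) (sX : H17.GS.Sim X) (LX : L ≤ X) : False := by
  obtain ⟨S, hS, tS⟩ := (piG_zpowers.2 (two_of_sq π.tt)).exists_syl (zpowers_le.2 π.tM)
  obtain ⟨β, l⟩ := π.θ.ex_tw π.τ (hS.pi.infl (M1 L t)) (inf_le_right.trans inf_le_left)
  have π' : PS I U Γ ρ L _ t S := ⟨π.tw β, hS, tS (mem_zpowers t), l⟩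
  have pX : X ≤ ⁅X, X⁆ := ((sX.cases (der_le X) (der_normal X).norm).resolve_left fun e => sX.nab (comm_iff_der.2 e)).ge
  have f1 := π'.fa nX pX LX
  have f2 := f1.J t
  rw [π'.cjU, ← π'.cjU, π.cjt, (normalIn_top (H := X)).cj_eq (mem_top t), π'.cjU] at f2
  exact pl sX (π'.SX nX pX LX ▸ π'.sylG.inf_normal normalIn_top) π'.dp (by rw [← π'.cjU, card_cj]) f1 f2

end H28.SF
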