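import Cfsg.Agent.H28.MS2

/-! S5899, chunk MBK. -/

set_option autoImplicit false
set_option linter.unusedSectionVars false

namespace H28.MS
open Cfsg Subgroup H18 H17.GS H28.S H2.GW H27.MS
open H19 hiding eq_bot_mono
open H28.NG hiding Hyp Uniq Ch
open scoped MatrixGroups

universe u

theorem card_iso {G : Type u} [Group G] [Finite G] {N Q : Subgroup G} (q : Q ≤ N) {X : Type*} [Group X] {π : N →* X}
    (su : Function.Surjective π) (k : ∀ g : N, π g = 1 ↔ (g : G) ∈ Q) : #N = Nat.card X * #Q := by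
  have e : π.ker = Q.subgroupOf N := Subgroup.ext k
  rw [← π.ker.index_mul_card, index_ker, MonoidHom.range_eq_top.2 su, card_top, e,
    Nat.card_congr (subgroupOfEquivOfLe q).toEquiv]

theorem nt13 : ∀ q < 207, 7 ≤ q → q % 5 = 2 ∨ q % 5 = 3 → q ^ 2 - 1 ∣ 42840 → q % 2 = 1 → q = 13 := by decide +kernel

theorem mbk : MBK.{u} := by
  intro G _ _ N Q T V₀ V a f kl s iv
  obtain ⟨F, _, _, q, rfl, hq, π, su, k⟩ := kl.po
  have t1 : π ⟨a, iv.1⟩ ≠ 1 := fun e => iv.2.1 ((k _).1 e)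
  have t2 : π ⟨a, iv.1⟩ * π ⟨a, iv.1⟩ = 1 := (map_mul π _ _).symm.trans ((k _).2 iv.2.2)
  have c := card_iso f.nq.le su k
  have c2 := H11.card_psl_two (F := F)
  have I : ∀ {e r j : ℕ}, r.Prime → r ≠ 2 → Eb V₀ V a e → (∃ x : PSL(2, F), orderOf x = r ^ (j + 1) ∧
      π ⟨a, iv.1⟩ * x * (π ⟨a, iv.1⟩)⁻¹ = x⁻¹) → ∃ d, 1 ≤ d ∧ d ≤ e ∧ r ^ (j + 1) ∣ 4 ^ d - 1 :=
    fun hr r2 b ⟨x, o, i⟩ => inv f s su k (a := ⟨a, iv.1⟩) iv.2.2 hr r2 o i b
  have P : ∀ {e p : ℕ}, p.Prime → p % 4 = 1 → Fintype.card F = p → Eb V₀ V a e → ∃ d, 1 ≤ d ∧ d ≤ e ∧ p ∣ 4 ^ d - 1 :=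
    fun hp h4 h b => by
      simpa using I (j := 0) hp (by omega) b (by simpa using psl_invp (h ▸ h4) t1 t2 hp (h ▸ dvd_rfl))
  have h5 : Fintype.card F = 5 ∨ Odd (Fintype.card F) ∧ 7 ≤ Fintype.card F ∧
      (Fintype.card F % 5 = 2 ∨ Fintype.card F % 5 = 3) := by
    rcases hq with ⟨r, hr, r2, e⟩ | ⟨hp, h, h'⟩ | h
    · obtain ⟨m, rfl⟩ := hr.odd_of_ne_two r2
      have m1 : 1 ≤ m := Nat.pos_of_ne_zero fun q => Nat.not_prime_one (by simpa [q] using hr)
      refine .inr (e ▸ ⟨Odd.pow (by decide), le_trans (by norm_num) (Nat.pow_le_pow_right (by norm_num)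
        (show 2 ≤ 2 * m + 1 by omega)), ?_⟩)
      have : ∀ m, 3 ^ (2 * m + 1) % 5 = 2 ∨ 3 ^ (2 * m + 1) % 5 = 3 := fun m => by
        induction m with
        | zero => simp
        | succ m ih => rw [show 2 * (m + 1) + 1 = 2 * m + 1 + 2 by ring, pow_add]; omega
      exact this m
    · have := hp.odd_of_ne_two (by omega)
      exact .inr ⟨this, by obtain ⟨_, e⟩ := this; omega, h'⟩
    · exact .inl h
  have M : Eb V₀ V a 4 → Fintype.card F = 5 := fun b => h5.resolve_right fun ⟨ho, h7, h5⟩ => by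
    have g : Nat.gcd 2 (Fintype.card F - 1) = 2 := Nat.gcd_eq_left (Nat.Odd.sub_odd ho odd_one).two_dvd
    have sq : Fintype.card F ^ 2 - 1 = (Fintype.card F + 1) * (Fintype.card F - 1) := Nat.sq_sub_sq _ 1
    have dv : Fintype.card F ^ 2 - 1 ∣ 42840 := (Nat.dvd_iff_prime_pow_dvd_dvd _ _).2 fun r j hr h => by
      rcases j with _ | j
      · simp
      by_cases r2 : r = 2
      · subst r2
        by_contra n
        have j3 : 4 ≤ j + 1 := by
          by_contra! l
          exact n ((pow_dvd_pow 2 (Nat.le_of_lt_succ l)).trans (by norm_num))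
        rw [g] at c2
        have h8 : 2 ^ 4 ∣ 2 * Nat.card PSL(2, F) := c2 ▸ ((pow_dvd_pow 2 j3).trans h).mul_left _
        have e := f.syl.card_mul
        rw [c, kl.card, mul_right_comm] at e
        have e := Nat.eq_of_mul_eq_mul_right (card_pos Q) e
        have := Nat.odd_iff.1 (odd_iff_pi.2 f.syl.idx)
        omega
      have od : Odd (r ^ (j + 1)) := (hr.odd_of_ne_two r2).pow
      have : 2 * r ^ (j + 1) ∣ Fintype.card F - 1 ∨ 2 * r ^ (j + 1) ∣ Fintype.card F + 1 := by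
        have e1 := (Nat.Odd.sub_odd ho odd_one).two_dvd
        have e2 := (ho.add_odd odd_one).two_dvd
        have co := Nat.coprime_two_left.2 od
        rw [sq] at h
        by_cases d1 : r ∣ Fintype.card F + 1
        · refine .inr (co.mul_dvd_of_dvd_of_dvd e2 (Nat.Coprime.dvd_of_dvd_mul_right (Nat.Coprime.pow_left _
            (hr.coprime_iff_not_dvd.2 fun d2 => r2 ((Nat.prime_dvd_prime_iff_eq hr Nat.prime_two).1 ?_))) h))
          have := Nat.dvd_sub d1 d2
          rwa [show Fintype.card F + 1 - (Fintype.card F - 1) = 2 by omega] at this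
        · exact .inl (co.mul_dvd_of_dvd_of_dvd e1
            (((hr.coprime_iff_not_dvd.2 d1).pow_left _).dvd_of_dvd_mul_left h))
      obtain ⟨d, d1, d4, h⟩ := I hr r2 b (psl_inv ho t1 t2 (le_trans (hr.two_le.lt_of_ne' r2)
        (Nat.le_self_pow (by omega) r)) this)
      refine h.trans ?_
      interval_cases d <;> norm_num
    have lt : Fintype.card F < 207 := by
      have := Nat.le_of_dvd (by norm_num) dv
      by_contra! l
      have := Nat.pow_le_pow_left l 2
      omega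
    obtain ⟨d, d1, d4, h⟩ := P (by norm_num) rfl (nt13 _ lt h7 h5 dv (Nat.odd_iff.1 ho)) b
    interval_cases d <;> norm_num at h
  refine ⟨fun b => ?_, fun b => ?_⟩
  · obtain ⟨d, d1, d4, h⟩ := P Nat.prime_five rfl (M (eb_mono b (by norm_num))) b
    interval_cases d
    norm_num at h
  · rw [M b] at c2
    rw [c, show Nat.card PSL(2, F) = 60 by norm_num at c2; omega]

end H28.MS
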