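import Cfsg.Agent.H28.FE5

/-! The 2-fusion system of `PSL_n^ε(q)`, `3 ≤ n ≤ 5`, determines the 2-parts of `εq ± 1`: exponent and order. -/

set_option autoImplicit false

namespace H28.FE
open Matrix Subgroup H28 SemidirectProduct Equiv

variable {X G H H' : Type*} [Group X] [Group G] [Group H] [Group H'] {m m' n k k' : ℕ} {Q Q' : ℤ} {t t' : Bool}

/-- the 2-elements have order at most `2 ^ m` -/
def Ex (G : Type*) [Group G] (m : ℕ) : Prop := ∀ (g : G) (j : ℕ), g ^ 2 ^ j = 1 → g ^ 2 ^ m = 1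

theorem Ex.mono (h : Ex G m) (e : m ≤ m') : Ex G m' := fun g j hg => by
  obtain ⟨d, rfl⟩ := Nat.exists_eq_add_of_le e
  rw [pow_add, pow_mul, h g j hg, one_pow]

theorem zp_pg {g : G} (h : g ^ 2 ^ m = 1) : IsPGroup 2 (zpowers g) := by
  rintro ⟨_, i, rfl⟩
  exact ⟨m, Subtype.ext (by rw [coe_pow, coe_one, ← zpow_natCast, ← _root_.zpow_mul, mul_comm, _root_.zpow_mul,
    zpow_natCast, h, _root_.one_zpow])⟩

theorem FE.sub [Finite G] (e : FE G H) {U : Subgroup G} (h : IsPGroup 2 U) : ∃ f : U →* H, Eqv U.subtype f :=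
  e.ex _ (by rwa [range_subtype])

theorem FE.exp [Finite G] (e : FE G H) (h : Ex H m) : Ex G m := fun g j hg => by
  obtain ⟨f, hf⟩ := e.sub (zp_pg hg)
  have := h (f ⟨g, mem_zpowers g⟩) j (by rw [← map_pow, show (⟨g, mem_zpowers g⟩ : zpowers g) ^ 2 ^ j = 1 from
    Subtype.ext hg, map_one])
  rw [← map_pow] at this
  exact hf.one.2 this

theorem ex_iff [Finite H] {i : X →* H} (s : IsSylowIn 2 i.range ⊤) : Ex H m ↔ ∀ x, i (x ^ 2 ^ m) = 1 := by
  refine ⟨fun h x => ?_, fun h g j hg => ?_⟩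
  · obtain ⟨j, hj⟩ := s.isPGroup ⟨i x, x, rfl⟩
    rw [map_pow, h _ j (congrArg Subtype.val hj)]
  · obtain ⟨y, -, hy⟩ := s.exists_conj_le (zp_pg hg) le_top
    obtain ⟨x, hx⟩ := hy (conj_mem_cj (mem_zpowers g))
    have := h x
    rwa [map_pow, hx, conj_pow, conj_eq_one_iff] at this

variable {A : Type} [CommGroup A] {g : A} {w : Wr (Fin n) A}

theorem pow_r (w : Wr (Fin n) A) (e : ℕ) : (w ^ e).right = w.right ^ e := by
  rw [← rightHom_eq_right, map_pow, rightHom_eq_right]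

theorem pow_l (h : w.right = 1) (e : ℕ) (i : Fin n) : (w ^ e).left i = w.left i ^ e := by
  induction e with
  | zero => simp
  | succ e ih => rw [pow_succ', mul_l, h, pow_succ', ← ih]; rfl

theorem pow_l2 (h : w.right * w.right = 1) (e : ℕ) (i : Fin n) :
    (w ^ 2 ^ (e + 1)).left i = (w.left i * w.left (w.right⁻¹ i)) ^ 2 ^ e := by
  rw [pow_succ', pow_mul, pow_l (by rw [sq, mul_right, h]), sq, mul_l]

theorem ex_true (a : Ty Q true k) (h : LG n Q H) (hn : In n) : Ex H (k + if n = 5 then 2 else 1) := by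
  have := h.fin
  obtain ⟨A, _, g, c, i, s, z⟩ := h.model hn a
  refine (ex_iff s).2 fun x => (z _).2 ?_
  have d : ∀ e, x.1.right ^ 2 ^ e = 1 → (x ^ 2 ^ (k + e)).1 ∈ Zs (Fin n) A := fun e he => by
    have b : (x.1 ^ 2 ^ e).right = 1 := by rw [pow_r, he]
    have u : ∀ j, (x.1 ^ 2 ^ e).left j ^ 2 ^ k = 1 := fun j => by
      have := (x ^ 2 ^ e).2.1.2.2 j
      rw [a.zp c, coe_pow] at this
      simpa [bb] using this
    rw [coe_pow, add_comm, pow_add, pow_mul]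
    exact ⟨by rw [pow_r, b, one_pow], fun i j => by rw [pow_l b, pow_l b, u, u]⟩
  have b := x.2.1.1
  rcases hn with rfl | rfl | rfl | rfl
  · exact d 1 ((by decide : ∀ σ : Perm (Fin 2), σ ^ 2 ^ 1 = 1) _)
  · exact d 1 ((by decide : ∀ σ : Perm (Fin 3), b0 3 * σ = σ * b0 3 → σ ^ 2 ^ 1 = 1) _ b)
  · refine ((by decide +kernel : ∀ σ : Perm (Fin 4), b0 4 * σ = σ * b0 4 → σ ^ 2 ^ 1 = 1 ∨ σ ^ 4 = 1 ∧ ∀ i j,
      j = i ∨ j = σ⁻¹ i ∨ j = σ⁻¹ (σ⁻¹ i) ∨ j = σ⁻¹ (σ⁻¹ (σ⁻¹ i))) _ b).elim (d 1) fun ⟨e, f⟩ => ?_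
    obtain ⟨k, rfl⟩ := Nat.exists_eq_add_of_le' a.1
    rw [coe_pow, show 2 ^ (k + 2 + if 4 = 5 then 2 else 1) = 4 * 2 ^ (k + 1) by simp; ring, pow_mul]
    have r : (x.1 ^ 4).right = 1 := by rw [pow_r, e]
    have u : ∀ i, (x.1 ^ 4).left (x.1.right⁻¹ i) = (x.1 ^ 4).left i := fun i => by
      have := congrArg (fun w : Wr (Fin 4) A => w.left i) (pow_mul_comm' x.1 4)
      simp only [mul_l, r] at this
      exact mul_left_cancel (this.symm.trans (mul_comm _ _))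
    refine pow_mem (show x.1 ^ 4 ∈ Zs _ A from ⟨r, fun i j => ?_⟩) _
    rcases f i j with rfl | rfl | rfl | rfl <;> simp only [u]
  · exact d 2 ((b0_facts (.inr (.inr (.inr rfl)))).2.2.1 _ b)

theorem ex_false (a : Ty Q false k) (h : LG n Q H) (hn : n = 3 ∨ n = 4 ∨ n = 5) :
    ¬ Ex H (k + if n = 5 then 1 else 0) := by
  have := h.fin
  obtain ⟨A, _, g, c, i, s, z⟩ := h.model (.inr hn) a
  obtain ⟨k, rfl⟩ := Nat.exists_eq_add_of_le' (one_le_two.trans a.1)
  have z1 := c.z1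
  have zz := c.zz
  have gQ := a.zp c g
  have gz : g ^ 2 ^ (k + 1) = g ^ 2 ^ (k + 1) := rfl
  generalize hz : g ^ 2 ^ (k + 1) = y at z1 zz gQ
  have yi : y⁻¹ = y := inv_eq_of_mul_eq_one_right zz
  have y2 : y ^ 2 ^ (k + 1) = 1 := by rw [pow_succ', pow_mul, sq, zz, one_pow]
  have yQ : y ^ Q = y := by simp [a.zp c, y2, yi]
  have e1 : (y * g⁻¹) ^ 2 ^ (k + 1) = y := by rw [mul_pow, y2, inv_pow, hz, yi, one_mul]
  have e2 : (y * g⁻¹) ^ Q = g := by simp [a.zp c, e1, mul_comm g, ← mul_assoc]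
  have e3 : g * (y * g⁻¹) = y := mul_inv_cancel_comm_assoc _ _
  simp only [Bool.false_eq_true, if_false] at gQ
  have b4 : b0 4 * swap 2 3 = swap 2 3 * b0 4 := by decide
  have b5 : b0 5 * (swap 0 2 * swap 1 3) = swap 0 2 * swap 1 3 * b0 5 := by decide
  rw [ex_iff s]
  intro h
  replace h : ∀ x ∈ Xs A (b0 n) (bb n false) Q ⊓ D0 c n, x ^ 2 ^ (k + 1 + if n = 5 then 1 else 0) ∈ Zs (Fin n) A :=
    fun x hx => (z _).1 (h ⟨x, hx⟩)
  rcases hn with rfl | rfl | rfl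
  · have := (h ⟨![g, y * g⁻¹, y], 1⟩ ⟨⟨.one_right _, .one_right _, fun i => by
      fin_cases i <;> simp [bb, b0, gQ, e2, yQ, swap_apply_def]⟩, by
        simp [D0, Fin.prod_univ_three, e3, zz]⟩).2 0 2
    rw [pow_l rfl, pow_l rfl] at this
    simp [hz, y2, z1] at this
  · have := (h ⟨![g, y * g⁻¹, 1, 1], swap 2 3⟩ ⟨⟨b4, b4, fun i => by
      fin_cases i <;> simp [bb, b0, gQ, e2, swap_apply_def]⟩, by
        simp [D0, Fin.prod_univ_four, e3, hz]⟩).2 0 2
    rw [if_neg (by decide), add_zero, pow_l2 (by exact Equiv.swap_mul_self _ _),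
      pow_l2 (by exact Equiv.swap_mul_self _ _)] at this
    simp [swap_apply_def, ← sq, ← pow_mul, ← pow_succ', hz, z1] at this
  · have := (h ⟨![g, y * g⁻¹, 1, 1, y], swap 0 2 * swap 1 3⟩ ⟨⟨b5, b5, fun i => by
      fin_cases i <;> simp [bb, b0, gQ, e2, yQ, swap_apply_def]⟩, by
        simp [D0, Fin.prod_univ_five, e3, zz]⟩).2 0 4
    have : swap 0 2 * swap 1 3 * (swap 0 2 * swap 1 3) = (1 : Perm (Fin 5)) := by decide
    rw [if_pos rfl, pow_l2 this, pow_l2 this] at *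
    simp [swap_apply_def, zz, hz, z1] at *

/-- the exponent of the 2-part of `|PSL_n^ε(q)|` -/
def so (n : ℕ) (t : Bool) (k : ℕ) : ℕ :=
  if n = 2 then k else if n = 3 then (if t then 2 * k + 1 else k + 2) else if n = 4 then
    (if t then 3 * k + 1 else 2 * k + 3) else if t then 4 * k + 3 else 2 * k + 5

theorem LG.ord (h : LG n Q H) (a : Ty Q t k) (hn : In n) : (Nat.card H).factorization 2 = so n t k := by
  obtain ⟨K, G, G₀, _, _, _, _, _, ρ, Fr, f, -, -, d, e, -⟩ := h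
  have v := a.vals.1
  have k2 := a.1
  have : (Q - 1).natAbs ≠ 0 := fun h => by
    rw [Int.natAbs_eq_zero.1 h] at v
    cases t <;> simp at v; omega
  rw [d, a.sum hn, Nat.factorization_gcd (by rcases hn with rfl | rfl | rfl | rfl <;> decide) this, Finsupp.inf_apply,
    Nat.factorization_def (Q - 1).natAbs Nat.prime_two, show padicValNat 2 (Q - 1).natAbs = _ from v, v] at e
  have f2 : (2 : ℕ).factorization 2 = 1 := Nat.prime_two.factorization_self
  have f3 : (3 : ℕ).factorization 2 = 0 := Nat.factorization_eq_zero_of_not_dvd (by decide)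
  have f5 : (5 : ℕ).factorization 2 = 0 := Nat.factorization_eq_zero_of_not_dvd (by decide)
  have f4 : (4 : ℕ).factorization 2 = 2 := by
    simpa using congrArg (· 2) (Nat.prime_two.factorization_pow (k := 2))
  rcases hn with rfl | rfl | rfl | rfl <;> cases t <;> simp [va, so, f2, f3, f4, f5] at e ⊢ <;> omega

theorem LG.ty (hn : n = 3 ∨ n = 4 ∨ n = 5) (a : Ty Q t k) (a' : Ty Q' t' k') (h : LG n Q H) (h' : LG n Q' H')
    (e : FE H H') : t' = t ∧ k' = k ∨ n = 4 ∧ k = 2 ∧ k' = 2 ∧ t' = !t := by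
  have := h.fin
  have := h'.fin
  have o := e.fact
  rw [h.ord a (.inr hn), h'.ord a' (.inr hn)] at o
  have k2 := a.1
  have k2' := a'.1
  cases t <;> cases t'
  · rcases hn with rfl | rfl | rfl <;> simp [so] at o ⊢ <;> omega
  · have := mt (e.exp (ex_true a' h' (.inr hn))).mono (ex_false a h hn)
    rcases hn with rfl | rfl | rfl <;> simp [so] at o this ⊢ <;> omega
  · have := mt (e.symm.exp (ex_true a h (.inr hn))).mono (ex_false a' h' hn)
    rcases hn with rfl | rfl | rfl <;> simp [so] at o this ⊢ <;> omega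
  · rcases hn with rfl | rfl | rfl <;> simp [so] at o ⊢ <;> omega

end H28.FE
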