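/-
S0500: the configuration `A2` when `z` is conjugate to the other involutions of `Q Q'`.
-/
import Cfsg.Agent.H28.GH6
import Cfsg.Agent.S3102
import Cfsg.Agent.S1742
import Cfsg.Agent.S1776
import Cfsg.Agent.S3100

set_option autoImplicit false
set_option linter.unusedSectionVars false

open Cfsg Subgroup H17.GS
open H19 hiding eq_bot_mono RR
open H17.T (R2)
open H26.PS (Qg PQ rP cP rQ cQ sQ Pc Qle)
open scoped H26.PS
open H2.Ov (zp_par zp_nsq zp_gen zp_two zp_mem zp_inv zp_cen zp_total zp_comm pe2 inv2 sq_mul2)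
open H23 (ZC sec_le)
namespace H28.GH
universe u
variable {G : Type u} [Group G]
set_option hygiene false in
scoped notation "𝐔" => zpowers z ⊔ zpowers (r ^ 2 ^ j * r' ^ 2 ^ j)

variable [Finite G] {i j n m : ℕ} {z r s r' s' a b c d e f g k p q t u v w x y ω : G}
  {A B E H K K' L O P S T Q : Subgroup G}

theorem ecm (hE : ∀ a ∈ E, a * a = 1) (ha : a ∈ E) (hb : b ∈ E) : a * b = b * a := by
  rw [← inv2 (hE _ (mul_mem ha hb)), mul_inv_rev, inv2 (hE a ha), inv2 (hE b hb)]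
theorem Ch.stepE (h : Ch ⊥ A n) (hE : ∀ a ∈ E, a * a = 1) (l : A ≤ E) (hx : x ∈ E) (k : x ∉ A) :
    Ch ⊥ (A ⊔ zpowers x) (n + 1) :=
  h.step k (hE x hx) fun a ha => by rw [ecm hE hx (l ha)]; simp
theorem Ch.cd (h : Ch ⊥ A n) : #A = 2 ^ n := by rw [h.card, card_bot, one_mul]
theorem card_two (h : ∀ a ∈ A, ∀ b ∈ A, a ∉ B → b ∉ B → a * b ∈ B) : #A ≤ #(A ⊓ B) * 2 := by
  by_cases m : A ≤ B
  · rw [inf_eq_left.2 m]; omega
  obtain ⟨a, ha, k⟩ := SetLike.not_le_iff_exists.1 m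
  rw [← relIndex_eq_two_iff_exists_notMem_and'.2 ⟨a, ha, k, fun b hb => (or_iff_not_imp_left.2 (h a ha b hb k)).symm⟩,
    inf_comm, card_inf_mul_relIndex]
theorem Qt.chZ (h : Qt j z r s) : Ch ⊥ 𝐙 1 :=
  bot_sup_eq 𝐙 ▸ (Ch.zero ⊥).stepE (fun _ => h.Zsq) bot_le rP h.z1
theorem Qt.adj0 (h : Qt 0 z r s) (he : e ∈ 𝐍) (k : e ∉ 𝐃) : ∃ a ∈ 𝐐, a * e * r = r * (a * e) ∧ a * e * s * (a * e)⁻¹ = r * s := by
  obtain ⟨a, ha, o⟩ := (h.adj he).1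
  rw [pow_zero, pow_one, mul_inv_eq_iff_eq_mul] at o
  have n := mul_mem (h.QN' ha) he
  have m := h.outN n sQ h.sP'
  have m' := mt (h.D_of n sQ h.sP') (mt (mul_mem_cancel_left (le_Dz ha)).1 k)
  rcases h.sq4 m (by_contra fun o => m' (h.ZF (h.mz.2 ((h.sq0 (PQ m)).imp_right (·.resolve_right o))))) with o' | o' <;>
    rw [pow_zero, pow_one, mul_inv_eq_iff_eq_mul] at o'
  · exact ⟨a, ha, o, o'⟩
  · exact ⟨r * a, mul_mem rQ ha, by rw [mul_assoc r a, mul_assoc, o], by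
      rw [mul_assoc r a, ← conj_conj', o', mul_inv_cancel_left, ← inv_mul_cancel_right (s * _) s, h.sP (inv_mem rP), inv_inv]⟩

namespace Pr
variable (h : Pr S T j z r s z r' s' x)
include h

theorem nZ' : S ≤ N(𝐙) := fun _ ha => cent1_le_norm_zpowers z (h.Sz ha)
theorem memU : y ∈ 𝐔 ↔ y ∈ 𝐙 ∨ y * (𝐮) ∈ 𝐙 := mem_sup_invol h.uu (h.nZ' (h.YS h.uY))
theorem UY : 𝐔 ≤ 𝐘𝐘 := sup_le h.ZY (zpowers_le.2 h.uY)
theorem chU : Ch ⊥ (𝐔) 2 := h.q.chZ.step h.uZ h.uu fun a ha => by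
  rw [h.Zs (h.YS h.uY) ha, mul_inv_cancel_right, mul_inv_cancel]; exact one_mem _
theorem cu (ha : a ∈ S) : a * (𝐮) * a⁻¹ = 𝐮 ∨ a * (𝐮) * a⁻¹ = 𝐮 * z := by
  have k : ∀ {c}, c * c = z → a * c * a⁻¹ * (a * c * a⁻¹) = z := fun o => by
    rw [conj_mul, o, h.zs ha, mul_inv_cancel_right]
  rw [← conj_mul]
  by_cases m : a ∈ T
  · exact h.PPu (conj_mem_of_norm (h.n m).2 cP) (conj_mem_of_norm (h.n' m).2 cP) (k h.q.rz) (k h.q'.rz)
  · rw [← h.cm (h.swap.uq ha m cQ) (h.uq ha m cQ)]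
    exact h.PPu (h.swap.up ha m cP) (h.up ha m cP) (k h.q'.rz) (k h.q.rz)
theorem nU : S ≤ N(𝐔) := fun a ha => mem_norm_of_cj_le (by
  rw [cj_sup, cj_of_mem_norm (h.nZ' ha), cj_zpowers]
  refine sup_le le_sup_left (zpowers_le.2 ?_)
  rcases h.cu ha with o | o <;> rw [o]
  exacts [mem_sup_right rP, mul_mem (mem_sup_right rP) (mem_sup_left rP)])
theorem PU (hp : p ∈ 𝐏) (hq : q ∈ 𝐏') (k : p * q * (p * q) = 1) : p * q ∈ 𝐔 := by
  rw [h.mm (PQ hq) (PQ hp)] at k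
  rcases h.q.mz.1 (h.spl (PQ (mul_mem hp hp)) (PQ (mul_mem hq hq)) (k ▸ one_mem _)).1 with o | o <;> rw [o] at k
  · exact mem_sup_left (mul_mem (h.q.sqZ (PQ hp) o) (h.q'.sqZ (PQ hq) (one_mul (q * q) ▸ k)))
  · rcases h.PPu hp hq o (by rw [eq_inv_of_mul_eq_one_right k, h.q.zi]) with e | e <;> rw [e]
    exacts [mem_sup_right rP, mul_mem (mem_sup_right rP) (mem_sup_left rP)]
theorem ez (hb : b ∈ 𝐐') (hy : y ∈ 𝐐) (k : y ∉ 𝐏) (hp : p ∈ 𝐏) : p * (y * b) * p⁻¹ * (y * b)⁻¹ = p * p := by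
  rw [← conj_mul, h.swap.cja (PQ hp) hb, h.q.cjo hy k hp]; group
theorem nE0 (l : E ≤ S) (nE : S ≤ N(E)) (hE : ∀ a ∈ E, a * a = 1) (c : #E = 8) : E ≤ 𝐘𝐘 := fun v hv => by
  have f : ∀ a ∈ S, ∀ v ∈ E, a * v * a⁻¹ * v⁻¹ ∈ E := fun a ha v hv => mul_mem (conj_mem_of_norm (nE ha) hv) (inv_mem hv)
  have vT : v ∈ T := by_contra fun m => by
    have f' : ∀ a ∈ 𝐐, a * (v * a⁻¹ * v⁻¹) ∈ E := fun a ha => by simpa only [mul_assoc] using f a (h.QS ha) v hv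
    have q : ∀ a ∈ 𝐐, v * a⁻¹ * v⁻¹ ∈ 𝐐' := fun a ha => h.uq (l hv) m (inv_mem ha)
    have e := (h.ez (q s sQ) sQ h.q.sP' cP).trans h.q.rz
    have zE := zpowers_le.2 (e ▸ f _ (h.QS cQ) _ (f' s sQ))
    have l1 := sup_le zE (zpowers_le.2 (f' _ (cQ (j := j))))
    have l2 := sup_le l1 (zpowers_le.2 (f' s sQ))
    have := card_le_of_le (sup_le l2 (zpowers_le.2 hv))
    rw [(((h.q.chZ.stepE hE zE (f' _ cQ) (h.nZ cQ (q _ cQ) h.q.rz)).stepE hE l1 (f' s sQ) fun o => h.q.z1 ?_).stepE hE l2 hv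
      (mt (sup_le (sup_le (zpowers_le.2 h.zT) (zpowers_le.2 (h.YT (mul_mem_sup cQ (q _ cQ)))))
        (zpowers_le.2 (h.YT (mul_mem_sup sQ (q s sQ)))) ·) m)).cd] at this
    · omega
    · rw [← e, ← mem_cent1.1 (sup_le (zpowers_le.2 (mem_cent1.2 (h.q.zq cQ).symm)) (zpowers_le.2 (mem_cent1.2
        (by rw [mul_assoc, ← h.cm cQ (q _ cQ)]))) o), mul_inv_cancel_right, mul_inv_cancel]
  have k : ∀ {r s}, Qt j z r s → 𝐐 ≤ S → T ≤ (𝐍) → v ∈ 𝐃 := fun q l n => by_contra fun m =>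
    mt (q.D_of (n vT) sQ q.sP') m (q.ZF (q.sqZ (PQ (q.outN (n vT) sQ q.sP')) (hE _ (by
      simpa [mul_assoc] using inv_mem (f _ (l sQ) v hv)))))
  exact h.delta (l hv) (k h.q h.QS h.n) (k h.q' h.QS' h.n')
theorem nE1 (nE : S ≤ N(E)) (hE : ∀ a ∈ E, a * a = 1) (ha : a ∈ 𝐐) (hb : b ∈ 𝐐') (k : a ∉ 𝐏) (hv : a * b ∈ E) :
    j = 0 ∧ (∀ e ∈ T, e ∈ 𝐃 ↔ e ∈ 𝐃') ∧ x * x ∈ 𝐘𝐘 := by
  have f : ∀ y ∈ S, y * (a * b) * y⁻¹ * (a * b)⁻¹ ∈ E := fun y hy => mul_mem (conj_mem_of_norm (nE hy) hv) (inv_mem hv)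
  obtain rfl : j = 0 := by
    rcases j with _ | i
    · rfl
    refine (h.q.cc1 ?_).elim
    rw [pow_succ', pow_mul, ← (Commute.refl _).mul_pow, sq, hE _ (h.ez hb ha k rP ▸ f r (h.QS rQ)), one_pow]
  have t1 : ∀ e ∈ T, e ∉ 𝐃 → e * b * e⁻¹ * b⁻¹ ∉ 𝐅' := fun e he m o => by
    rw [h.q'.rz0] at o
    have p := h.q.outN (h.n he) ha k
    refine mt (h.q.D_of (h.n he) ha k) m (h.q.ZF (h.q.sqZ (PQ p) ?_))
    have := hE _ (f e (h.le he))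
    rwa [show e * (a * b) * e⁻¹ * (a * b)⁻¹ = e * a * e⁻¹ * ((e * b * e⁻¹ * b⁻¹) * a⁻¹) by group,
      ← h.Zs (inv_mem (h.QS ha)) o, ← mul_assoc _ a⁻¹, h.mm (h.q'.ZQ o) (PQ p), h.q.Zsq o, mul_one] at this
  have t2 : ∀ e ∈ T, e ∈ 𝐃' → e ∈ 𝐃 := fun e he m => by_contra fun o => t1 e he o (h.q'.DF m hb)
  have dg : ∀ e ∈ T, e ∈ 𝐃 ↔ e ∈ 𝐃' := fun e he => ⟨fun m =>
    (h.swap.uD h.xS h.xT).1 (t2 _ ((h.cjT h.xS).2 he) ((h.uD h.xS h.xT).2 m)), t2 e he⟩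
  refine ⟨rfl, dg, (h.Dd dg h.xx).2 (by_contra fun m => m (h.q.D_of (h.n h.xx) ha k (h.q.ZF ?_)))⟩
  have bP : b ∉ 𝐏' := fun o => t1 _ h.xx m (cycF h.q'.pe (h.n' h.xx).2 o)
  have a' := h.uq h.xS h.xT ha
  have b' := h.swap.uq h.xS h.xT hb
  have p := h.q.out2 b' (inv_mem ha) (h.swap.up' h.xS h.xT bP) (mt inv_mem_iff.1 k)
  have p' := h.q'.out2 a' (inv_mem hb) (h.up' h.xS h.xT k) (mt inv_mem_iff.1 bP)
  have p'' := h.swap.up h.xS h.xT p'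
  have e := hE _ (f x h.xS)
  rw [show x * (a * b) * x⁻¹ * (a * b)⁻¹ = x * b * x⁻¹ * a⁻¹ * (x * a * x⁻¹ * b⁻¹) by
    rw [← conj_mul, ← h.cm b' a', mul_assoc (x * b * x⁻¹) a⁻¹, h.cm (inv_mem ha) (PQ p')]; group,
    h.mm (PQ p') (PQ p)] at e
  have w := (h.spl (PQ (mul_mem p p)) (PQ (mul_mem p' p')) (e ▸ one_mem _)).2
  rw [show x * x * a * (x * x)⁻¹ * a⁻¹ = x * (x * a * x⁻¹ * b⁻¹) * x⁻¹ * (x * b * x⁻¹ * a⁻¹) by group]
  refine h.q.sqZ (PQ (mul_mem p'' p)) ?_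
  rw [mul_assoc, ← mul_assoc (x * b * x⁻¹ * a⁻¹), Pc p p'', mul_assoc _ _ (x * b * x⁻¹ * a⁻¹), ← mul_assoc, conj_mul,
    h.Zs h.xS w, mul_inv_cancel_right, ← h.Zs (h.QS (PQ (mul_mem p p))) w, e]
theorem nE (l : E ≤ S) (nE : S ≤ N(E)) (hE : ∀ a ∈ E, a * a = 1) (c : #E = 8) :
    j = 0 ∧ (∀ e ∈ T, e ∈ 𝐃 ↔ e ∈ 𝐃') ∧ x * x ∈ 𝐘𝐘 := by
  obtain ⟨v, hv, k⟩ := SetLike.not_le_iff_exists.1 (show ¬ E ≤ 𝐔 from fun m => by
    have := card_le_of_le m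
    rw [h.chU.cd] at this; omega)
  obtain ⟨a, ha, b, hb, rfl⟩ := h.memY.1 (h.nE0 l nE hE c hv)
  by_cases m : a ∈ 𝐏
  · obtain ⟨e1, e2, e3⟩ := h.swap.nE1 nE hE hb ha (fun o => k (h.PU m o (hE _ hv))) (h.cm ha hb ▸ hv)
    exact ⟨e1, fun e he => (e2 e he).symm, by rwa [← mul_inv_rev, inv_mem_iff, sup_comm] at e3⟩
  · exact h.nE1 nE hE ha hb m hv
end Pr

namespace B2

theorem n8 (h : B2 S T H K K' j z r s r' s' x) (zu : IsConj z (𝐮))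
    (hn : ∀ E ≤ S, S ≤ N(E) → (∀ a ∈ E, a * a = 1) → #E ≠ 8) : Id G := by
  haveI := h.hy.simple
  obtain ⟨R, rfl⟩ := h.syl.exists_sylow_top
  have zY : ∀ y ∈ 𝐘𝐘, y * y = 1 → y ≠ 1 → IsConj z y := fun y hy yy y1 => by
    by_cases m : y ∈ 𝐙
    exacts [(h.q.mz.1 m).resolve_left y1 ▸ IsConj.refl _, zu.trans (h.cls hy yy m).symm]
  have US := h.UY.trans h.YS
  have ss := h.sq4 sQ sQ h.q.ss h.q'.ss
  refine (Cfsg.Agent.S3102.result (fun N _ o => ?_) (fun w o => ?_) R (fun o => ?_) (fun E n o c => ?_) ((𝐔).subgroupOf R)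
    ?_ ((normal_subgroupOf_iff_le_normalizer US).2 h.nU) (fun a ha b hb a1 b1 =>
      (zY _ (h.UY ha) (h.chU.sq _ ha) (fun e => a1 (Subtype.ext e))).symm.trans (zY _ (h.UY hb) (h.chU.sq _ hb) fun e => b1 (Subtype.ext e)))).elim
    (fun ⟨F, _, _, o, P, e⟩ => ?_) fun o => o.elim (fun ⟨P, e⟩ => ?_) fun e => ?_
  rotate_right 3
  · rcases Cfsg.Agent.S1742.result (Nat.odd_iff.2 (by omega)) R P e with ⟨F, _, _, o, e⟩ | e | e
    exacts [.inr (.inr (.inr (.inr (.inl (.inl ⟨F, _, _, o, .inl e⟩))))), .inr (.inr (.inr (.inr (.inl (.inr (.inl e)))))),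
      .inr (.inr (.inr (.inr (.inr (.inl (.inr (.inr (.inl e))))))))]
  · exact .inr (.inr (.inr (.inr (.inr (.inl (.inr (.inr (.inr (.inr (.inr
      ((Cfsg.Agent.S1776.result R P e).imp_right .inl)))))))))))
  · exact .inr (.inr (.inr (.inr (.inr (.inl (.inr (.inr (.inr (.inr (.inr (.inr (.inr (.inr
      (Cfsg.Agent.S3100.result h.hy.nab R e))))))))))))))
  · rcases IsSimpleGroup.eq_bot_or_eq_top_of_normal N ‹_› with rfl | rfl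
    · haveI : Fact (Nat.Prime 2) := ⟨Nat.prime_two⟩
      exact h.hy.nab (isCyclic_of_prime_card (index_bot.symm.trans o)).isMulCommutative
    · simp at o
  · have hO : pPrimeCore 2 G = ⊥ := (IsSimpleGroup.eq_bot_or_eq_top_of_normal _ inferInstance).resolve_right
      fun e => H1.not_dvd_card_pPrimeCore (p := 2) (G := G) (o.1.symm.dvd.trans (orderOf_dvd_card' (e.ge (mem_top w))))
    have := H7.zstar_mem_center hO o
    rcases IsSimpleGroup.eq_bot_or_eq_top_of_normal (center G) inferInstance with e | e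
    · exact absurd (mem_bot.1 (e ▸ this) ▸ o.1) (by simp)
    · exact h.hy.nab ⟨⟨fun a b => mem_center_iff.1 (e ▸ mem_top b) a⟩⟩
  · have c : s * s' * (𝐮) = 𝐮 * (s * s') := by
      rw [← mul_inv_eq_iff_eq_mul, ← conj_conj', ← conj_mul (b := s'), h.cja sQ cQ, h.q'.sP cP, ← conj_mul, h.q.sP cP,
        h.swap.cja sQ (inv_mem cQ), ← mul_inv_rev, ← h.cm cQ cQ, inv2 h.uu]
    have m : s * s' ∈ 𝐘𝐘 := mul_mem_sup sQ sQ
    have ch := h.chU.step (x := s * s') (fun o => h.q.sP' (h.q.nc' sQ cP h.q.cc1 (by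
      have := mem_cent1.1 (sup_le (zpowers_le.2 (mem_cent1.2 (h.q.zq cQ).symm)) (zpowers_le.2 (mem_cent1.2
        (by rw [mul_assoc, ← h.cm cQ cQ]))) o)
      rwa [mul_assoc, ← h.cm cQ sQ, ← mul_assoc, ← mul_assoc, mul_left_inj] at this))) ss fun a ha => by
        rw [mem_cent1.1 (sup_le (zpowers_le.2 (mem_cent1.2 (h.zs (h.YS m)).symm)) (zpowers_le.2 (mem_cent1.2 c.symm)) ha)
          |>.symm, mul_inv_cancel_right, mul_inv_cancel]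
        exact one_mem _
    have l := sup_le US (zpowers_le.2 (h.YS m))
    have := o ((𝐔 ⊔ zpowers (s * s')).subgroupOf R) ⟨⟨fun a b => Subtype.ext (Subtype.ext (ecm ch.sq a.2 b.2))⟩⟩
      fun a ha => Subtype.ext (by rw [sq]; exact ch.sq _ ha)
    rw [card_subgroupOf' l, ch.cd] at this
    omega
  · refine hn (E.map (R : Subgroup G).subtype) (map_subtype_le E) (fun a ha => le_normalizer_map _ ⟨⟨a, ha⟩, ?_, rfl⟩) ?_
      (by rw [card_map_of_injective (subtype_injective _), c])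
    · exact normalizer_eq_top E ▸ mem_top _
    · rintro _ ⟨a, ha, rfl⟩
      rw [← map_mul, ← sq, o.2 a ha, map_one]
  · haveI : Nontrivial ((𝐔).subgroupOf R) := Finite.one_lt_card_iff_nontrivial.1 (by
      rw [card_subgroupOf' US, h.chU.cd]; norm_num)
    exact ⟨by rw [card_subgroupOf' US, h.chU.cd]; rfl, (Monoid.exponent_eq_prime_iff Nat.prime_two).2 fun a a1 =>
      ord2_of (Subtype.ext (Subtype.ext (h.chU.sq _ a.2))) a1⟩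

end B2
end H28.GH
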