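import Cfsg.Agent.H27.MS0
import Cfsg.Agent.H27.Triangle
import Cfsg.Agent.H15.J2
import Cfsg.Agent.H16.L.J3

/-! S5899, chunks KJ and KT: chains `A₅ < N(A₅) < G` in `J₂`, `J₃` and the Tits group. -/

set_option autoImplicit false

namespace H28.MS
open Cfsg Subgroup H27.MS H16

universe u

theorem a5_ord : ∀ x : Equiv.Perm (Fin 5), Equiv.Perm.sign x = 1 → x ^ 2 = 1 ∨ x ^ 3 = 1 ∨ x ^ 5 = 1 := by
  decide +kernel

theorem ch_of {G : Type*} [Group G] [IsSimpleGroup G] {a b c : G} (ha : a ^ 2 = 1) (hb : b ^ 3 = 1)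
    (hab : (a * b) ^ 5 = 1) (h1 : a ≠ 1) (ca : c * a * c⁻¹ ∈ closure {a, b}) (cb : c * b * c⁻¹ ∈ closure {a, b})
    (c2 : c ^ 2 ≠ 1) (c3 : c ^ 3 ≠ 1) (c5 : c ^ 5 ≠ 1) : Ch G := by
  obtain ⟨φ, pa, pb⟩ := H27.exists_hom_A5 ha hb hab
  have inj := H27.injective_hom_A5 φ (pa ▸ h1)
  have e : φ.range = closure {a, b} := by
    rw [MonoidHom.range_eq_map, ← H27.a5_closure, MonoidHom.map_closure, Set.image_pair, pa, pb]
  have nc : c ∉ φ.range := by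
    rintro ⟨x, rfl⟩
    rcases a5_ord x.1 (Equiv.Perm.mem_alternatingGroup.1 x.2) with k | k | k
    · exact c2 (by rw [← map_pow, show x ^ 2 = 1 from Subtype.ext k, map_one])
    · exact c3 (by rw [← map_pow, show x ^ 3 = 1 from Subtype.ext k, map_one])
    · exact c5 (by rw [← map_pow, show x ^ 5 = 1 from Subtype.ext k, map_one])
  have nn : c ∈ normalizer (φ.range : Set G) := by
    haveI : Finite (φ.range : Set G) := Set.finite_range φ
    refine mem_normalizer_fintype fun n hn => ?_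
    have : closure {a, b} ≤ (closure {a, b}).comap (MulAut.conj c).toMonoidHom :=
      (closure_le _).2 (by rintro _ (rfl | rfl); exacts [ca, cb])
    rw [e] at hn ⊢
    exact this hn
  refine ⟨φ.range, normalizer (φ.range : Set G), lt_of_le_of_ne le_normalizer fun k => nc (k ▸ nn), fun k => ?_,
    fun k => Cfsg.Agent.S0810.a5_not_solv (Cfsg.Agent.S0810.solv_congr (MonoidHom.ofInjective inj) k)⟩
  rcases (normalizer_eq_top_iff.1 k).eq_bot_or_eq_top with k | k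
  · exact h1 (mem_bot.1 (k ▸ ⟨_, pa⟩))
  · exact nc (k ▸ mem_top _)

/-- substitute the words `A`, `C` for the letters of `U` -/
def sub (A C U : List ℕ) : List ℕ := U.flatMap fun k => if k = 0 then A else C

theorem ch_words {G Ω : Type*} [Group G] [MulAction G Ω] {g : ℕ → G} {pt : ℕ → Ω} {P : ℕ → ℕ → ℕ} {n K : ℕ}
    (h : Act g pt P n K) (hp : PtInj pt n) {B : List ℕ} (hB : ltAll n B = 0) (hb : IsBase (gen g K) pt B)
    (hs : IsSimpleGroup (gen g K)) (A C D U V : List ℕ) (i : ℕ)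
    (c : powL P K B A 2 = 0 ∧ powL P K B C 3 = 0 ∧ powL P K B (C ++ A) 5 = 0 ∧ ltAll K D = 0 ∧
      eqL P K B (A ++ D) (D ++ sub A C U) = 0 ∧ eqL P K B (C ++ D) (D ++ sub A C V) = 0 ∧
      (ltAll K A = 0 ∧ i < n ∧ apW P A i ≠ i) ∧ (ltAll K (D ++ D) = 0 ∧ i < n ∧ apW P (D ++ D) i ≠ i) ∧
      (ltAll K (D ++ D ++ D) = 0 ∧ i < n ∧ apW P (D ++ D ++ D) i ≠ i) ∧
      (ltAll K (D ++ D ++ D ++ D ++ D) = 0 ∧ i < n ∧ apW P (D ++ D ++ D ++ D ++ D) i ≠ i)) :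
    Ch (gen g K) := by
  obtain ⟨c1, c2, c3, c4, c5, c6, c7, c8, c9, c10⟩ := c
  obtain ⟨a1, a2⟩ := powL_eq_one h hB hb c1
  obtain ⟨b1, b2⟩ := powL_eq_one h hB hb c2
  obtain ⟨-, d2⟩ := powL_eq_one h hB hb c3
  have e1 := eqL_sound h hB hb c5
  have e2 := eqL_sound h hB hb c6
  have n2 := h.ne_one hp c8
  have n3 := h.ne_one hp c9
  have n5 := h.ne_one hp c10
  simp only [evA_append] at d2 e1 e2 n2 n3 n5
  set a : gen g K := ⟨_, evA_mem_gen g a1⟩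
  set b : gen g K := ⟨_, evA_mem_gen g b1⟩
  set d : gen g K := ⟨_, evA_mem_gen g (ltAll_zero c4)⟩
  have m : ∀ W, ∃ x ∈ closure {a, b}, x.1 = evA g (sub A C W) := fun W => by
    induction W with
    | nil => exact ⟨1, one_mem _, rfl⟩
    | cons k W ih =>
      obtain ⟨x, hx, ex⟩ := ih
      rw [sub, List.flatMap_cons, evA_append, ← sub, ← ex]
      split_ifs
      · exact ⟨x * a, mul_mem hx (subset_closure (by simp)), rfl⟩
      · exact ⟨x * b, mul_mem hx (subset_closure (by simp)), rfl⟩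
  obtain ⟨x, hx, ex⟩ := m U
  obtain ⟨y, hy, ey⟩ := m V
  refine ch_of (a := a) (b := b) (c := d) (Subtype.ext a2) (Subtype.ext b2) (Subtype.ext d2)
    (fun e => h.ne_one hp c7 (Subtype.ext_iff.1 e)) ?_ ?_ (fun e => n2 ?_) (fun e => n3 ?_) fun e => n5 ?_
  · rwa [show d * a * d⁻¹ = x from mul_inv_eq_of_eq_mul (Subtype.ext (e1.trans (ex ▸ rfl)))]
  · rwa [show d * b * d⁻¹ = y from mul_inv_eq_of_eq_mul (Subtype.ext (e2.trans (ey ▸ rfl)))]
  all_goals simpa [pow_succ', d] using Subtype.ext_iff.1 e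

theorem j2 : Ch (gen J2.g 5) :=
  ch_words J2.act (ptF_inj 100) J2.Blt J2.isBase J2.simple [0, 2, 0, 4, 2, 4, 2, 1, 3, 2, 0, 2]
    [2, 0, 2, 1, 2, 1, 4, 2, 0, 2, 4, 2] [3, 2, 0, 2, 1, 2, 1, 4, 2, 0, 2, 4, 2] [1, 1, 0, 1] [1] 2
    (by decide +kernel)

theorem j3 : Ch (gen J3.g 4) :=
  ch_words J3.act (ptF_inj 6156) J3.Blt J3.isBase J3.simple [0, 2, 0, 2, 1, 2, 0, 2, 0, 2, 1, 2]
    [0, 2, 0, 2] [0, 2] [1, 0, 1, 1] [1] 1 (by decide +kernel)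

theorem kj : KJ.{u} := by
  rintro G _ (⟨⟨e⟩⟩ | ⟨F, _, _, ω, hF, hω, ⟨e⟩⟩)
  · exact j2.congr (e.trans H15.J2L.equiv)
  · exact j3.congr (e.trans (LJ3.equiv hF hω).symm)

theorem kt : KT :=
  ch_words H15.Tits.act (ptF_inj 1755) H15.Tits.Blt H15.Tits.isBase H15.Tits.simple [1, 4, 1, 4]
    [0, 5, 1, 4, 0, 5, 1, 4, 1, 4, 1, 4] [1, 4] [0] [1, 0, 1, 1, 0, 1, 0] 1 (by decide +kernel)

end H28.MS
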