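import Cfsg.Agent.H27.MS2

/-! S5899: assembly of part 2. -/

set_option autoImplicit false

namespace H28.MS
open Cfsg Subgroup H18 H17.GS H28.S H2.GW H27.MS
open H19 hiding eq_bot_mono
open H28.NG hiding Hyp Uniq Ch

universe u

theorem nhz (ty : Ty.{u}) (lc : LC.{u}) (m0 : M0.{u}) (gs : GS.{u}) (gi : GI.{u}) (sh : SH.{u}) (ds : DS.{u})
    (sc : SC.{u}) (d7 : D7.{u}) (ts : TS.{u}) (ti : TI.{u}) (t0 : T0.{u}) (tk : H27.MS.TK.{u}) (td : H27.MS.TD.{u}) (t9 : T9.{u})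
    (tz0 : TZ0.{u}) (tz1 : TZ1.{u}) (tz2 : TZ2.{u}) (e0 : E0.{u}) (e1 : E1.{u}) (eb : EB.{u}) (es : ES'.{u})
    (ed : ED.{u}) (e3a : E3a.{u}) (e3b : E3b.{u}) {G : Type u} [Group G] [Finite G] : ¬ Hz G := fun h => by
  obtain ⟨S, Y, m⟩ := m0 h
  by_cases c4 : #Y = 4
  · obtain ⟨Q, z, y, e⟩ := e0 m c4
    have l7 (k : L7 C[z] Q) : False := e3b e k (e3a e k)
    have eC : C(Zs S) = C[z] := by rw [e.eZ, cent_zpowers]
    rcases e1 e with a | ⟨U, R, R₀, r⟩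
    · exact l7 (eC ▸ (sc m (eC ▸ e.lc) e.yq (eC ▸ a)).l7)
    rcases (ty e.lc.toFr).2 with ⟨E, b⟩ | k | k | k
    exacts [es r (.inr ⟨b, eb r b⟩), es (E := ⊥) r (.inl k), l7 (ed r (.inl k)), l7 (ed r (.inr k))]
  have gn : Gn S Y := (em _).elim (fun s => (gs m s c4).1) fun s => (gi m s).1
  by_cases k : Sh Y
  · obtain ⟨a, b⟩ := sh gn k
    refine b ((em _).elim (ds m) fun s => ?_)
    have Z0 : Zs S ≠ ⊥ := fun e => m.nz (by
      have : Y = ⊥ := by rw [m.eY, e]; exact le_bot_iff.1 (Kc_le_of le_rfl nbot)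
      rw [this]; exact nbot)
    have l := (lc h.toHy Z0 (ab_pg (abelem_Ohm1_center 2 S)) (cent_le_norm _) s
      (m.syl.of_le (cents_symm ((Ohm1_le _ _).trans inf_le_right)) le_top)).1
    obtain ⟨v, v1, v0⟩ := exists_ne_one Z0
    have e : C[v] = C(Zs S) := (l.mx _ (cent_le_cent1 v1)).resolve_right fun j => by
      haveI := h.simple
      rcases (inferInstance : (center G).Normal).eq_bot_or_eq_top with p | p
      · exact v0 (mem_bot.1 (p ▸ mem_center_iff.2 fun g => mem_cent1.1 (j.ge (mem_top g))))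
      · exact h.nab ⟨⟨fun a b => mem_center_iff.1 (p.ge (mem_top b)) a⟩⟩
    have YQ := e ▸ k v (m.eY.ge (le_Kc v1)) v0
    exact d7 m l (sc m l YQ a)
  simp only [Sh, not_forall] at k
  obtain ⟨v, v1, v0, k⟩ := k
  obtain ⟨x, -, Q, t⟩ := t0 gn v1 v0 k ((em _).elim (fun s => ts m s c4 v1 v0 k) fun s =>
    ti gn (gi m s).2.1 (gi m s).2.2.1 v1 v0 k)
  obtain ⟨o, ⟨E, b⟩ | j | ⟨n, j⟩ | j⟩ := ty t.lc.toFr
  · obtain ⟨A, D, z⟩ := tz0 t b
    by_cases s : Sol N(Y)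
    · obtain ⟨-, F, f⟩ := gs m s c4
      exact tz1 t.toMn f z
    · exact tz2 t.toMn (gi t.toMn s).2.1 (gi m s).2.2.1 z
  exacts [tk t j, td t o j, t9 t j]

end H28.MS
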