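import Cfsg.Agent.H1.MS2

/-! S5899, part 3, chunk `TV`: an offender contains a transvection. -/

set_option autoImplicit false
set_option linter.unusedVariables false

namespace H28.MV
open Cfsg Subgroup H18 H17.GS H28.S H2.GW
open H19 hiding eq_bot_mono
open H28.NG hiding Hyp Uniq Ch
open H27.MS H1.MS

universe u
variable {G : Type u} [Group G] [Finite G] {C D Z U A F : Subgroup G}

/-- the module structure of `Sv` -/
theorem md (s : Sv C D Z U) : ∃ F, H28.NG.Md Z U D C F := by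
  have n : D ⊴ C := s.eD ▸ Oc_normal _ _
  have p : H19.PG 2 D := s.eD ▸ Oc_pi _ _
  obtain ⟨F, hF⟩ := exists_FS n s.sol fun N a b c => s.eD ▸ le_Oc a (by
    have := p.mul c
    rwa [card_mul_relIndex b] at this)
  exact ⟨F, s.ea, hF, s.nU, s.nZ, fun g a => (s.ker g (n.le a)).2 a, fun g a b => (s.ker g a).1 b⟩

theorem tv : TV.{u} := fun {G} _ _ {C D Z U A} s hA hC hD hk => by
  obtain ⟨F, m⟩ := md s
  obtain ⟨n, hn⟩ : ∃ n, #A = n := ⟨_, rfl⟩
  induction n using Nat.strong_induction_on generalizing A with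
  | _ n ih =>
  obtain ⟨H, h1, h2, h3⟩ := m.q4 hC ((comm_iff_der.1 hA.1).le.trans bot_le) (fun b p => sq_one hA p ▸ one_mem _) hD
  have c1 := h1.card
  have c2 := card_pos H
  by_cases k : H ≤ D
  · obtain ⟨a, p, q⟩ := hyp_ex h1
    refine ⟨a, p, fun j => q (h2 ⟨p, j⟩), ?_⟩
    have c3 := card_le (le_inf h1.le k)
    have c4 := card_le (inf_le_inf_left U (Cm_anti (Z := Z) (zpowers_le' p)))
    unfold Eb
    nlinarith
  · have j := pg_lt_card (m.ea.pgV.infl _) (lt_of_le_not_ge (inf_le_inf_left U (Cm_anti h1.le))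
      fun k => h3 (k.trans inf_le_right))
    have c3 := card_le (inf_le_inf_right D h1.le)
    obtain ⟨a, p, q⟩ := ih _ (hn ▸ card_lt (h1.le.lt_of_ne h1.ne)) (abelem_mono hA h1.le) (h1.le.trans hC) k
      (by nlinarith) rfl
    exact ⟨a, h1.le p, q⟩

end H28.MV
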