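import Cfsg.Agent.H28.QR2

/-! The qrc-lemma. -/

set_option autoImplicit false
set_option linter.unusedVariables false
set_option linter.unusedSectionVars false

namespace H28.QR
open H9 hiding zj
open Cfsg Subgroup H28 H29 H29.PU H29.BB H28.GC
open scoped commutatorElement

universe u
variable {X : Type u} [Group X] [Finite X] {A B C D E H L M M₀ N P R S T U V W : Subgroup X}

/-- cubic `2F`-offenders -/
def Cub (B V : Subgroup X) : Prop := ¬ B ≤ 𝐂 V ∧ (∀ b ∈ B, b ^ 2 ∈ 𝐂 V) ∧ ⁅B, B⁆ ≤ 𝐂 V ∧ ⁅⁅⁅V, B⁆, B⁆, B⁆ = ⊥ ∧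
  (𝐂 B).relIndex V ≤ (𝐂 V).relIndex B ^ 2

theorem Cub.of_le (h : Cub B W) (l : V ≤ W) (c : B ⊓ 𝐂 V ≤ 𝐂 W) : Cub B V :=
  ⟨fun e => h.1 ((le_inf le_rfl e).trans c), fun b hb => centralizer_anti l (h.2.1 b hb), h.2.2.1.trans (centralizer_anti l),
    eq_bot_iff.2 (h.2.2.2.1 ▸ commutator_mono (commutator_mono (commutator_mono l le_rfl) le_rfl) le_rfl),
    (relIndex_mono_right _ l).trans (h.2.2.2.2.trans (Nat.pow_le_pow_left (ri_le ((inf_comm _ _).le.trans c)) 2))⟩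

theorem NQ.of_le (h : NQ T V) (l : V ≤ W) (c : T ⊓ 𝐂 V ≤ 𝐂 W) : NQ T W := fun B hB q k =>
  ((Nat.pow_le_pow_left (ri_le ((inf_comm _ _).le.trans ((inf_le_inf_right _ hB).trans c))) 2).trans_lt
    (h B hB (eq_bot_iff.2 (q ▸ commutator_mono (commutator_mono l le_rfl) le_rfl))
      fun e => k ((le_inf hB e).trans c))).trans_le (relIndex_mono_right _ l)

theorem foc (hS : IsSylowIn 2 S E) (e : O² E = E) (l : P ≤ S) (n : E ≤ 𝐍 P) : P ≤ ⁅S, S⁆ ⊔ ⁅P, E⁆ := by
  have lE := l.trans hS.le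
  haveI := (normal_subgroupOf_iff_le_normalizer lE).2 n
  have := (le_inf le_rfl ((le_inf (le_top.trans (by rw [← pResidualOf_subgroupOf, e, subgroupOf_self]))
    (subgroupOf_mono E l)).trans (H3.pResidual_inf_le_commutator hS.subgroupOf_top.isPGroup
      (Nat.coprime_two_right.2 (Nat.odd_iff.2 (Nat.two_dvd_ne_zero.1 hS.not_dvd_relIndex)))))).trans
    (inf_commutator_le_of_normal hS.subgroupOf_top (subgroupOf_mono E l))
  rwa [← subgroupOf_self, ← commutator_subgroupOf hS.le hS.le, ← commutator_subgroupOf lE le_rfl, ← sup_subgroupOf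
    ((commutator_le_of_le_normalizer le_normalizer).trans hS.le) ((commutator_le_of_le_normalizer n).trans lE),
    subgroupOf_le_subgroupOf lE] at this

theorem MP.inf_le (h : MP T H M) (hA : MaxAb 2 T A) (k : ¬ A ≤ O₂ H) (aN : A ≤ N) (nN : M ≤ 𝐍 N)
    (eU : IsElementaryAbelian 2 U) (l : U ≤ O₂ H) (n : H ≤ 𝐍 U) (e : ¬ U ≤ 𝐂 (O² H)) (c : A ⊓ O₂ H ≤ 𝐂 U)
    (d : ⁅O₂ H, O² H⁆ ≤ N) : T ⊓ O² H ≤ N := by
  have lP := pCoreOf_le 2 H
  have lS := h.syl.pCoreOf_le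
  have lE := pResidualOf_le 2 H
  have nE := le_normalizer_pResidualOf 2 H
  have mH := h.um.lt.le
  obtain ⟨W1, W2, -, b, l1, n1, n2, d1, e1⟩ := exists_layer (isPGroup_pCoreOf 2 H) lP (le_normalizer_pCoreOf 2 H)
    (le_top.trans normalizer_bot.ge) U bot_le l n fun f => e (H28.commutator_eq_bot_iff.1 (le_bot_iff.1 f))
  obtain ⟨D⟩ := exists_secRep (p := 2) (l1.trans (l.trans lP)) b n1 n2 ((commutator_mono le_rfl (l1.trans l)).trans d1)
    fun v hv => eU.2 v (l1 hv) ▸ one_mem _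
  have aH := hA.le.trans h.syl.le
  have kq := D.ker_le_Q h.syl h.um e1
  have km := D.ker_le h.syl h.um e1
  have ea := SecRep.ea_im (D := D) aH (abE_iff_ea.1 hA.abE)
  have ne : D.im A ≠ ⊥ := fun f => k ((le_inf hA.le ((SecRep.im_eq_bot aH).1 f)).trans kq)
  have o := (SecRep.off_iff (D := D) aH).2 ((ri_le ((inf_comm _ _).le.trans ((inf_le_inf_right _ (l1.trans (l.trans
    (lP.trans n2)))).trans inf_centralizer_le_cmod))).trans ((MaxAb.relIndex_le hA (l1.trans (l.trans lS)) (ea_of_le eU l1)).trans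
      ((ri_le ((inf_comm _ _).le.trans (c.trans (centralizer_anti l1)))).trans
        (ri_le ((inf_comm _ _).le.trans ((inf_le_inf_right _ hA.le).trans kq))))))
  have nM := le_normalizer_inf nN (le_normalizer (H := M))
  have f := lemF (D.hyp h.syl h.um h.nn d1 e1 ea ne o) ea ne o (SecRep.im_mono hA.le)
    (SecRep.im_mono (le_inf aN (hA.le.trans h.um.le))) (SecRep.im_nrm mH nM)
  have i : D.im (O² H) ⊓ D.im M ≤ D.im (O² H ⊓ M) := by
    rintro _ ⟨⟨x, hx, rfl⟩, hm⟩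
    exact D.mem_im ⟨hx, (sup_le le_rfl km) ((SecRep.pre_im mH).le (SecRep.mem_pre.2 hm))⟩
  rw [← D.im_top, ← SecRep.im_res le_rfl] at f
  have nF := le_normalizer_commutator nM (le_normalizer_inf (mH.trans nE) le_normalizer)
  have lF : ⁅N ⊓ M, O² H ⊓ M⁆ ≤ N ⊓ O² H ⊓ M := le_inf (le_inf ((commutator_le_of_le_normalizer (inf_le_right.trans nM)).trans
    inf_le_left) ((commutator_mono le_rfl inf_le_left).trans (commutator_le_of_le_normalizer' (inf_le_right.trans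
      (mH.trans nE))))) ((commutator_mono inf_le_right inf_le_right).trans (commutator_le_of_le_normalizer le_normalizer))
  replace f := ((le_inf (SecRep.im_mono inf_le_left) (SecRep.im_mono inf_le_right)).trans f).trans (commutator_mono le_rfl i)
  rw [← SecRep.im_comm (inf_le_right.trans mH) (inf_le_right.trans mH), SecRep.im_le_im (inf_le_right.trans lE)
    (lF.trans (inf_le_right.trans mH))] at f
  replace f := le_inf inf_le_left f
  rw [(h.syl.mono h.um.le mH).inf_sup_of_normal (lF.trans inf_le_right) nF (.of_normal km (mH.trans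
    (le_normalizer_inf le_normalizer (le_normalizer_cmod n1 n2))))] at f
  replace f := f.trans (sup_le_sup (inf_le_inf_left _ (lF.trans inf_le_left)) ((inf_le_inf_left _ inf_le_right).trans kq))
  have tN := h.um.le.trans nN
  have q : O₂ H ⊓ O² H ≤ N := (foc (h.syl.inf_normal' lE nE) (pResidualOf_pResidualOf 2 H) (inf_le_inf_right _ lS)
    (lE.trans (le_normalizer_inf (le_normalizer_pCoreOf 2 H) nE))).trans (sup_le ((commutator_mono f le_rfl).trans
      (commutator_sup_le (inf_le_left.trans tN) (lS.trans tN) ((commutator_mono (inf_le_right.trans inf_le_left) le_rfl).trans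
        (commutator_le_of_le_normalizer (inf_le_left.trans tN))) ((commutator_mono le_rfl inf_le_right).trans d)))
      ((commutator_mono inf_le_left le_rfl).trans d))
  intro x hx
  obtain ⟨a, ha, b, hb, rfl⟩ := (mem_sup_of_le_normalizer (inf_le_left.trans (h.syl.le.trans
    (le_normalizer_pCoreOf 2 H)))).1 (f hx)
  exact mul_mem ha.2.1 (q ⟨hb, (Subgroup.mul_mem_cancel_left _ ha.2.2).1 hx.2⟩)

theorem MP.core (h : MP T H M) (ch : IsCharP 2 H) (nN : M ≤ 𝐍 N) (hV : IsElementaryAbelian 2 V) (l : V ≤ T)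
    (c : T ⊓ 𝐂 V = T ⊓ N) (y : H ⊓ 𝐍 (T ⊓ N : Subgroup X) ≤ 𝐍 V) (q : NQ T V) (j : H ⊓ 𝐍 (JJ 2 T) ≤ M)
    (k : V ≤ O₂ H ∨ ∀ B ≤ T, ¬ Cub B V) (e : ¬ V ≤ 𝐂 (O² H)) : T ⊓ O² H ≤ N := by
  have tH := h.syl.le
  have mH := h.um.lt.le
  have lQ := h.syl.pCoreOf_le
  have nQ := le_normalizer_pCoreOf 2 H
  have nR := le_normalizer_inf le_normalizer (h.um.le.trans nN)
  have nV := (le_inf tH nR).trans y
  have vR := (le_inf l (ea_le_centralizer hV)).trans c.le
  have jR := (le_inf (JJ_le 2 T) (q.JJ_le hV l nV)).trans c.le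
  have rH := (inf_le_left (b := N)).trans tH
  have s2 : ∀ S : Subgroup X, IsPGroup 2 S → T ⊓ N ≤ S → S ≤ H → S ≤ H ⊓ 𝐍 (T ⊓ N : Subgroup X) := fun S a b d => by
    obtain ⟨g, -, hg⟩ := h.syl.exists_le_conj a d
    have m := (le_inf d (JJ_eq_of_card (jR.trans b) hg ▸ le_normalizer_JJ 2 S)).trans j
    rw [← ((h.syl.mono h.um.le mH).inf_normal nN).max (S ⊓ N) (a.to_le inf_le_left) (le_inf b inf_le_right)
      (inf_le_inf_right _ m)]
    exact le_inf d (le_normalizer_inf le_normalizer (m.trans nN))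
  have yM : H ⊓ 𝐍 (T ⊓ N : Subgroup X) ≤ M := (inf_le_inf_left _ (JJ_eq_of_le jR inf_le_left ▸
    normalizer_le_normalizer_JJ 2 _)).trans j
  obtain ⟨L, M', S, s, u, l1, l2, l3, l4, l5⟩ : ∃ L M' S, IsSylowIn 2 S L ∧ UniqMax (T ⊓ N ⊔ O₂ H) L M' ∧ S ≤ M' ∧
      T ⊓ N ⊔ O₂ H ≤ S ∧ S ≤ T ∧ L ≤ H ∧ ¬ L ≤ M := by
    obtain ⟨L, m⟩ := exists_minimal_of_wellFoundedLT (fun L => T ⊓ N ⊔ O₂ H ≤ L ∧ L ≤ H ∧ ¬ L ≤ M)
      ⟨H, sup_le rH (lQ.trans tH), le_rfl, h.um.not_le⟩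
    obtain ⟨S, s, l1⟩ := exists_isSylowIn_ge (h.syl.isPGroup.to_le (sup_le inf_le_left lQ)) m.prop.1
    have l2 := s2 S s.isPGroup (le_sup_left.trans l1) (s.le.trans m.prop.2.1)
    obtain ⟨g, hg, l3⟩ := (h.syl.mono (le_inf tH nR) inf_le_left).exists_conj_le s.isPGroup l2
    have e1 := cj_eq_self (le_normalizer_sup inf_le_right (inf_le_left.trans nQ) hg)
    refine ⟨_, _, _, s.conj g, e1 ▸ UniqMax.conj (M := L ⊓ M) ⟨l1.trans (le_inf s.le (l2.trans yM)),
      inf_lt_left.2 m.prop.2.2, fun K a b => le_inf b.le (by_contra fun f => b.not_ge (m.le_of_le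
        ⟨a, b.le.trans m.prop.2.1, f⟩ b.le))⟩ g, cj_mono g (le_inf s.le (l2.trans yM)), e1 ▸ cj_mono g l1, l3,
      cj_le_of_mem m.prop.2.1 hg.1, fun f => m.prop.2.2 ?_⟩
    rwa [cj_le_iff, cj_eq_self_of_mem (inv_mem (yM hg))] at f
  have qL := le_pCoreOf (isPGroup_pCoreOf 2 H) (le_sup_right.trans u.le_L) (l4.trans nQ)
  have jS := JJ_eq_of_le (jR.trans (le_sup_left.trans l2)) l3
  have nJ : ∀ K, K ≤ T → JJ 2 T ≤ K → ¬ L ≤ 𝐍 K := fun K a b f => l5 ((le_inf l4 (JJ_eq_of_le b a ▸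
    f.trans (normalizer_le_normalizer_JJ 2 K))).trans j)
  have p : MP S L M' := ⟨s, u.mono l2 l1, nJ S l3 (jS ▸ JJ_le 2 S)⟩
  have lP := s.pCoreOf_le
  have vP : V ≤ O₂ L := by_contra fun f => by
    obtain ⟨B, a, b⟩ := p.cubic (u.mono (sup_le_sup_left qL _) (sup_le (le_sup_left.trans u.le) (lP.trans l1))) vR
      (le_sup_left.trans l2) (c.ge.trans inf_le_right) (lP.trans (l3.trans nV))
      (ch.of_pCoreOf_le l4 (qL.trans (pCoreOf_le 2 L))) hV f
    exact k.elim (fun k => f (k.trans qL)) fun k => k B (a.trans (lP.trans l3)) b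
  obtain ⟨A, hA, kA⟩ : ∃ A, MaxAb 2 S A ∧ ¬ A ≤ O₂ L := by_contra fun f => nJ _ (lP.trans l3) (jS ▸ JJ_le_iff.2
    fun A a => by_contra fun b => f ⟨A, a, b⟩) (le_normalizer_pCoreOf 2 L)
  have n0 := le_normalizer_inf (l4.trans nQ) (p.qrc hV vP (l3.trans nV) (q.mono l3) hA kA)
  have e0 : O₂ H ⊓ 𝐂 V = O₂ H ⊓ N := by rw [← inf_of_le_left lQ, inf_assoc, c, inf_assoc]
  rw [← inf_assoc, inf_of_le_left qL, e0] at n0
  have nM := le_normalizer_inf (mH.trans nQ) nN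
  replace n0 := (h.um.eq_of_not_le (le_inf tH (h.um.le.trans nM)) inf_le_left fun f =>
    l5 ((le_inf l4 n0).trans f)).ge.trans inf_le_right
  replace hA := (maxAb_iff_of_JJ_le (jS ▸ JJ_le 2 S) l3).1 hA
  replace kA := fun f => kA (le_trans f qL)
  have aR := hA.le_JJ.trans jR
  have d := commutator_le_of_le_cmod ((h.res_le inf_le_left (le_normalizer_inf le_normalizer (le_normalizer_cmod nQ n0)) hA.le
    (le_inf (hA.le.trans tH) (le_cmod ((hA.le.trans tH).trans n0) (le_inf (commutator_le_of_le_normalizer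
      ((hA.le.trans tH).trans nQ)) ((commutator_mono le_rfl aR).trans ((commutator_le_of_le_normalizer' (lQ.trans nR)).trans
        inf_le_right))))) kA).trans inf_le_right)
  have c0 : O₂ H ⊓ N ≤ 𝐂 V := e0.ge.trans inf_le_right
  have vQ : V ≤ O₂ H := by_contra fun f => h.nn (h.nrm (by
    rw [ch.pResidualOf_eq_bot le_rfl (pResidualOf_le_centralizer_of_commutator_le ((isPGroup_pCoreOf 2 H).to_le inf_le_left) d
      ((h.res_le inf_le_left (le_normalizer_inf le_normalizer (le_normalizer_centralizer n0)) l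
        (le_inf (l.trans tH) (le_centralizer_comm.1 c0)) f).trans inf_le_right))]
    exact bot_le) le_normalizer)
  exact h.inf_le hA kA (aR.trans inf_le_right) nN ((q.mono lQ).ea hV vQ (lQ.trans nV) nQ) (nclIn_le vQ nQ)
    (le_normalizer_nclIn V H) (fun f => e ((le_nclIn V H).trans f)) ((le_inf inf_le_right ((inf_le_left.trans aR).trans
      inf_le_right)).trans (le_centralizer_nclIn c0 n0)) (d.trans inf_le_right)

theorem main (ec : ∀ D : Subgroup X, IsPGroup 2 D → D ≠ ⊥ → T ≤ 𝐍 D → IsCharP 2 (𝐍 D)) (hT : IsSylowIn 2 T ⊤)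
    (h0 : O₂ H ≠ ⊥) (u : UniqMax T H M) (hM : T ≤ M₀) (hV : IsElementaryAbelian 2 V) (l : V ≤ M₀) (n : M₀ ≤ 𝐍 V)
    (hR : O₂ M₀ = T ⊓ 𝐂 V) (hI : M ≤ 𝐍 (O² M₀) ∨ M ≤ 𝐍 V) (q : NQ T V) (k : V ≤ O₂ H ∨ ∀ B ≤ T, ¬ Cub B V) :
    ∃ D : Subgroup X, D ≠ ⊥ ∧ D ≤ O₂ M₀ ∧ M₀ ⊔ H ≤ 𝐍 D := by
  by_contra f
  have nn : ∀ D : Subgroup X, D ≠ ⊥ → D ≤ O₂ M₀ → M₀ ≤ 𝐍 D → H ⊓ 𝐍 D ≤ M := fun D a b c =>
    (u.eq_or_le (le_inf u.le_L (hM.trans c)) inf_le_left).resolve_left fun e =>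
      f ⟨D, a, b, sup_le c (e.ge.trans inf_le_right)⟩
  have tH := hT.mono u.le_L le_top
  have tM := hT.mono hM le_top
  have nH := le_normalizer_pCoreOf 2 H
  have nR := le_normalizer_pCoreOf 2 M₀
  have rT := tM.pCoreOf_le
  have vR := le_pCoreOf (ea_isPGroup hV) l n
  have cH := (ec _ (isPGroup_pCoreOf 2 H) h0 (u.le_L.trans nH)).of_sylow_le (hT.mono (u.le_L.trans nH) le_top) nH u.le_L
  have t0 : T ≠ ⊥ := fun e => h0 (eq_bot_iff.2 (e ▸ tH.pCoreOf_le))
  have jR := (le_inf (JJ_le 2 T) (q.JJ_le hV (vR.trans rT) (hM.trans n))).trans hR.ge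
  have j0 := JJ_ne_bot_of_isPGroup hT.isPGroup t0
  have j := nn _ j0 jR (JJ_eq_of_le jR rT ▸ nR.trans (normalizer_le_normalizer_JJ 2 _))
  have nT : ¬ H ≤ 𝐍 T := fun e => u.not_le ((le_inf le_rfl (e.trans (normalizer_le_normalizer_JJ 2 T))).trans j)
  have nE := le_normalizer_pResidualOf 2 H
  have nL := tH.pResidualOf_sup.ge.trans (sup_le (le_normalizer_of_le le_sup_left)
    (le_normalizer_sup (u.le_L.trans nE) (hM.trans nR)))
  have s := tH.inf_normal' (sup_le (pResidualOf_le _ _) (rT.trans u.le_L)) nL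
  suffices e : T ⊓ O² H ≤ O₂ M₀ by
    rw [inf_comm, sup_comm, sup_inf_of_le_normalizer (.inl (rT.trans (u.le_L.trans nE))) rT, inf_comm, sup_of_le_left e,
      sup_comm] at s
    exact f (common ec hT h0 u hM s (fun e => j0 (eq_bot_iff.2 (e ▸ jR))) rT nR)
  by_cases e : V ≤ 𝐂 (O² H)
  · by_cases v0 : V = ⊥
    · exact inf_le_left.trans ((le_inf le_rfl (le_centralizer_comm.1 (v0.le.trans bot_le))).trans hR.ge)
    · exact (f ⟨V, v0, vR, sup_le n (tH.pResidualOf_sup.ge.trans (sup_le (le_normalizer_of_le_centralizer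
        (le_centralizer_comm.1 e)) (hM.trans n)))⟩).elim
  obtain ⟨N, nN, eN⟩ : ∃ N : Subgroup X, M ≤ 𝐍 N ∧ T ⊓ N = O₂ M₀ := by
    refine hI.elim (fun i => ?_) fun i => ⟨_, le_normalizer_centralizer i, hR.symm⟩
    have lK := pResidualOf_le 2 M₀
    have nK := le_normalizer_pResidualOf 2 M₀
    have nO := le_normalizer_pCoreOf' (p := 2) nK
    have r := le_inf rT (le_cmod ((pCoreOf_le 2 M₀).trans nO) ((le_inf (commutator_le_of_le_normalizer
      ((pCoreOf_le 2 M₀).trans nK)) (commutator_le_of_le_normalizer' (lK.trans nR))).trans (inf_pCoreOf_le lK)))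
    refine ⟨_, le_normalizer_cmod i (le_normalizer_pCoreOf' (p := 2) i), (le_pCoreOf (hT.isPGroup.to_le inf_le_left)
      (inf_le_left.trans hM) (tM.pResidualOf_sup.ge.trans (sup_le (H29.le_normalizer_of_commutator_le ?_)
        (le_normalizer_inf le_normalizer (hM.trans (le_normalizer_cmod nK nO)))))).antisymm r⟩
    exact (commutator_le_of_le_cmod' inf_le_right).trans ((pCoreOf_le_of_normal lK nK).trans r)
  have z : nclIn V (H ⊓ 𝐍 (O₂ M₀)) ≤ omegaOneCenter 2 (O₂ M₀) := nclIn_le (le_omegaOneCenter vR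
    (le_centralizer_comm.1 (hR.le.trans inf_le_right)) hV.2) (inf_le_right.trans (normalizer_le_normalizer_omegaOneCenter _ _))
  have c := (le_centralizer_omegaOneCenter 2 _).trans (centralizer_anti z)
  have v := le_nclIn V (H ⊓ 𝐍 (O₂ M₀))
  exact (le_inf inf_le_left (MP.core ⟨tH, u, nT⟩ cH nN (ea_of_le (ea_omegaOneCenter 2 _) z)
    (z.trans ((omegaOneCenter_le _ _).trans rT)) (((inf_le_inf_left _ (centralizer_anti v)).trans (hR.ge.trans eN.ge)).antisymm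
      (eN.le.trans (le_inf rT c))) (eN ▸ le_normalizer_nclIn _ _) (q.of_le v (hR.ge.trans c)) j
    (k.imp (fun k => nclIn_le k (inf_le_left.trans nH)) fun k B b a => k B b (a.of_le v
      ((inf_le_inf_right _ b).trans (hR.ge.trans c)))) fun f => e (v.trans f))).trans eN.le

end H28.QR
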