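import Cfsg.Agent.H24.ND0

/-! S4780, chunk C4: the graded Lie ring of a Camina group of class four. -/

set_option autoImplicit false
set_option linter.unusedVariables false
set_option linter.unusedSectionVars false

open Subgroup H19 H24.ND Module
open scoped commutatorElement

namespace H28.ND

universe u
variable {G : Type u} [Group G] {P X Y X1 X2 X3 : Subgroup G} {E E1 E2 E3 F : Type u} [AddCommGroup E]
  [AddCommGroup E1] [AddCommGroup E2]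

/-- additive on `X`, invariant under conjugation by `P` -/
structure Ad {E : Type*} [AddCommGroup E] (P X : Subgroup G) (π : G → E) : Prop where
  add : ∀ x ∈ X, ∀ y ∈ X, π (x * y) = π x + π y
  cm : ∀ g ∈ P, ∀ x ∈ X, g * x * g⁻¹ ∈ X
  cv : ∀ g ∈ P, ∀ x ∈ X, π (g * x * g⁻¹) = π x

namespace Ad
variable {E : Type*} [AddCommGroup E] {π : G → E} (h : Ad P X π) {x y z : G}
include h

theorem one : π 1 = 0 := by simpa using h.add 1 X.one_mem 1 X.one_mem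

theorem inv (hx : x ∈ X) : π x⁻¹ = -π x := by
  have := h.add x hx x⁻¹ (X.inv_mem hx)
  rw [mul_inv_cancel, h.one] at this
  exact (neg_eq_of_add_eq_zero_right this.symm).symm

theorem pow (hx : x ∈ X) (n : ℕ) : π (x ^ n) = n • π x := by
  induction n with
  | zero => simpa using h.one
  | succ n ih => rw [pow_succ, h.add _ (X.pow_mem hx n) _ hx, ih, succ_nsmul]

theorem sw (h1 : ⁅x, y⁆ ∈ X) : π ⁅y, x⁆ = -π ⁅x, y⁆ := by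
  rw [← h.inv h1, commutatorElement_inv]

theorem cl (hx : x ∈ P) (h1 : ⁅x, z⁆ ∈ X) (h2 : ⁅y, z⁆ ∈ X) : π ⁅x * y, z⁆ = π ⁅x, z⁆ + π ⁅y, z⁆ := by
  have : ⁅x * y, z⁆ = x * ⁅y, z⁆ * x⁻¹ * ⁅x, z⁆ := by simp only [commutatorElement_def]; group
  rw [this, h.add _ (h.cm x hx _ h2) _ h1, h.cv x hx _ h2, add_comm]

theorem cr (hy : y ∈ P) (h1 : ⁅x, y⁆ ∈ X) (h2 : ⁅x, z⁆ ∈ X) : π ⁅x, y * z⁆ = π ⁅x, y⁆ + π ⁅x, z⁆ := by
  have : ⁅x, y * z⁆ = ⁅x, y⁆ * (y * ⁅x, z⁆ * y⁻¹) := by simp only [commutatorElement_def]; group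
  rw [this, h.add _ h1 _ (h.cm y hy _ h2), h.cv y hy _ h2]

theorem cp (hx : x ∈ P) (h1 : ∀ g ∈ P, ⁅g, z⁆ ∈ X) (n : ℕ) : π ⁅x ^ n, z⁆ = n • π ⁅x, z⁆ := by
  induction n with
  | zero => simpa using h.one
  | succ n ih => rw [pow_succ', h.cl hx (h1 _ hx) (h1 _ (P.pow_mem hx n)), ih, succ_nsmul']

theorem hw (h1 : ⁅⁅x, y⁆, y * z * y⁻¹⁆ ∈ X) (h2 : ⁅⁅y, z⁆, z * x * z⁻¹⁆ ∈ X) (h3 : ⁅⁅z, x⁆, x * y * x⁻¹⁆ ∈ X) :
    π ⁅⁅x, y⁆, y * z * y⁻¹⁆ + π ⁅⁅y, z⁆, z * x * z⁻¹⁆ + π ⁅⁅z, x⁆, x * y * x⁻¹⁆ = 0 := by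
  rw [← h.add _ h1 _ h2, ← h.add _ (mul_mem h1 h2) _ h3, ← h.one]
  congr 1
  simp only [commutatorElement_def]; group

theorem comp {F : Type*} [AddCommGroup F] (f : E →+ F) : Ad P X (f ∘ π) :=
  ⟨fun x hx y hy => by simp [h.add x hx y hy], h.cm, fun g hg x hx => by simp [h.cv g hg x hx]⟩

end Ad

theorem exs [Finite G] (hY : Y ≤ X) (hX : X ≤ P) (hc : ∀ g ∈ P, ∀ x ∈ X, ⁅g, x⁆ ∈ Y) :
    ∃ (E : Type u) (_ : AddCommGroup E) (_ : Finite E) (π : G → E), Ad P X π ∧ (∀ x ∈ X, π x = 0 ↔ x ∈ Y) ∧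
      ∀ e, ∃ x ∈ X, π x = e := by
  classical
  have k : ∀ g x : G, g * x * g⁻¹ = ⁅g, x⁆ * x := fun g x => by simp [commutatorElement_def]
  have hn : (Y.subgroupOf X).Normal := ⟨fun n hn g => by
    rw [mem_subgroupOf] at hn ⊢
    rw [coe_mul, coe_mul, coe_inv, k]
    exact mul_mem (hc _ (hX g.2) _ n.2) hn⟩
  let Q := X ⧸ Y.subgroupOf X
  let : CommGroup Q := { (inferInstance : Group Q) with
    mul_comm := fun a b => by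
      induction a using QuotientGroup.induction_on with | H a =>
      induction b using QuotientGroup.induction_on with | H b =>
      rw [← QuotientGroup.mk_mul, ← QuotientGroup.mk_mul, QuotientGroup.eq, mem_subgroupOf]
      have := hc _ (hX (X.inv_mem b.2)) _ (X.inv_mem a.2)
      simpa [commutatorElement_def, mul_assoc] using this }
  let π : G → Additive Q := fun x => if h : x ∈ X then Additive.ofMul ((⟨x, h⟩ : X) : Q) else 0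
  have a : ∀ x ∈ X, ∀ y ∈ X, π (x * y) = π x + π y := fun x hx y hy => by
    simp only [π, hx, hy, X.mul_mem hx hy, dif_pos]
    rfl
  have b : ∀ x ∈ X, π x = 0 ↔ x ∈ Y := fun x hx => by
    simp only [π, hx, dif_pos]
    exact (QuotientGroup.eq_one_iff _).trans mem_subgroupOf
  refine ⟨Additive Q, inferInstance, inferInstance, π, ⟨a, fun g hg x hx => ?_, fun g hg x hx => ?_⟩, b,
    fun e => ?_⟩
  · rw [k]; exact mul_mem (hY (hc g hg x hx)) hx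
  · rw [k, a _ (hY (hc g hg x hx)) _ hx, (b _ (hY (hc g hg x hx))).2 (hc g hg x hx), zero_add]
  · induction e using Additive.rec with | ofMul a =>
    induction a using QuotientGroup.induction_on with | H a =>
    exact ⟨a, a.2, by simp [π]⟩

variable {p : ℕ} [Fact p.Prime]

theorem lift1 {E F : Type*} [AddCommGroup E] [AddCommGroup F] [Module (ZMod p) E] [Module (ZMod p) F]
    {π : G → E} {f : G → F} (a : ∀ x ∈ X, ∀ y ∈ X, π (x * y) = π x + π y) (s : ∀ e, ∃ x ∈ X, π x = e)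
    (b : ∀ x ∈ X, ∀ y ∈ X, f (x * y) = f x + f y) (k : ∀ x ∈ X, π x = 0 → f x = 0) :
    ∃ g : E →ₗ[ZMod p] F, ∀ x ∈ X, g (π x) = f x := by
  choose σ s1 s2 using s
  have c : ∀ x ∈ X, f (σ (π x)) = f x := fun x hx => by
    have h1 := mul_mem (s1 (π x)) (inv_mem hx)
    have h2 := a _ h1 x hx
    have h3 := b _ h1 x hx
    rw [inv_mul_cancel_right] at h2 h3
    rw [s2, right_eq_add] at h2
    rw [h3, k _ h1 h2, zero_add]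
  refine ⟨(AddMonoidHom.mk' (fun e => f (σ e)) fun e e' => ?_).toZModLinearMap p, c⟩
  rw [← b _ (s1 e) _ (s1 e'), ← c _ (mul_mem (s1 e) (s1 e')), a _ (s1 e) _ (s1 e'), s2, s2]

theorem bil {E1 E2 E3 : Type*} [AddCommGroup E1] [AddCommGroup E2] [AddCommGroup E3] [Module (ZMod p) E1]
    [Module (ZMod p) E2] [Module (ZMod p) E3] {π1 : G → E1} {π2 : G → E2} {φ : G → E3}
    (l1 : X1 ≤ P) (l2 : X2 ≤ P) (a1 : ∀ x ∈ X1, ∀ y ∈ X1, π1 (x * y) = π1 x + π1 y) (s1 : ∀ e, ∃ x ∈ X1, π1 x = e)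
    (a2 : ∀ x ∈ X2, ∀ y ∈ X2, π2 (x * y) = π2 x + π2 y) (s2 : ∀ e, ∃ x ∈ X2, π2 x = e) (h : Ad P X3 φ)
    (c : ∀ x ∈ X1, ∀ y ∈ X2, ⁅x, y⁆ ∈ X3) (k1 : ∀ x ∈ X1, π1 x = 0 → ∀ y ∈ X2, φ ⁅x, y⁆ = 0)
    (k2 : ∀ y ∈ X2, π2 y = 0 → ∀ x ∈ X1, φ ⁅x, y⁆ = 0) :
    ∃ β : E1 →ₗ[ZMod p] E2 →ₗ[ZMod p] E3, ∀ x ∈ X1, ∀ y ∈ X2, β (π1 x) (π2 y) = φ ⁅x, y⁆ := by
  classical
  have : ∀ x ∈ X1, ∃ g : E2 →ₗ[ZMod p] E3, ∀ y ∈ X2, g (π2 y) = φ ⁅x, y⁆ := fun x hx =>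
    lift1 a2 s2 (fun y hy z hz => h.cr (l2 hy) (c x hx y hy) (c x hx z hz)) fun y hy e => k2 y hy e x hx
  choose! g hg using this
  obtain ⟨β, hβ⟩ := lift1 (p := p) (f := g) a1 s1 (fun x hx y hy => LinearMap.ext fun e => by
      obtain ⟨z, hz, rfl⟩ := s2 e
      rw [LinearMap.add_apply, hg _ (mul_mem hx hy) z hz, hg x hx z hz, hg y hy z hz,
        h.cl (l1 hx) (c x hx z hz) (c y hy z hz)])
    fun x hx e => LinearMap.ext fun e' => by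
      obtain ⟨z, hz, rfl⟩ := s2 e'
      rw [hg x hx z hz, k1 x hx e z hz, LinearMap.zero_apply]
  exact ⟨β, fun x hx y hy => by rw [hβ x hx, hg x hx y hy]⟩

theorem sw {S : Subgroup G} {x y : G} (h : ⁅x, y⁆ ∈ S) : ⁅y, x⁆ ∈ S := by
  rw [← commutatorElement_inv]; exact inv_mem h

theorem tri {B B' B'' : Subgroup G} (l : B ≤ P) (l' : B' ≤ B) (c : ∀ g ∈ P, ∀ a ∈ B, ⁅g, a⁆ ∈ B')
    (c' : ∀ g ∈ P, ∀ a ∈ B', ⁅g, a⁆ ∈ B'') {x y a : G} (hx : x ∈ P) (hy : y ∈ P) (ha : a ∈ B) :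
    ⁅⁅x, y⁆, a⁆ ∈ B'' := by
  have hz : y⁻¹ * a * y ∈ B := by
    have := mul_mem (l' (c _ (inv_mem hy) a ha)) ha
    simpa [commutatorElement_def] using this
  have e : ⁅⁅x, y⁆, a⁆ = (⁅⁅y, y⁻¹ * a * y⁆, y⁻¹ * a * y * x * (y⁻¹ * a * y)⁻¹⁆ *
      ⁅⁅y⁻¹ * a * y, x⁆, x * y * x⁻¹⁆)⁻¹ := by simp only [commutatorElement_def]; group
  rw [e]
  exact inv_mem (mul_mem (sw (c' _ (mul_mem (mul_mem (l hz) hx) (inv_mem (l hz))) _ (c y hy _ hz)))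
    (sw (c' _ (mul_mem (mul_mem hx hy) (inv_mem hx)) _ (sw (c x hx _ hz)))))

theorem dual {Z : Type*} [AddCommGroup Z] [Module (ZMod p) Z] {v : Z} (h : v ≠ 0) :
    ∃ f : Z →ₗ[ZMod p] ZMod p, f v ≠ 0 :=
  not_forall.1 (mt (Module.forall_dual_apply_eq_zero_iff (ZMod p) v).1 h)

theorem core (ml : ML.{u}) [Finite G] {V A2 A3 A4 A5 : Subgroup G} (hp : PG p P) (lV : V ≤ P) (l2 : A2 ≤ V)
    (l3 : A3 ≤ A2) (l4 : A4 ≤ A3) (l5 : A5 ≤ A4) (c1 : ∀ g ∈ P, ∀ x ∈ P, ⁅g, x⁆ ∈ A2)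
    (c2 : ∀ g ∈ P, ∀ x ∈ A2, ⁅g, x⁆ ∈ A3) (c3 : ∀ g ∈ P, ∀ x ∈ A3, ⁅g, x⁆ ∈ A4)
    (c4 : ∀ g ∈ P, ∀ x ∈ A4, ⁅g, x⁆ ∈ A5)
    (hV : ∀ v ∈ V, ∃ w ∈ A2, ∃ j ∈ P, v = w * j ∧ ∀ g ∈ P, ⁅g, j⁆ ∈ A5)
    (o2 : ∀ x ∈ P, x ∉ V → ∀ y ∈ A2, ∃ g ∈ P, ⁅g, x⁆ = y)
    (o3 : ∀ w ∈ A2, w ∉ A3 → ∀ y ∈ A3, ∃ g ∈ P, ⁅g, w⁆ * y⁻¹ ∈ A4)
    (o4 : ∀ w ∈ A3, w ∉ A4 → ∀ y ∈ A4, ∃ g ∈ P, ⁅g, w⁆ * y⁻¹ ∈ A5)
    (n1 : ¬ P ≤ V) (n2 : ¬ A2 ≤ A3) (n3 : ¬ A3 ≤ A4) (n4 : ¬ A4 ≤ A5) : False := by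
  classical
  have p2 := l2.trans lV
  have p3 := l3.trans p2
  have p4 := l4.trans p3
  obtain ⟨A, _, _, π1, a1, k1, s1⟩ := exs lV le_rfl fun g hg x hx => l2 (c1 g hg x hx)
  obtain ⟨W, _, _, π2, a2, k2, s2⟩ := exs l3 p2 c2
  obtain ⟨Y, _, _, π3, a3, k3, s3⟩ := exs l4 p3 c3
  obtain ⟨Z, _, _, π4, a4, k4, s4⟩ := exs l5 p4 c4
  obtain ⟨x0, x1, x2⟩ := SetLike.not_le_iff_exists.1 n1
  obtain ⟨w0, w1, w2⟩ := SetLike.not_le_iff_exists.1 n2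
  obtain ⟨y0, y1, y2⟩ := SetLike.not_le_iff_exists.1 n3
  obtain ⟨z0, z1, z2⟩ := SetLike.not_le_iff_exists.1 n4
  have t2 : ∀ w ∈ A2, ∀ a ∈ A2, ⁅w, a⁆ ∈ A4 := fun w hw a ha => by
    obtain ⟨g, hg, rfl⟩ := o2 x0 x1 x2 w hw
    exact tri p2 l3 c2 c3 hg x1 ha
  have t3 : ∀ w ∈ A2, ∀ a ∈ A3, ⁅w, a⁆ ∈ A5 := fun w hw a ha => by
    obtain ⟨g, hg, rfl⟩ := o2 x0 x1 x2 w hw
    exact tri p3 l4 c3 c4 hg x1 ha
  have vv : ∀ S : Subgroup G, A5 ≤ S → ∀ a ∈ P, (∀ w ∈ A2, ⁅w, a⁆ ∈ S) → ∀ v ∈ V, ⁅a, v⁆ ∈ S := by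
    intro S hS a ha h v hv
    obtain ⟨w, hw, j, hj, rfl, e⟩ := hV v hv
    have : ⁅a, w * j⁆ = ⁅a, w⁆ * (⁅w, ⁅a, j⁆⁆ * ⁅a, j⁆) := by simp only [commutatorElement_def]; group
    rw [this]
    exact mul_mem (sw (h w hw)) (hS (mul_mem (c4 w (p2 hw) _ (l5 (e a ha))) (e a ha)))
  have v1 : ∀ v ∈ V, ∀ g ∈ P, ⁅g, v⁆ ∈ A3 := fun v hv g hg =>
    vv _ (l5.trans l4) g hg (fun w hw => sw (c2 g hg w hw)) v hv
  have v2 : ∀ v ∈ V, ∀ a ∈ A2, ⁅a, v⁆ ∈ A4 := fun v hv a ha => vv _ l5 a (p2 ha) (fun w hw => t2 w hw a ha) v hv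
  have v3 : ∀ v ∈ V, ∀ a ∈ A3, ⁅a, v⁆ ∈ A5 := fun v hv a ha => vv _ le_rfl a (p3 ha) (fun w hw => t3 w hw a ha) v hv
  have q3 : ∀ w ∈ A2, w ∉ A3 → ∀ e, ∃ g ∈ P, π3 ⁅g, w⁆ = e := fun w hw h e => by
    obtain ⟨y, hy, rfl⟩ := s3 e
    obtain ⟨g, hg, e⟩ := o3 w hw h y hy
    have := (k3 _ (l4 e)).2 e
    rw [a3.add _ (c2 g hg w hw) _ (inv_mem hy), a3.inv hy, add_neg_eq_zero] at this
    exact ⟨g, hg, this⟩
  have q4 : ∀ w ∈ A3, w ∉ A4 → ∀ e, ∃ g ∈ P, π4 ⁅g, w⁆ = e := fun w hw h e => by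
    obtain ⟨y, hy, rfl⟩ := s4 e
    obtain ⟨g, hg, e⟩ := o4 w hw h y hy
    have := (k4 _ (l5 e)).2 e
    rw [a4.add _ (c3 g hg w hw) _ (inv_mem hy), a4.inv hy, add_neg_eq_zero] at this
    exact ⟨g, hg, this⟩
  have e1 : ∀ x ∈ P, x ^ p ∈ V := fun x hx => by_contra fun h => by
    have h1 : ∀ e : W, ∃ e', e = p • e' := fun e => by
      obtain ⟨y, hy, rfl⟩ := s2 e
      obtain ⟨g, hg, rfl⟩ := o2 _ (pow_mem hx p) h y hy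
      exact ⟨-π2 ⁅x, g⁆, by rw [a2.sw (sw hy), a2.cp hx (fun a ha => c1 a ha g hg), smul_neg]⟩
    have h2 : ∀ (k : ℕ) (e : W), ∃ e', e = p ^ k • e' := fun k => by
      induction k with
      | zero => exact fun e => ⟨e, by simp⟩
      | succ k ih =>
        intro e
        obtain ⟨e', rfl⟩ := ih e
        obtain ⟨e'', rfl⟩ := h1 e'
        exact ⟨e'', by rw [pow_succ, mul_smul]⟩
    obtain ⟨k, hk⟩ := hp.exists_card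
    obtain ⟨e, he⟩ := h2 k (π2 w0)
    obtain ⟨y, hy, rfl⟩ := s2 e
    have h3 : y ^ p ^ k = 1 := by
      rw [← hk]; exact congrArg Subtype.val (pow_card_eq_one' (x := (⟨y, p2 hy⟩ : P)))
    rw [← a2.pow hy, h3, a2.one] at he
    exact w2 ((k2 _ w1).1 he)
  obtain ⟨iA⟩ : Nonempty (Module (ZMod p) A) := ⟨AddCommGroup.zmodModule fun e => by
    obtain ⟨x, hx, rfl⟩ := s1 e
    rw [← a1.pow hx, (k1 _ (pow_mem hx p)).2 (e1 x hx)]⟩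
  obtain ⟨iW⟩ : Nonempty (Module (ZMod p) W) := ⟨AddCommGroup.zmodModule fun e => by
    obtain ⟨y, hy, rfl⟩ := s2 e
    obtain ⟨g, hg, rfl⟩ := o2 x0 x1 x2 y hy
    rw [← a2.cp hg fun a ha => c1 a ha x0 x1, (k2 _ (c1 _ (pow_mem hg p) _ x1)).2 (sw (v1 _ (e1 g hg) _ x1))]⟩
  obtain ⟨iY⟩ : Nonempty (Module (ZMod p) Y) := ⟨AddCommGroup.zmodModule fun e => by
    obtain ⟨g, hg, rfl⟩ := q3 w0 w1 w2 e
    rw [← a3.cp hg fun a ha => c2 a ha w0 w1, (k3 _ (c2 _ (pow_mem hg p) _ w1)).2 (sw (v2 _ (e1 g hg) _ w1))]⟩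
  obtain ⟨iZ⟩ : Nonempty (Module (ZMod p) Z) := ⟨AddCommGroup.zmodModule fun e => by
    obtain ⟨g, hg, rfl⟩ := q4 y0 y1 y2 e
    rw [← a4.cp hg fun a ha => c3 a ha y0 y1, (k4 _ (c3 _ (pow_mem hg p) _ y1)).2 (sw (v3 _ (e1 g hg) _ y1))]⟩
  obtain ⟨f, hf⟩ := dual (p := p) (mt (k4 _ z1).1 z2)
  have a5 := a4.comp f.toAddMonoidHom
  have k5 : ∀ x ∈ A5, (f.toAddMonoidHom ∘ π4) x = 0 := fun x hx => by simp [(k4 x (l5 hx)).2 hx]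
  obtain ⟨b, hb⟩ := bil (p := p) le_rfl le_rfl a1.add s1 a1.add s1 a2 c1
    (fun x hx e y hy => (k2 _ (c1 x hx y hy)).2 (sw (v1 x ((k1 x hx).1 e) y hy)))
    fun y hy e x hx => (k2 _ (c1 x hx y hy)).2 (v1 y ((k1 y hy).1 e) x hx)
  obtain ⟨m, hm⟩ := bil (p := p) p2 le_rfl a2.add s2 a1.add s1 a3 (fun x hx y hy => sw (c2 y hy x hx))
    (fun x hx e y hy => (k3 _ (sw (c2 y hy x hx))).2 (sw (c3 y hy x ((k2 x hx).1 e))))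
    fun y hy e x hx => (k3 _ (sw (c2 y hy x hx))).2 (v2 y ((k1 y hy).1 e) x hx)
  obtain ⟨n, hn⟩ := bil (p := p) p3 le_rfl a3.add s3 a1.add s1 a5 (fun x hx y hy => sw (c3 y hy x hx))
    (fun x hx e y hy => k5 _ (sw (c4 y hy x ((k3 x hx).1 e))))
    fun y hy e x hx => k5 _ (v3 y ((k1 y hy).1 e) x hx)
  obtain ⟨ω, hω⟩ := bil (p := p) p2 p2 a2.add s2 a2.add s2 a5 t2
    (fun x hx e y hy => k5 _ (sw (t3 y hy x ((k2 x hx).1 e))))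
    fun y hy e x hx => k5 _ (t3 x hx y ((k2 y hy).1 e))
  have : Nontrivial W := ⟨⟨π2 w0, 0, mt (k2 _ w1).1 w2⟩⟩
  have : Nontrivial Y := ⟨⟨π3 y0, 0, mt (k3 _ y1).1 y2⟩⟩
  refine ml p A W Y b m n ω (fun x => ?_) (fun x => ?_) (fun x y z => ?_) (fun w x y => ?_) (fun x h e => ?_)
    (fun x h e => ?_) (fun y h => ?_) fun T hT I hI => ?_
  · obtain ⟨x, hx, rfl⟩ := s1 x
    rw [hb x hx x hx, commutatorElement_self, a2.one]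
  · obtain ⟨x, hx, rfl⟩ := s2 x
    rw [hω x hx x hx, commutatorElement_self, a5.one]
  · obtain ⟨x, hx, rfl⟩ := s1 x
    obtain ⟨y, hy, rfl⟩ := s1 y
    obtain ⟨z, hz, rfl⟩ := s1 z
    have h : ∀ x ∈ P, ∀ y ∈ P, ∀ z ∈ P, ⁅⁅x, y⁆, y * z * y⁻¹⁆ ∈ A3 ∧
        m (b (π1 x) (π1 y)) (π1 z) = π3 ⁅⁅x, y⁆, y * z * y⁻¹⁆ := fun x hx y hy z hz =>
      ⟨sw (c2 _ (a1.cm y hy z hz) _ (c1 x hx y hy)), by
        rw [hb x hx y hy, ← a1.cv y hy z hz, hm _ (c1 x hx y hy) _ (a1.cm y hy z hz)]⟩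
    rw [(h x hx y hy z hz).2, (h y hy z hz x hx).2, (h z hz x hx y hy).2]
    exact a3.hw (h x hx y hy z hz).1 (h y hy z hz x hx).1 (h z hz x hx y hy).1
  · obtain ⟨w, hw, rfl⟩ := s2 w
    obtain ⟨x, hx, rfl⟩ := s1 x
    obtain ⟨y, hy, rfl⟩ := s1 y
    have h1 := a1.cm x hx y hy
    have h2 := a2.cm y hy w hw
    have h3 := a1.cm w (p2 hw) x hx
    have h4 := sw (c2 x hx w hw)
    have h5 := c2 y hy w hw
    have h6 := c1 x hx y hy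
    have := a5.hw (sw (c3 _ h1 _ h4)) (t2 _ h6 _ h2) (sw (c3 _ h3 _ h5))
    rw [← hn _ h4 _ h1, ← hn _ h5 _ h3, a5.sw (t2 _ h2 _ h6), ← hω _ h2 _ h6, a1.cv x hx y hy,
      a2.cv y hy w hw, a1.cv w (p2 hw) x hx, a3.sw (sw h5), map_neg, LinearMap.neg_apply] at this
    rw [hm w hw x hx, hm w hw y hy, hb x hx y hy]
    linear_combination this
  · obtain ⟨x, hx, rfl⟩ := s1 x
    obtain ⟨y, hy, rfl⟩ := s2 e
    obtain ⟨g, hg, e⟩ := o2 x hx (mt (k1 x hx).2 h) _ (inv_mem hy)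
    exact ⟨π1 g, by rw [hb x hx g hg, ← commutatorElement_inv, e, inv_inv]⟩
  · obtain ⟨x, hx, rfl⟩ := s2 x
    obtain ⟨g, hg, e⟩ := q3 x hx (mt (k2 x hx).2 h) (-e)
    exact ⟨π1 g, by rw [hm x hx g hg, a3.sw (c2 g hg x hx), e, neg_neg]⟩
  · obtain ⟨y, hy, rfl⟩ := s3 y
    refine by_contra fun h1 => ?_
    obtain ⟨g, hg, e⟩ := q4 y hy (mt (k3 y hy).2 h1) (π4 z0)
    have := h (π1 g)
    rw [hn y hy g hg, a5.sw (c3 g hg y hy), neg_eq_zero] at this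
    exact hf (by rw [← e]; exact this)
  · let TT : Subgroup G :=
      { carrier := {x | x ∈ P ∧ π1 x ∈ T}
        one_mem' := ⟨one_mem _, by rw [a1.one]; exact zero_mem _⟩
        mul_mem' := fun {a b} ha hb => ⟨mul_mem ha.1 hb.1, by
          rw [a1.add a ha.1 b hb.1]; exact add_mem ha.2 hb.2⟩
        inv_mem' := fun {a} ha => ⟨inv_mem ha.1, by rw [a1.inv ha.1]; exact neg_mem ha.2⟩ }
    let τ : G → T := fun x => if h : π1 x ∈ T then ⟨π1 x, h⟩ else 0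
    have d : ∀ x ∈ TT, (τ x : A) = π1 x := fun x hx => by simp only [τ, dif_pos hx.2]
    have d1 : ∀ x ∈ TT, ∀ y ∈ TT, τ (x * y) = τ x + τ y := fun x hx y hy => Subtype.ext (by
      rw [Submodule.coe_add, d _ (mul_mem hx hy), d x hx, d y hy, a1.add x hx.1 y hy.1])
    have d2 : ∀ e, ∃ x ∈ TT, τ x = e := fun e => by
      obtain ⟨x, hx, h⟩ := s1 e
      have : x ∈ TT := ⟨hx, h ▸ e.2⟩
      exact ⟨x, this, Subtype.ext ((d x this).trans h)⟩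
    have a6 := a3.comp I.mkQ.toAddMonoidHom
    have d3 : ∀ x ∈ TT, ∀ y ∈ TT, ⁅x, y⁆ ∈ A3 := fun x hx y hy => by
      by_cases h : π1 x = 0
      · exact sw (v1 x ((k1 x hx.1).1 h) y hy.1)
      have := hy.2
      rw [← hT _ hx.2 h, LinearMap.mem_ker, hb x hx.1 y hy.1] at this
      exact (k2 _ (c1 x hx.1 y hy.1)).1 this
    have d4 : ∀ x ∈ TT, τ x = 0 → ∀ y ∈ TT, (I.mkQ.toAddMonoidHom ∘ π3) ⁅x, y⁆ = 0 := fun x hx e y hy => by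
      obtain ⟨w, hw, j, hj, rfl, h⟩ := hV x ((k1 x hx.1).1 (by rw [← d x hx, e]; rfl))
      have h1 := sw (h y hy.1)
      rw [a6.cl (p2 hw) (sw (c2 y hy.1 w hw)) (l4 (l5 h1)), Function.comp_apply, Function.comp_apply,
        (k3 _ (l4 (l5 h1))).2 (l5 h1), map_zero, add_zero, ← hm w hw y hy.1]
      exact (Submodule.Quotient.mk_eq_zero I).2 (hI _ _ hy.2)
    obtain ⟨κ, hκ⟩ := bil (p := p) (X1 := TT) (X2 := TT) (fun _ h => h.1) (fun _ h => h.1) d1 d2 d1 d2 a6 d3 d4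
      fun y hy e x hx => by rw [a6.sw (d3 y hy x hx), d4 y hy e x hx, neg_zero]
    refine ⟨κ, fun x => ?_, fun x h e => ?_⟩
    · obtain ⟨x, hx, rfl⟩ := d2 x
      rw [hκ x hx x hx, commutatorElement_self, a6.one]
    · obtain ⟨x, hx, rfl⟩ := d2 x
      obtain ⟨e, rfl⟩ := I.mkQ_surjective e
      obtain ⟨y, hy, rfl⟩ := s3 e
      have h1 : π1 x ≠ 0 := fun e => h (Subtype.ext ((d x hx).trans e))
      obtain ⟨g, hg, e⟩ := o2 x hx.1 (mt (k1 x hx.1).2 h1) _ (inv_mem (l3 hy))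
      have e' : ⁅x, g⁆ = y := by rw [← commutatorElement_inv, e, inv_inv]
      have h2 : g ∈ TT := ⟨hg, by
        rw [← hT _ hx.2 h1, LinearMap.mem_ker, hb x hx.1 g hg, e', (k2 y (l3 hy)).2 hy]⟩
      exact ⟨τ g, by rw [hκ x hx g h2, e']; rfl⟩

theorem c4 (ml : ML.{u}) : C4.{u} := by
  intro G _ _ P J p hp hP hJ h5 o2 o3 o4
  have := Fact.mk hp
  have l2 : g2 P ≤ P := der_le P
  have l3 : g3 P ≤ g2 P := commutator_mono l2 le_rfl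
  have l4 : g4 P ≤ g3 P := commutator_mono l3 le_rfl
  have l5 : g5 P ≤ g4 P := commutator_mono l4 le_rfl
  have c : ∀ X : Subgroup G, ∀ g ∈ P, ∀ x ∈ X, ⁅g, x⁆ ∈ ⁅X, P⁆ := fun X g hg x hx =>
    sw (commutator_mem_commutator hx hg)
  have n2 : normalizer (g2 P : Set G) ≥ J := hJ.trans (der_normal P).norm
  have hV : ∀ v ∈ g2 P ⊔ J, ∃ w ∈ g2 P, ∃ j ∈ P, v = w * j ∧ ∀ g ∈ P, ⁅g, j⁆ ∈ g5 P := fun v hv => by
    obtain ⟨w, hw, j, hj, e⟩ := (mem_sup_of_norm n2).1 hv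
    exact ⟨w, hw, j, hJ hj, e, fun g hg => h5 (c J g hg j hj)⟩
  refine by_contra fun n4 => ?_
  have n3 : ¬ g3 P ≤ g4 P := fun e => n4 (commutator_mono e le_rfl)
  have n2 : ¬ g2 P ≤ g3 P := fun e => n3 (commutator_mono e le_rfl)
  refine core ml hP (sup_le l2 hJ) le_sup_left l3 l4 l5 (c P) (c _) (c _) (c _) hV (fun x hx h y hy => ?_)
    o3 o4 (fun e => n2 (commutator_le.2 fun x hx y hy => ?_)) n2 n3 n4
  · obtain ⟨g, hg, e⟩ := o2 x hx h y hy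
    exact ⟨g, hg, by rw [commutatorElement_def, e, mul_inv_cancel_right]⟩
  · obtain ⟨w, hw, j, hj, rfl, h⟩ := hV y (e hy)
    have : ⁅x, w * j⁆ = ⁅x, w⁆ * (⁅w, ⁅x, j⁆⁆ * ⁅x, j⁆) := by simp only [commutatorElement_def]; group
    rw [this]
    exact mul_mem (c _ x hx w hw) (l4 (mul_mem (l5 (c _ w (l2 hw) _ (l5 (h x hx)))) (l5 (h x hx))))

end H28.ND
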