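import Cfsg.Agent.H29.Alperin
import Cfsg.Prelude.Def_FusionSystem

/-! Finite groups with isomorphic 2-fusion systems. -/

set_option autoImplicit false

namespace H28.FE
open Cfsg Subgroup H28

variable {X Y G H K : Type*} [Group X] [Group Y] [Group G] [Group H] [Group K]
  {i : X →* G} {j : X →* H} {k : X →* K} {A : Set (X × X)} {g : G}

/-- conjugation by `g` realizes the pairs of `A` -/
def Rl (i : X →* G) (A : Set (X × X)) (g : G) : Prop := ∀ p ∈ A, i p.2 = g * i p.1 * g⁻¹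

def Fu (i : X →* G) (A : Set (X × X)) : Prop := ∃ g, Rl i A g

/-- an isomorphism onto a Sylow 2-subgroup -/
structure Em (i : X →* G) : Prop where
  inj : Function.Injective i
  syl : IsSylowIn 2 i.range ⊤

def Eqv (i : X →* G) (j : X →* H) : Prop := ∀ A, Fu i A ↔ Fu j A

/-- `G` and `H` have isomorphic 2-fusion systems -/
def FE (G H : Type*) [Group G] [Group H] : Prop :=
  ∃ (S : Subgroup G) (ι : S →* H), Em S.subtype ∧ Em ι ∧ Eqv S.subtype ι

theorem Eqv.symm (h : Eqv i j) : Eqv j i := fun A => (h A).symm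

theorem Eqv.trans (h : Eqv i j) (h' : Eqv j k) : Eqv i k := fun A => (h A).trans (h' A)

theorem fu_comp (θ : Y →* X) {B : Set (Y × Y)} : Fu (i.comp θ) B ↔ Fu i (Prod.map θ θ '' B) :=
  exists_congr fun _ => ⟨fun h _ ⟨p, hp, e⟩ => e ▸ h p hp, fun h p hp => h _ ⟨p, hp, rfl⟩⟩

theorem Eqv.comp (h : Eqv i j) (θ : Y →* X) : Eqv (i.comp θ) (j.comp θ) := fun _ => by
  rw [fu_comp, fu_comp]; exact h _

theorem eqv_conj {i' : X →* G} (h : ∀ x, i' x = g * i x * g⁻¹) : Eqv i i' := fun _ =>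
  ⟨fun ⟨a, ha⟩ => ⟨g * a * g⁻¹, fun p hp => by rw [h, h, ha p hp]; group⟩,
    fun ⟨a, ha⟩ => ⟨g⁻¹ * a * g, fun p hp => by
      have := ha p hp
      rw [h, h] at this
      rw [show i p.2 = g⁻¹ * (g * i p.2 * g⁻¹) * g by group, this]; group⟩⟩

theorem Fu.map (f : G →* H) (h : Fu i A) : Fu (f.comp i) A :=
  let ⟨g, h⟩ := h; ⟨f g, fun p hp => by simp [h p hp]⟩

theorem eqv_equiv (e : G ≃* H) : Eqv i (e.toMonoidHom.comp i) := fun _ =>
  ⟨Fu.map _, fun h => by simpa [← MonoidHom.comp_assoc] using h.map e.symm.toMonoidHom⟩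

theorem fu_pair {a b : X} : Fu i {(a, b)} ↔ IsConj (i a) (i b) := by
  rw [isConj_iff]
  exact exists_congr fun g => ⟨fun h => (h _ rfl).symm, fun h p hp => hp ▸ h.symm⟩

theorem Eqv.isConj (h : Eqv i j) {a b : X} : IsConj (i a) (i b) ↔ IsConj (j a) (j b) := by
  rw [← fu_pair, ← fu_pair]; exact h _

theorem Eqv.one (h : Eqv i j) {a : X} : i a = 1 ↔ j a = 1 := by
  simpa [eq_comm] using h.isConj (a := 1) (b := a)

theorem Eqv.inj (h : Eqv i j) (hi : Function.Injective i) : Function.Injective j :=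
  (injective_iff_map_eq_one _).2 fun a ha => (injective_iff_map_eq_one _).1 hi a (h.one.2 ha)

theorem Em.card [Finite G] (h : Em i) : Nat.card X = 2 ^ (Nat.card G).factorization 2 := by
  rw [Nat.card_congr (MonoidHom.ofInjective h.inj).toEquiv, h.syl.card_eq_pow_factorization, card_top]

theorem Em.pg (h : Em i) : IsPGroup 2 X := h.syl.isPGroup.of_equiv (MonoidHom.ofInjective h.inj).symm

theorem em_of_card [Finite G] (hi : Function.Injective i) (h : Nat.card X = 2 ^ (Nat.card G).factorization 2) :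
    Em i := by
  obtain ⟨T, hT⟩ := exists_isSylowIn 2 (⊤ : Subgroup G)
  have e := Nat.card_congr (MonoidHom.ofInjective hi).toEquiv
  refine ⟨hi, hT.of_card_le (IsPGroup.of_card (e ▸ h)) le_top ?_⟩
  rw [← e, h, hT.card_eq_pow_factorization, card_top]

theorem em_of_le [Finite G] (hi : Function.Injective i) (hX : IsPGroup 2 X)
    (h : 2 ^ (Nat.card G).factorization 2 ≤ Nat.card X) : Em i := by
  obtain ⟨T, hT⟩ := exists_isSylowIn 2 (⊤ : Subgroup G)
  refine ⟨hi, hT.of_card_le (hX.of_equiv (MonoidHom.ofInjective hi)) le_top ?_⟩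
  rwa [← Nat.card_congr (MonoidHom.ofInjective hi).toEquiv, hT.card_eq_pow_factorization, card_top]

theorem em_sylow (S : Sylow 2 G) : Em (S : Subgroup G).subtype :=
  ⟨Subtype.val_injective, by rw [range_subtype]; exact isSylowIn_top S⟩

theorem fe_of (hi : Em i) (hj : Em j) (h : Eqv i j) : FE G H := by
  let e := MonoidHom.ofInjective hi.inj
  refine ⟨i.range, j.comp e.symm.toMonoidHom, ⟨Subtype.val_injective, by rw [range_subtype]; exact hi.syl⟩,
    ⟨hj.inj.comp e.symm.injective, ?_⟩, ?_⟩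
  · rw [MonoidHom.range_comp, MonoidHom.range_eq_top.2 e.symm.surjective, ← MonoidHom.range_eq_map]
    exact hj.syl
  · convert h.comp e.symm.toMonoidHom
    ext x
    exact (MonoidHom.apply_ofInjective_symm hi.inj x).symm

theorem FE.symm (h : FE G H) : FE H G := let ⟨_, _, a, b, c⟩ := h; fe_of b a c.symm

/-- every 2-subgroup of `G` has a copy in `H` with the same fusion -/
theorem FE.ex [Finite G] (h : FE G H) (f : Y →* G) (hf : IsPGroup 2 f.range) : ∃ f' : Y →* H, Eqv f f' := by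
  obtain ⟨S, ι, a, -, c⟩ := h
  obtain ⟨g, -, hg⟩ := a.syl.exists_conj_le hf le_top
  rw [range_subtype] at hg
  let θ : Y →* S := ((MulAut.conj g).toMonoidHom.comp f).codRestrict S fun y => hg (conj_mem_cj ⟨y, rfl⟩)
  exact ⟨ι.comp θ, (eqv_conj (i' := S.subtype.comp θ) (g := g) fun _ => rfl).trans (c.comp θ)⟩

theorem FE.fact [Finite G] [Finite H] (h : FE G H) :
    (Nat.card G).factorization 2 = (Nat.card H).factorization 2 :=
  let ⟨_, _, a, b, _⟩ := h; Nat.pow_right_injective le_rfl (a.card.symm.trans b.card)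

theorem FE.em [Finite G] [Finite H] (h : FE G H) (hi : Em i) : ∃ j : X →* H, Em j ∧ Eqv i j :=
  let ⟨j, hj⟩ := h.ex i hi.syl.isPGroup
  ⟨j, em_of_card (hj.inj hi.inj) (h.fact ▸ hi.card), hj⟩

theorem FE.trans [Finite H] [Finite K] (h : FE G H) (h' : FE H K) : FE G K :=
  let ⟨_, _, a, b, c⟩ := h
  let ⟨_, d, e⟩ := h'.em b
  fe_of a d (c.trans e)

theorem fe_equiv [Finite G] (e : G ≃* H) : FE G H := by
  have : Finite H := .of_equiv _ e.toEquiv
  obtain ⟨S⟩ : Nonempty (Sylow 2 G) := inferInstance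
  have a := em_sylow S
  exact fe_of a (em_of_card (e.injective.comp a.inj) (Nat.card_congr e.toEquiv ▸ a.card)) (eqv_equiv e)

/-- the form used in the statement -/
theorem fe_iff [Finite G] [Finite H] (S : Sylow 2 G) :
    (∃ ι : (S : Subgroup G) →* H, (groupFusionSystem (S : Subgroup G)).IsRealizedBy ι ∧
      ∃ T : Sylow 2 H, (T : Subgroup H) = ι.range) ↔ FE G H := by
  constructor
  · rintro ⟨ι, ⟨h1, h2⟩, T, hT⟩
    refine fe_of (em_sylow S) ⟨h1, hT ▸ isSylowIn_top T⟩ fun A => ⟨fun ⟨g, hg⟩ => ?_, fun ⟨g, hg⟩ => ?_⟩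
    · let P : Subgroup G := S ⊓ (S : Subgroup G).comap (MulAut.conj g).toMonoidHom
      obtain ⟨h, hh⟩ := (h2 P inf_le_left (conjHom P g) fun x => x.2.2).1 ⟨inf_le_left, fun x => x.2.2, g, fun _ => rfl⟩
      refine ⟨h, fun p hp => ?_⟩
      have e : (p.2 : G) = g * p.1 * g⁻¹ := hg p hp
      have := hh ⟨p.1, p.1.2, by simpa [← e] using p.2.2⟩
      exact (congrArg ι (Subtype.ext e)).trans this
    · let P' : Subgroup (S : Subgroup G) := ι.range.comap ((MulAut.conj g).toMonoidHom.comp ι)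
      let e := (P'.equivMapOfInjective _ (S : Subgroup G).subtype_injective).symm
      let ψ : P' →* (S : Subgroup G) := (MonoidHom.ofInjective h1).symm.toMonoidHom.comp
        ((((MulAut.conj g).toMonoidHom.comp ι).comp P'.subtype).codRestrict _ fun x => x.2)
      have hψ : ∀ x : P', ι (ψ x) = g * ι x * g⁻¹ := fun x => MonoidHom.apply_ofInjective_symm h1 _
      have he : ∀ x, ((e x : (S : Subgroup G)) : G) = x := fun x =>
        congrArg Subtype.val ((P'.equivMapOfInjective _ (S : Subgroup G).subtype_injective).apply_symm_apply x)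
      obtain ⟨-, -, h, hh⟩ := (h2 (P'.map (S : Subgroup G).subtype) (map_subtype_le _)
        (((S : Subgroup G).subtype.comp ψ).comp e.toMonoidHom) fun x => (ψ _).2).2 ⟨g, fun x => by
          refine (hψ (e x)).trans ?_
          congr 3
          exact Subtype.ext (he x)⟩
      refine ⟨h, fun p hp => ?_⟩
      have m : p.1 ∈ P' := ⟨p.2, hg p hp⟩
      have := hh ⟨p.1, p.1, m, rfl⟩
      have e1 : e ⟨p.1, p.1, m, rfl⟩ = ⟨p.1, m⟩ := Subtype.ext (Subtype.ext (he _))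
      have e2 : ψ ⟨p.1, m⟩ = p.2 := h1 ((hψ _).trans (hg p hp).symm)
      change ((ψ (e _) : (S : Subgroup G)) : G) = _ at this
      rwa [e1, e2] at this
  · intro h
    obtain ⟨ι, a, b⟩ := h.em (em_sylow S)
    refine ⟨ι, ⟨a.inj, fun P hP φ hφ => ?_⟩, a.syl.exists_sylow_top⟩
    have := b {p | ∃ x : P, p = (⟨x, hP x.2⟩, ⟨φ x, hφ x⟩)}
    constructor
    · rintro ⟨-, -, g, hg⟩
      obtain ⟨h, hh⟩ := this.1 ⟨g, by rintro _ ⟨x, rfl⟩; exact hg x⟩
      exact ⟨h, fun x => hh _ ⟨x, rfl⟩⟩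
    · rintro ⟨g, hg⟩
      obtain ⟨h, hh⟩ := this.2 ⟨g, by rintro _ ⟨x, rfl⟩; exact hg x⟩
      exact ⟨hP, hφ, h, fun x => hh _ ⟨x, rfl⟩⟩

/-! ### normal subgroups of 2-power index -/

/-- `h` does on `j` what `g` does on `i`, for the elements of `U` -/
def Sm (i : X →* G) (j : X →* H) (U : Subgroup G) (g : G) (h : H) : Prop :=
  ∀ x y, i x ∈ U → i y = g * i x * g⁻¹ → j y = h * j x * h⁻¹

theorem Eqv.sm (e : Eqv i j) (U : Subgroup G) (g : G) : ∃ h, Sm i j U g h :=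
  let ⟨h, hh⟩ := (e {p | i p.1 ∈ U ∧ i p.2 = g * i p.1 * g⁻¹}).1 ⟨g, fun _ hp => hp.2⟩
  ⟨h, fun x y a b => hh (x, y) ⟨a, b⟩⟩

theorem Sm.mul {U : Subgroup G} {g' : G} {h h' : H} (hU : cj g U ≤ i.range) (a : Sm i j U g h)
    (b : Sm i j (cj g U) g' h') : Sm i j U (g' * g) (h' * h) := fun x y hx e => by
  obtain ⟨w, hw⟩ := hU (conj_mem_cj hx)
  rw [b w y (hw ▸ conj_mem_cj hx) (by rw [e, hw]; group), a x w hx hw]; group

theorem Sm.pow {U : Subgroup G} {h : H} (hi : Function.Injective i) (hU : U ≤ i.range) (hg : g ∈ 𝐍 U)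
    (a : Sm i j U g h) (n : ℕ) : Sm i j U (g ^ n) (h ^ n) := by
  induction n with
  | zero => exact fun x y _ e => by rw [hi (show i y = i x by simpa using e)]; simp
  | succ n ih =>
    have e := cj_eq_self hg
    rw [pow_succ, pow_succ]
    exact a.mul (e.symm ▸ hU) (e.symm ▸ ih)

theorem Eqv.sm_odd [Finite H] (e : Eqv i j) (hi : Function.Injective i) {U : Subgroup G} (hU : U ≤ i.range)
    (hg : g ∈ 𝐍 U) (ho : (orderOf g).Coprime 2) : ∃ h, (orderOf h).Coprime 2 ∧ Sm i j U g h := by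
  obtain ⟨h, hh⟩ := e.sm U g
  obtain ⟨a, ha⟩ := exists_pow_coprime (p := 2) (isOfFinOrder_of_finite h)
  obtain ⟨t, ht⟩ := exists_pow_eq_self_of_coprime (x := g) (n := 2 ^ a) (ho.symm.pow_left a)
  refine ⟨(h ^ 2 ^ a) ^ t, ha.coprime_dvd_left (orderOf_pow_dvd t), ?_⟩
  have := hh.pow hi hU hg (2 ^ a * t)
  rwa [pow_mul, pow_mul, ht] at this

theorem Eqv.lab [Finite G] [Finite H] (e : Eqv i j) (hi : Em i) {N : Subgroup G} {M : Subgroup H} [hN : N.Normal]
    [hM : M.Normal] (oN : ∀ g, (orderOf g).Coprime 2 → g ∈ N) (oM : ∀ h, (orderOf h).Coprime 2 → h ∈ M)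
    {U : Subgroup G} (hU : U ≤ i.range) (hg : cj g U ≤ i.range) :
    ∃ h, Sm i j U g h ∧ ∃ x, g * (i x)⁻¹ ∈ N ∧ h * (j x)⁻¹ ∈ M := by
  let Good (U : Subgroup G) (g : G) : Prop :=
    cj g U ≤ i.range ∧ ∃ h, Sm i j U g h ∧ ∃ x, g * (i x)⁻¹ ∈ N ∧ h * (j x)⁻¹ ∈ M
  have hG : H29.FusPred Good := ⟨fun hB ⟨a, h, b, c⟩ => ⟨(cj_mono _ hB).trans a, h, fun x y m => b x y (hB m), c⟩,
    fun {U g g'} ⟨a, h, b, x, c, d⟩ ⟨a', h', b', x', c', d'⟩ => ⟨cj_cj g' g U ▸ a', h' * h, b.mul a b', x' * x, by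
      convert N.mul_mem c' (hN.conj_mem _ c (i x')) using 1; rw [map_mul]; group, by
      convert M.mul_mem d' (hM.conj_mem _ d (j x')) using 1; rw [map_mul]; group⟩⟩
  refine (H29.alperin_ext hi.syl hG 0 (fun U hE _ _ g hg => ?_) U hU (Nat.zero_le _) g trivial hg).2
  have k : ∀ u ∈ pResidualOf 2 (⊤ ⊓ 𝐍 U), u ∈ 𝐍 U ∧ Good U u := fun u hu => by
    rw [pResidualOf_eq] at hu
    have b : ∀ u ∈ 𝐍 U, (orderOf u).Coprime 2 → Good U u := fun u h1 h2 =>
      let ⟨h, h3, h4⟩ := e.sm_odd hi.inj hE.le h1 h2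
      ⟨(cj_eq_self h1).symm ▸ hE.le, h, h4, 1, by simpa using oN u h2, by simpa using oM h h3⟩
    induction hu using closure_induction'' with
    | mem x hx => exact ⟨hx.1.2, b x hx.1.2 hx.2⟩
    | inv_mem x hx => exact ⟨inv_mem hx.1.2, b _ (inv_mem hx.1.2) (by simpa using hx.2)⟩
    | one => exact ⟨one_mem _, b _ (one_mem _) (by simp)⟩
    | mul x y _ _ hx hy => exact ⟨mul_mem hx.1 hy.1, hG.comp hy.2 ((cj_eq_self hy.1).symm ▸ hx.2)⟩
  rw [← hE.syl.pResidualOf_sup] at hg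
  obtain ⟨u, hu, s, hs, rfl⟩ := (mem_sup_of_le_normalizer' (hE.syl.le.trans (le_normalizer_pResidualOf 2 _))).1 hg
  obtain ⟨⟨x, rfl⟩, hs⟩ := hs
  refine hG.comp ⟨(cj_eq_self hs).symm ▸ hE.le, j x, fun a b _ e => ?_, x, by simp, by simp⟩
    ((cj_eq_self hs).symm ▸ (k u hu).2)
  rw [hi.inj (show i b = i (x * a * x⁻¹) by simpa using e)]; simp

theorem Eqv.nrm [Finite G] [Finite H] (e : Eqv i j) (hi : Em i) {N : Subgroup G} {M : Subgroup H} [hN : N.Normal]
    [hM : M.Normal] (oN : ∀ g, (orderOf g).Coprime 2 → g ∈ N) (oM : ∀ h, (orderOf h).Coprime 2 → h ∈ M)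
    (hc : ∀ x, i x ∈ N → j x ∈ M) (hg : g ∈ N) (h : Rl i A g) : ∃ h ∈ M, Rl j A h := by
  let U := i.range ⊓ cj g⁻¹ i.range
  obtain ⟨h', a, x, b, c⟩ := e.lab hi oN oM (U := U) (g := g) inf_le_left (cj_le_iff.2 inf_le_right)
  refine ⟨h', ?_, fun p hp => a _ _ ⟨⟨_, rfl⟩, mem_cj.2 ⟨p.2, by rw [h p hp, inv_inv]⟩⟩ (h p hp)⟩
  simpa using M.mul_mem c (hc x (by simpa using N.mul_mem (N.inv_mem b) hg))

/-! ### central quotients -/

theorem quot_key {G' : Type*} [Group G'] [Finite G] {π : G →* G'} (hi : Em i) (s : Function.Surjective π)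
    (c : π.ker ≤ center G) (Z : Subgroup X) [Z.Normal] (hZ : Z = (π.comp i).ker) :
    Em (QuotientGroup.lift Z (π.comp i) hZ.le) ∧ ∀ B : Set ((X ⧸ Z) × (X ⧸ Z)),
      (Fu (QuotientGroup.lift Z (π.comp i) hZ.le) B ↔ ∃ A : Set (X × X), Fu i A ∧
        ∀ p ∈ B, ∃ a b : X, (a, b) ∈ A ∧ p = ((a : X ⧸ Z), (b : X ⧸ Z))) := by
  refine ⟨⟨(QuotientGroup.injective_lift_iff _ _ _).2 hZ, ?_⟩, fun B => ⟨fun ⟨g, hg⟩ => ?_, fun ⟨A, ⟨g, hg⟩, h⟩ =>
    ⟨π g, fun p hp => ?_⟩⟩⟩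
  · have := hi.syl.map π
    rw [← MonoidHom.range_eq_map, MonoidHom.range_eq_top.2 s, ← MonoidHom.range_comp] at this
    convert this using 1
    ext y
    exact ⟨by rintro ⟨x, rfl⟩; obtain ⟨x, rfl⟩ := QuotientGroup.mk_surjective x; exact ⟨x, rfl⟩,
      by rintro ⟨x, rfl⟩; exact ⟨x, rfl⟩⟩
  · obtain ⟨g, rfl⟩ := s g
    refine ⟨{p | i p.2 = g * i p.1 * g⁻¹}, ⟨g, fun p hp => hp⟩, fun p hp => ?_⟩
    obtain ⟨a, ha⟩ := QuotientGroup.mk_surjective p.1
    obtain ⟨b, hb⟩ := QuotientGroup.mk_surjective p.2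
    have e := hg p hp
    rw [← ha, ← hb] at e
    have m : (i b)⁻¹ * (g * i a * g⁻¹) ∈ π.ker := by
      simp only [MonoidHom.mem_ker, map_mul, map_inv, inv_mul_eq_one]; exact e
    generalize hz : (i b)⁻¹ * (g * i a * g⁻¹) = z at m
    have cz := mem_center_iff.1 (c m)
    obtain ⟨n, hn⟩ := hi.pg a
    obtain ⟨n', hn'⟩ := hi.pg b
    have zp : IsPGroup 2 (zpowers z) := by
      refine (IsPGroup.iff_orderOf.2 fun ⟨y, hy⟩ => ?_)
      have : z ^ 2 ^ (n + n') = 1 := by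
        have c1 : Commute (i b) z := cz _
        have : (i b * z) ^ 2 ^ (n + n') = 1 := by
          rw [← hz, mul_inv_cancel_left, conj_pow, ← map_pow, pow_add, pow_mul, hn]; simp
        rwa [c1.mul_pow, ← map_pow, add_comm, pow_add, pow_mul, hn', one_pow, map_one, one_mul, ← pow_add,
          add_comm] at this
      obtain ⟨k, -, hk⟩ := (Nat.dvd_prime_pow Nat.prime_two).1
        ((orderOf_dvd_of_mem_zpowers hy).trans (orderOf_dvd_of_pow_eq_one this))
      exact ⟨k, by rw [← hk, orderOf_mk]⟩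
    obtain ⟨w, hw⟩ := hi.syl.le_of_le_normalizer zp le_top
      (le_normalizer_of_le_centralizer (zpowers_le.2 fun y _ => cz y)) (mem_zpowers z)
    refine ⟨a, b * w, by simp [hw, ← hz], Prod.ext ha.symm (hb.symm.trans ?_)⟩
    exact QuotientGroup.eq.2 (hZ ▸ by simpa [hw] using m)
  · obtain ⟨a, b, h1, rfl⟩ := h p hp
    simp [hg _ h1]

theorem fe_quot {G' H' : Type*} [Group G'] [Group H'] [Finite G] [Finite H] {π : G →* G'} {ρ : H →* H'}
    (hi : Em i) (hj : Em j) (e : Eqv i j) (sπ : Function.Surjective π) (sρ : Function.Surjective ρ)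
    (cπ : π.ker ≤ center G) (cρ : ρ.ker ≤ center H) (hk : (π.comp i).ker = (ρ.comp j).ker) : FE G' H' := by
  obtain ⟨a, b⟩ := quot_key hi sπ cπ _ rfl
  obtain ⟨c, d⟩ := quot_key hj sρ cρ _ hk
  exact fe_of a c fun B => by rw [b, d]; exact exists_congr fun A => and_congr_left' (e A)

end H28.FE
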