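import Cfsg.Agent.H0.Lift
import Cfsg.Agent.H22.NormR
import Mathlib.RepresentationTheory.Maschke
import Mathlib.RepresentationTheory.Intertwining

/-! Conjugacy of linear representations of `p'`-groups is detected by the dimensions of the intertwining spaces, which
do not depend on the field. -/

set_option autoImplicit false

namespace H28.FE
open Module Matrix
universe u

theorem equiv_of_card {A : Type*} [Ring A] (n : ℕ) : ∀ (V W : Type u) [AddCommGroup V] [Module A V] [Finite V]
    [IsSemisimpleModule A V] [AddCommGroup W] [Module A W] [Finite W] [IsSemisimpleModule A W], Nat.card V = n →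
    Nat.card (V →ₗ[A] V) * Nat.card (W →ₗ[A] W) = Nat.card (V →ₗ[A] W) * Nat.card (W →ₗ[A] V) →
    Nonempty (V ≃ₗ[A] W) := by
  induction n using Nat.strong_induction_on with
  | _ n ih =>
  intro V W _ _ _ _ _ _ _ _ hn h
  have fin : ∀ (V W : Type u) [AddCommGroup V] [Module A V] [Finite V] [AddCommGroup W] [Module A W] [Finite W],
      Finite (V →ₗ[A] W) := fun V W _ _ _ _ _ _ => DFunLike.finite _
  have simp' : ∀ {V W : Type u} [AddCommGroup V] [Module A V] [IsSemisimpleModule A V] [AddCommGroup W] [Module A W]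
      (f : V →ₗ[A] W), f ≠ 0 → ∃ S : Submodule A V, S ≠ ⊥ ∧ Function.Injective (f ∘ₗ S.subtype) := by
    intro V W _ _ _ _ _ f hf
    obtain ⟨S, hS⟩ := exists_isCompl (LinearMap.ker f)
    refine ⟨S, fun e => hf (LinearMap.ker_eq_top.1 (by simpa [e] using hS.sup_eq_top)), ?_⟩
    rw [← LinearMap.ker_eq_bot, LinearMap.ker_comp, ← Submodule.disjoint_iff_comap_eq_bot]
    exact hS.disjoint.symm
  have main : ∀ (S : Submodule A V) (T : Submodule A W), S ≠ ⊥ → (S ≃ₗ[A] T) → Nonempty (V ≃ₗ[A] W) := by
    intro S T hS e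
    obtain ⟨S', hS'⟩ := exists_isCompl S
    obtain ⟨T', hT'⟩ := exists_isCompl T
    let a := (S.prodEquivOfIsCompl S' hS').symm
    let b := (T.prodEquivOfIsCompl T' hT').symm.trans (e.symm.prodCongr (.refl A T'))
    have k : ∀ {V W V' W' : Type u} [AddCommGroup V] [Module A V] [AddCommGroup W] [Module A W] [AddCommGroup V']
        [Module A V'] [AddCommGroup W'] [Module A W'], (V ≃ₗ[A] S × V') → (W ≃ₗ[A] S × W') →
        Nat.card (V →ₗ[A] W) = Nat.card (S →ₗ[A] S) * Nat.card (S →ₗ[A] W') *
          (Nat.card (V' →ₗ[A] S) * Nat.card (V' →ₗ[A] W')) := fun a b => by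
      rw [Nat.card_congr (a.arrowCongrAddEquiv b).toEquiv, ← Nat.card_congr (LinearMap.coprodEquiv ℕ).toEquiv,
        Nat.card_prod, ← Nat.card_congr (LinearMap.prodEquiv ℕ).toEquiv,
        ← Nat.card_congr (LinearMap.prodEquiv ℕ).toEquiv, Nat.card_prod, Nat.card_prod]
    rw [k a a, k b b, k a b, k b a] at h
    have := fin S S; have := fin S S'; have := fin S T'; have := fin S' S; have := fin T' S
    have c : Nat.card V = Nat.card S * Nat.card S' := by rw [Nat.card_congr a.toEquiv, Nat.card_prod]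
    have : Nontrivial S := Submodule.nontrivial_iff_ne_bot.2 hS
    have := Finite.one_lt_card (α := S)
    have := Nat.card_pos (α := S')
    obtain ⟨c⟩ := ih _ (by nlinarith) S' T' rfl (Nat.eq_of_mul_eq_mul_left (show 0 < Nat.card (S →ₗ[A] S) ^ 2 *
      (Nat.card (S →ₗ[A] S') * Nat.card (S →ₗ[A] T') * Nat.card (S' →ₗ[A] S) * Nat.card (T' →ₗ[A] S)) by
        simp [Nat.card_pos]) (by linear_combination h))
    exact ⟨(a.trans ((LinearEquiv.refl A S).prodCongr c)).trans b.symm⟩
  by_cases h1 : ∃ f : V →ₗ[A] W, f ≠ 0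
  · obtain ⟨f, hf⟩ := h1
    obtain ⟨S, a, b⟩ := simp' f hf
    exact main S _ a (LinearEquiv.ofInjective _ b)
  by_cases h2 : ∃ f : W →ₗ[A] V, f ≠ 0
  · obtain ⟨f, hf⟩ := h2
    obtain ⟨S, a, b⟩ := simp' f hf
    refine main _ S (fun e => a ?_) (LinearEquiv.ofInjective _ b).symm
    rw [LinearMap.range_eq_bot] at e
    exact eq_bot_iff.2 fun x hx => congrArg Subtype.val (b (a₁ := ⟨x, hx⟩) (a₂ := 0) (by simp [e]))
  push Not at h1 h2
  rw [Nat.card_eq_one_iff_exists.2 ⟨0, h1⟩, Nat.card_eq_one_iff_exists.2 ⟨0, h2⟩] at h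
  have a := (Nat.card_eq_one_iff_unique.1 (Nat.eq_one_of_mul_eq_one_right h)).1
  have b := (Nat.card_eq_one_iff_unique.1 (Nat.eq_one_of_mul_eq_one_left h)).1
  have : Subsingleton V := ⟨fun x y => by
    have := DFunLike.congr_fun (a.elim LinearMap.id 0); exact (this x).trans (this y).symm⟩
  have : Subsingleton W := ⟨fun x y => by
    have := DFunLike.congr_fun (b.elim LinearMap.id 0); exact (this x).trans (this y).symm⟩
  exact ⟨.ofSubsingleton V W⟩

variable {ι P R F K : Type*} [Fintype ι] [DecidableEq ι] [Group P] [CommRing R] [Field F] [Field K]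

/-- the intertwining matrices -/
def It (a b : P →* GL ι K) : Submodule K (Matrix ι ι K) where
  carrier := {M | ∀ x, (b x).1 * M = M * (a x).1}
  add_mem' h h' x := by rw [mul_add, add_mul, h, h']
  zero_mem' x := by simp
  smul_mem' c M h x := by rw [Matrix.mul_smul, Matrix.smul_mul, h]

noncomputable def hd (a b : P →* GL ι K) : ℕ := finrank K (It a b)

/-- simultaneous conjugacy -/
def Cj {G : Type*} [Group G] (a b : P →* G) : Prop := ∃ g, ∀ x, b x = g * a x * g⁻¹

theorem Cj.refl {G : Type*} [Group G] (a : P →* G) : Cj a a := ⟨1, fun _ => by simp⟩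

theorem Cj.symm {G : Type*} [Group G] {a b : P →* G} (h : Cj a b) : Cj b a :=
  let ⟨g, h⟩ := h; ⟨g⁻¹, fun x => by rw [h]; group⟩

theorem Cj.trans {G : Type*} [Group G] {a b c : P →* G} (h : Cj a b) (h' : Cj b c) : Cj a c :=
  let ⟨g, h⟩ := h; let ⟨g', h'⟩ := h'; ⟨g' * g, fun x => by rw [h', h]; group⟩

theorem hd_le {a b a' b' : P →* GL ι K} (h : Cj a a') (h' : Cj b b') : hd a b ≤ hd a' b' := by
  obtain ⟨g, h⟩ := h
  obtain ⟨k, h'⟩ := h'
  refine LinearMap.finrank_le_finrank_of_injective (f := (LinearMap.mulLeftRight K (k.1, g⁻¹.1)).restrict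
    (p := It a b) (q := It a' b') fun M hM x => ?_) fun M N e => ?_
  · simp only [h, h', LinearMap.mulLeftRight_apply, Units.val_mul, mul_assoc, Units.inv_mul_cancel_left]
    rw [← mul_assoc (b x).1, hM, mul_assoc]
  · have : k.1 * M.1 * g⁻¹.1 = k.1 * N.1 * g⁻¹.1 := congrArg Subtype.val e
    exact Subtype.ext (k.isUnit.mul_left_cancel (g⁻¹.isUnit.mul_right_cancel this))

theorem hd_congr {a b a' b' : P →* GL ι K} (h : Cj a a') (h' : Cj b b') : hd a b = hd a' b' :=
  le_antisymm (hd_le h h') (hd_le h.symm h'.symm)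

theorem Cj.hd {a b : P →* GL ι K} (h : Cj a b) : hd a a + hd b b = hd a b + hd b a := by
  rw [← hd_congr h h, ← hd_congr (.refl a) h, ← hd_congr h (.refl a)]

variable [Finite P]

/-- the averaging operator -/
noncomputable def av (c : R) (a b : P →* GL ι R) : Matrix (ι × ι) (ι × ι) R :=
  have := Fintype.ofFinite P
  c • ∑ x, kroneckerMap (· * ·) (b x).1 (a x⁻¹).1ᵀ

theorem av_mulVec (c : R) (a b : P →* GL ι R) (M : Matrix ι ι R) :
    have := Fintype.ofFinite P
    av c a b *ᵥ (fun p => M p.1 p.2) = fun p => (c • ∑ x, (b x).1 * M * (a x⁻¹).1) p.1 p.2 := by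
  ext ⟨i, j⟩
  simp only [av, smul_mulVec, sum_mulVec, Pi.smul_apply, Finset.sum_apply, Matrix.smul_apply, Matrix.sum_apply]
  congr 1
  refine Finset.sum_congr rfl fun x _ => ?_
  simp only [mulVec, dotProduct, Fintype.sum_prod_type, kroneckerMap_apply, transpose_apply, mul_apply,
    Finset.sum_mul]
  rw [Finset.sum_comm]
  congr; ext; congr; ext; ring

theorem av_map {S : Type*} [CommRing S] (π : R →+* S) (c : R) (a b : P →* GL ι R) : (av c a b).map π =
    av (π c) ((GeneralLinearGroup.map π).comp a) ((GeneralLinearGroup.map π).comp b) := by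
  ext p q
  simp [av, Matrix.sum_apply, -map_inv, -coe_units_inv]

theorem av_mem (c : R) (a b : P →* GL ι R) (M : Matrix ι ι R) (y : P) :
    have := Fintype.ofFinite P
    (b y).1 * (c • ∑ x, (b x).1 * M * (a x⁻¹).1) = (c • ∑ x, (b x).1 * M * (a x⁻¹).1) * (a y).1 := by
  intro _
  rw [Matrix.mul_smul, Matrix.smul_mul, Finset.mul_sum, Finset.sum_mul, ← Equiv.sum_comp (Equiv.mulLeft y)
    fun x => (b x).1 * M * (a x⁻¹).1 * (a y).1]
  simp [mul_assoc, -coe_units_inv]

theorem av_fix {c : R} (hc : c * Nat.card P = 1) (a b : P →* GL ι R) (M : Matrix ι ι R)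
    (h : ∀ x, (b x).1 * M = M * (a x).1) :
    have := Fintype.ofFinite P
    c • ∑ x, (b x).1 * M * (a x⁻¹).1 = M := by
  intro _
  simp only [h, map_inv, Units.mul_inv_cancel_right, Finset.sum_const, Finset.card_univ, ← Nat.card_eq_fintype_card]
  rw [← Nat.cast_smul_eq_nsmul R, smul_smul, hc, one_smul]

theorem av_idem {c : R} (hc : c * Nat.card P = 1) (a b : P →* GL ι R) : av c a b * av c a b = av c a b := by
  refine ext_iff_mulVec.2 fun v => ?_
  have e : v = fun p => (Matrix.of fun i j => v (i, j)) p.1 p.2 := rfl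
  rw [← mulVec_mulVec, e, av_mulVec, av_mulVec, av_fix hc a b _ (av_mem c a b _)]

theorem hd_eq {c : K} (hc : c * Nat.card P = 1) (a b : P →* GL ι K) :
    hd a b = finrank K (LinearMap.range (av c a b).toLin') := by
  let e : Matrix ι ι K ≃ₗ[K] (ι × ι → K) := (Matrix.ofLinearEquiv K).symm.trans (LinearEquiv.curry K K ι ι).symm
  rw [hd, ← e.finrank_map_eq]
  refine congrArg (fun S : Submodule K _ => finrank K S) (Submodule.ext fun v => ?_)
  constructor
  · rintro ⟨M, hM, rfl⟩
    exact ⟨e M, (av_mulVec c a b M).trans (by rw [av_fix hc a b M hM]; rfl)⟩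
  · rintro ⟨v, rfl⟩
    exact ⟨_, av_mem c a b (e.symm v), (av_mulVec c a b (e.symm v)).symm⟩

open Polynomial in
omit [Finite P] in
theorem rank_map (ι' : R →+* K) (hι : Function.Injective ι') (π : R →+* F) (e : Matrix ι ι R) (he : e * e = e) :
    finrank K (LinearMap.range (e.map ι').toLin') = finrank F (LinearMap.range (e.map π).toLin') := by
  obtain ⟨s, h1, -⟩ := H0.charpoly_idem (e.map ι') (by rw [← Matrix.map_mul, he])
  obtain ⟨s', h3, -⟩ := H0.charpoly_idem (e.map π) (by rw [← Matrix.map_mul, he])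
  generalize finrank K (LinearMap.range (e.map ι').toLin') = r at h1 ⊢
  generalize finrank F (LinearMap.range (e.map π).toLin') = r' at h3 ⊢
  have h4 : e.charpoly = (X - 1) ^ r * X ^ s := by
    apply Polynomial.map_injective ι' hι
    rw [← Matrix.charpoly_map, h1]; simp
  rw [Matrix.charpoly_map, h4] at h3
  simp only [Polynomial.map_mul, Polynomial.map_pow, Polynomial.map_sub, map_X, Polynomial.map_one] at h3
  have key : ∀ a b : ℕ, rootMultiplicity (1 : F) ((X - 1) ^ a * X ^ b) = a := by
    intro a b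
    have h0 : (X - 1 : F[X]) ≠ 0 := X_sub_C_ne_zero 1
    rw [rootMultiplicity_mul (mul_ne_zero (pow_ne_zero _ h0) (pow_ne_zero _ X_ne_zero)),
      ← C_1, rootMultiplicity_X_sub_C_pow, rootMultiplicity_eq_zero (by simp), add_zero]
  have := key r s
  rwa [h3, key, eq_comm] at this

theorem hd_map [IsDomain R] {c : R} (hc : c * Nat.card P = 1) (π : R →+* F) (π' : R →+* K) (a b : P →* GL ι R) :
    hd ((GeneralLinearGroup.map π).comp a) ((GeneralLinearGroup.map π).comp b) =
      hd ((GeneralLinearGroup.map π').comp a) ((GeneralLinearGroup.map π').comp b) := by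
  rw [hd_eq (c := π c) (by simpa using congrArg π hc), hd_eq (c := π' c) (by simpa using congrArg π' hc),
    ← av_map, ← av_map, ← rank_map _ (IsFractionRing.injective R (FractionRing R)) π _ (av_idem hc a b),
    rank_map _ (IsFractionRing.injective R (FractionRing R)) π' _ (av_idem hc a b)]

theorem cj_of_hd [Finite F] (hc : (Nat.card P : F) ≠ 0) {a b : P →* GL ι F}
    (h : hd a a + hd b b = hd a b + hd b a) : Cj a b := by
  have : NeZero (Nat.card P : F) := ⟨hc⟩
  let r (a : P →* GL ι F) : Representation F P (ι → F) :=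
    ((Matrix.toLinAlgEquiv' (R := F) (n := ι)).toMonoidHom.comp (Units.coeHom _)).comp a
  have hr : ∀ a x, r a x = toLin' (a x).1 := fun _ _ => rfl
  have k : ∀ a b, Nat.card ((r a).asModule →ₗ[MonoidAlgebra F P] (r b).asModule) = Nat.card F ^ hd a b := fun a b => by
    rw [← Nat.card_congr (Representation.IntertwiningMap.equivLinearMapAsModule _ _).toEquiv, hd,
      ← Module.natCard_eq_pow_finrank]
    exact Nat.card_congr ⟨fun f => ⟨toLin'.symm f.toLinearMap, fun x => toLin'.injective (by
      rw [toLin'_mul, toLin'_mul, LinearEquiv.apply_symm_apply]; exact (f.isIntertwining' x).symm)⟩,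
      fun M => ⟨toLin' M.1, fun x => by rw [hr, hr, ← toLin'_mul, ← toLin'_mul, M.2]⟩,
      fun f => by ext1; simp, fun M => by simp⟩
  have : ∀ a, Finite (r a).asModule := fun a => inferInstanceAs (Finite (ι → F))
  obtain ⟨e⟩ := equiv_of_card (A := MonoidAlgebra F P) _ (r a).asModule (r b).asModule rfl (by
    rw [k, k, k, k, ← pow_add, ← pow_add, h])
  let f := (Representation.IntertwiningMap.equivLinearMapAsModule _ _).symm e.toLinearMap
  have hf : Function.Bijective f.toLinearMap := e.bijective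
  let g := GeneralLinearGroup.toLin.symm
    ((LinearMap.GeneralLinearGroup.generalLinearEquiv F _).symm (LinearEquiv.ofBijective _ hf))
  have hg : toLin' g.1 = f.toLinearMap := by
    have := congrArg Units.val (GeneralLinearGroup.toLin.apply_symm_apply
      ((LinearMap.GeneralLinearGroup.generalLinearEquiv F _).symm (LinearEquiv.ofBijective _ hf)))
    exact this
  refine ⟨g, fun x => eq_mul_inv_of_mul_eq (Units.ext (toLin'.injective ?_))⟩
  rw [Units.val_mul, Units.val_mul, toLin'_mul, toLin'_mul, hg]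
  exact (f.isIntertwining' x).symm

/-- change of the field -/
theorem Cj.field [IsDomain R] [Finite F] {c : R} (hc : c * Nat.card P = 1) (π : R →+* F) (π' : R →+* K)
    {a b : P →* GL ι R} (h : Cj ((GeneralLinearGroup.map π').comp a) ((GeneralLinearGroup.map π').comp b)) :
    Cj ((GeneralLinearGroup.map π).comp a) ((GeneralLinearGroup.map π).comp b) :=
  cj_of_hd (fun e => by simpa [e] using congrArg π hc) (by simp only [hd_map hc π π']; exact h.hd)

end H28.FE
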