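import Cfsg.Agent.H28.FE1
import Cfsg.Agent.H28.FE2

/-! Monomial models of the Sylow 2-subgroups of linear and unitary groups. -/

set_option autoImplicit false

namespace H28.FE
open Matrix Subgroup H28 SemidirectProduct

section Pk
variable {X G G₀ H H₀ : Type*} [Group X] [Group G] [Group G₀] [Group H] [Group H₀]

/-- `G₀ = SL`, `N` = elements whose determinant has odd order -/
structure Pk (i : X →* G) (N : Subgroup G) (f : G₀ →* G) (X₀ Z₀ : Subgroup X) : Prop where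
  em : Em i
  nrm : N.Normal
  odd : ∀ g, (orderOf g).Coprime 2 → g ∈ N
  inj : Function.Injective f
  fN : f.range ≤ N
  fn : f.range.Normal
  cN : ∀ g ∈ N, ∃ c ∈ 𝐂 i.range, g * c ∈ f.range
  x0 : ∀ x, i x ∈ N → x ∈ X₀
  x1 : ∀ x ∈ X₀, i x ∈ f.range
  z0 : ∀ g x, f g = i x → (g ∈ center G₀ ↔ x ∈ Z₀)

variable {i : X →* G} {N : Subgroup G} {f : G₀ →* G} {X₀ Z₀ : Subgroup X} {j : X →* H} {M : Subgroup H}
  {f' : H₀ →* H}

theorem Pk.ex [Finite G] (h : Pk i N f X₀ Z₀) : ∃ i₀ : X₀ →* G₀, Em i₀ ∧ ∀ x, f (i₀ x) = i x := by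
  let i₀ := (MonoidHom.ofInjective h.inj).symm.toMonoidHom.comp
    ((i.comp X₀.subtype).codRestrict _ fun x => h.x1 x x.2)
  have e : ∀ x, f (i₀ x) = i x := fun x => MonoidHom.apply_ofInjective_symm h.inj _
  have := Finite.of_injective _ h.inj
  have := h.fn
  have s := h.em.syl.inf_normal' (K := f.range) le_top (normal_iff_top_le.1 h.fn)
  refine ⟨i₀, em_of_card (fun a b k => Subtype.ext (h.em.inj (by rw [← e, ← e, k]))) ?_, e⟩
  rw [Nat.card_congr (MonoidHom.ofInjective h.inj).toEquiv, ← s.card_eq_pow_factorization,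
    ← card_map_of_injective h.em.inj]
  congr 2
  ext y
  exact ⟨fun ⟨x, a, b⟩ => ⟨⟨x, b⟩, b ▸ h.x1 x a⟩, fun ⟨⟨x, b⟩, c⟩ => ⟨x, h.x0 x (b ▸ h.fN c), b⟩⟩

theorem Pk.fu [Finite G] [Finite H] (h : Pk i N f X₀ Z₀) (h' : Pk j M f' X₀ Z₀) (e : Eqv i j) {i₀ : X₀ →* G₀}
    {j₀ : X₀ →* H₀} (a : ∀ x, f (i₀ x) = i x) (b : ∀ x, f' (j₀ x) = j x) {A : Set (X₀ × X₀)} (c : Fu i₀ A) :
    Fu j₀ A := by
  obtain ⟨g, c⟩ := c
  have := h.nrm
  have := h'.nrm
  obtain ⟨k, hk, d⟩ := e.nrm (A := Prod.map X₀.subtype X₀.subtype '' A) h.em h.odd h'.odd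
    (fun x hx => h'.fN (h'.x1 x (h.x0 x hx))) (h.fN ⟨g, rfl⟩) (by
      rintro _ ⟨p, hp, rfl⟩
      simpa [a] using congrArg f (c p hp))
  obtain ⟨z, hz, w, hw⟩ := h'.cN k hk
  refine ⟨w, fun p hp => h'.inj ?_⟩
  have := d _ ⟨p, hp, rfl⟩
  simp only [Prod.map, coe_subtype] at this
  rw [map_mul, map_mul, map_inv, hw, b, b, this, mul_assoc k z, ← hz _ ⟨_, rfl⟩]; group

theorem Pk.fe [Finite G] [Finite H] (h : Pk i N f X₀ Z₀) (h' : Pk j M f' X₀ Z₀) (e : Eqv i j) :
    FE (G₀ ⧸ center G₀) (H₀ ⧸ center H₀) := by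
  obtain ⟨i₀, a, b⟩ := h.ex
  obtain ⟨j₀, c, d⟩ := h'.ex
  have := Finite.of_injective _ h.inj
  have := Finite.of_injective _ h'.inj
  refine fe_quot a c (fun A => ⟨h.fu h' e b d, h'.fu h e.symm d b⟩) (QuotientGroup.mk'_surjective _)
    (QuotientGroup.mk'_surjective _) (QuotientGroup.ker_mk' _).le (QuotientGroup.ker_mk' _).le ?_
  ext x
  simp only [MonoidHom.mem_ker, MonoidHom.comp_apply, QuotientGroup.mk'_apply, QuotientGroup.eq_one_iff]
  rw [h.z0 _ _ (b x), h'.z0 _ _ (d x)]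

end Pk

abbrev Wr (ι A : Type*) [CommGroup A] := (ι → A) ⋊[mulAutArrow] Equiv.Perm ι

variable {ι A R S : Type*} [Fintype ι] [DecidableEq ι] [CommGroup A] [CommRing R] [CommRing S]

omit [Fintype ι] [DecidableEq ι] in
theorem mul_l (w v : Wr ι A) (i : ι) : (w * v).left i = w.left i * v.left (w.right⁻¹ i) := rfl

omit [Fintype ι] [DecidableEq ι] in
theorem inv_l (w : Wr ι A) (i : ι) : w⁻¹.left i = (w.left (w.right i))⁻¹ := rfl

def monM (ψ : A →* Rˣ) : Wr ι A →* Matrix ι ι R where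
  toFun w := of fun i j => if i = w.right j then (ψ (w.left i) : R) else 0
  map_one' := by ext i j; simp [one_apply]
  map_mul' w v := by
    ext i k
    simp only [of_apply, mul_apply, mul_ite, mul_zero, Finset.sum_ite_eq', Finset.mem_univ, if_true, mul_right,
      Equiv.Perm.mul_apply, mul_l]
    split_ifs with h
    · simp [h]
    · simp [h]

/-- monomial matrices -/
def mon (ψ : A →* Rˣ) : Wr ι A →* GL ι R := (monM ψ).toHomUnits

variable {ψ : A →* Rˣ} {w : Wr ι A}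

theorem mon_apply (i j : ι) : (mon ψ w).1 i j = if i = w.right j then (ψ (w.left i) : R) else 0 := rfl

theorem mon_map (π : R →+* S) : GeneralLinearGroup.map π (mon ψ w) = mon ((Units.map π).comp ψ) w := by
  ext i j
  simp [mon_apply, apply_ite π]

theorem mon_id : mon ψ w = mon (.id _) (⟨ψ ∘ w.left, w.right⟩ : Wr ι Rˣ) := Units.ext rfl

theorem mon_congr {B : Type*} [CommGroup B] {χ : B →* Rˣ} {v : Wr ι B} (h : w.right = v.right)
    (h' : ∀ i, ψ (w.left i) = χ (v.left i)) : mon ψ w = mon χ v := by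
  ext i j
  simp [mon_apply, h, h']

theorem mon_tr : (mon ψ w).1ᵀ = (mon ψ⁻¹ w⁻¹).1 := by
  ext i j
  simp only [mon_apply, transpose_apply, inv_right, inv_l, Equiv.Perm.eq_inv_iff_eq, eq_comm (a := j)]
  split_ifs with h
  · simp [h]
  · rfl

theorem mon_scalar [Nontrivial R] (hψ : Function.Injective ψ) :
    (∃ c, (mon ψ w).1 = scalar ι c) ↔ w.right = 1 ∧ ∀ i j, w.left i = w.left j := by
  constructor
  · rintro ⟨c, h⟩
    have k : ∀ j, w.right j = j := fun j => by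
      by_contra e
      have := congrFun₂ h (w.right j) j
      simp [mon_apply, diagonal_apply_ne _ e] at this
    refine ⟨Equiv.ext k, fun i j => hψ (Units.ext ?_)⟩
    have a := congrFun₂ h i i
    have b := congrFun₂ h j j
    simp only [mon_apply, k, if_true, scalar_apply, diagonal_apply_eq] at a b
    rw [a, b]
  · rintro ⟨h, h'⟩
    rcases isEmpty_or_nonempty ι with _ | ⟨⟨k⟩⟩
    · exact ⟨0, Subsingleton.elim _ _⟩
    refine ⟨ψ (w.left k), ext fun i j => ?_⟩
    simp [mon_apply, h, diagonal_apply, h' i k]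

theorem mon_inj [Nontrivial R] (hψ : Function.Injective ψ) : Function.Injective (mon ψ : Wr ι A → _) :=
  (injective_iff_map_eq_one _).2 fun w h => by
    have k := ((mon_scalar (w := w) hψ).1 ⟨1, by simp [h]⟩).1
    refine SemidirectProduct.ext (funext fun i => hψ (Units.ext ?_)) k
    simpa [mon_apply, k] using congrArg (fun g : GL ι R => g.1 i i) h

theorem mon_det : GeneralLinearGroup.det (mon ψ w) =
    Units.map (Int.castRingHom R) (Equiv.Perm.sign w.right) * ψ (∏ i, w.left i) := by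
  have : (mon ψ w).1 = (diagonal fun i => (ψ (w.left i) : R)).submatrix id w.right := by
    ext i j; simp [mon_apply, diagonal_apply]
  ext
  simp [this, det_permute']

/-- the model of a Sylow 2-subgroup -/
def Xs (A : Type*) [CommGroup A] (β₀ β : Equiv.Perm ι) (Q : ℤ) : Subgroup (Wr ι A) where
  carrier := {w | Commute β₀ w.right ∧ Commute β w.right ∧ ∀ i, w.left (β i) = w.left i ^ Q}
  one_mem' := ⟨.one_right _, .one_right _, fun _ => by simp⟩
  mul_mem' {w v} a b := ⟨a.1.mul_right b.1, a.2.1.mul_right b.2.1, fun i => by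
    rw [mul_l, mul_l, mul_zpow, a.2.2, ← b.2.2, ← Equiv.Perm.mul_apply, ← a.2.1.inv_right.eq]; rfl⟩
  inv_mem' {w} a := ⟨a.1.inv_right, a.2.1.inv_right, fun i => by
    rw [inv_l, inv_l, _root_.inv_zpow, ← a.2.2, ← Equiv.Perm.mul_apply, ← a.2.1.eq]; rfl⟩

variable {K G G₀ : Type*} [Field K] [Group G] [Group G₀]

def HE {P : Type*} [Group P] (a b : P →* GL ι K) : Prop := hd a a + hd b b = hd a b + hd b a

/-- `G = GL` or `GU` as the fixed points of a Frobenius map, `G₀ = SL` or `SU` -/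
structure Gd (Q : ℤ) (ρ : G →* GL ι K) (Fr : GL ι K →* GL ι K) (f : G₀ →* G) : Prop where
  inj : Function.Injective ρ
  rng : ∀ g, Fr g = g → g ∈ ρ.range
  mn : ∀ w : Wr ι Kˣ, Fr (mon (.id _) w) = mon (zpowGroupHom Q) w
  dt : ∀ g, GeneralLinearGroup.det (ρ g) ^ Q = GeneralLinearGroup.det (ρ g)
  lang : ∀ β, β * β = 1 → ∃ y, Fr y = y * mon (.id _) (inr β)
  desc : ∀ (P : Type) [Group P] [Finite P], IsPGroup 2 P → ∀ a b : P →* G, HE (ρ.comp a) (ρ.comp b) → Cj a b
  finj : Function.Injective f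
  frng : ∀ g, g ∈ f.range ↔ GeneralLinearGroup.det (ρ g) = 1
  cen : ∀ g ∈ center G₀, ∃ c, (ρ (f g)).1 = scalar ι c

/-- the elements of odd order -/
def Od (B : Type*) [CommGroup B] : Subgroup B where
  carrier := {x | (orderOf x).Coprime 2}
  one_mem' := by simp
  mul_mem' {a b} h h' := (Nat.Coprime.mul_left h h').coprime_dvd_left (Commute.all a b).orderOf_mul_dvd_mul_orderOf
  inv_mem' h := by simpa using h

/-- the scalar elements -/
def Zs (ι A : Type*) [CommGroup A] : Subgroup (Wr ι A) where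
  carrier := {w | w.right = 1 ∧ ∀ i j, w.left i = w.left j}
  one_mem' := ⟨rfl, fun _ _ => rfl⟩
  mul_mem' {w v} a b := ⟨by simp [a.1, b.1], fun i j => by rw [mul_l, mul_l, a.2 i j, b.2 _ (w.right⁻¹ j)]⟩
  inv_mem' {w} a := ⟨by simp [a.1], fun i j => by rw [inv_l, inv_l, a.2 _ (w.right j)]⟩

/-- a set of `2 ^ a` points that is invariant under the centralizer of `β₀` -/
def Blk (β₀ : Equiv.Perm ι) : Prop :=
  ∃ (s : Finset ι) (a : ℕ), s.card = 2 ^ a ∧ ∀ σ, Commute β₀ σ → ∀ i, σ i ∈ s ↔ i ∈ s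

variable {Q : ℤ} {ρ : G →* GL ι K} {Fr : GL ι K →* GL ι K} {f : G₀ →* G} {β₀ β : Equiv.Perm ι}

theorem Gd.fix (h : Gd Q ρ Fr f) {y : GL ι K} (hy : Fr y = y * mon (.id _) (inr β)) {w : Wr ι Kˣ}
    (hw : w ∈ Xs Kˣ 1 β Q) : y * mon (.id _) w * y⁻¹ ∈ ρ.range := by
  refine h.rng _ ?_
  have : mon (zpowGroupHom Q) w = mon (.id _) ((inr β)⁻¹ * w * inr β) :=
    mon_congr (by simp [mul_assoc, ← hw.2.1.eq]) fun i => by simp [mul_l, inv_l, hw.2.2]
  rw [map_mul, map_mul, map_inv, hy, h.mn, this, map_mul, map_mul, map_inv]; group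

theorem Gd.pk [Finite G] (h : Gd Q ρ Fr f) {ψ : A →* Kˣ} (hψ : Function.Injective ψ)
    (hβ : β * β = 1) (hc : Commute β₀ β) (hb : Blk β₀) (hX : IsPGroup 2 (Xs A β₀ β Q))
    (hn : 2 ^ (Nat.card G).factorization 2 ≤ Nat.card (Xs A β₀ β Q)) :
    ∃ (i : Xs A β₀ β Q →* G) (N : Subgroup G), Cj ((mon ψ).comp (Subgroup.subtype _)) (ρ.comp i) ∧
      Pk i N f ((GeneralLinearGroup.det.comp (mon ψ)).ker.subgroupOf _) ((Zs ι A).subgroupOf _) := by
  obtain ⟨y, hy⟩ := h.lang β hβ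
  let i := (MonoidHom.ofInjective h.inj).symm.toMonoidHom.comp ((((MulAut.conj y).toMonoidHom.comp (mon ψ)).comp
    (Xs A β₀ β Q).subtype).codRestrict _ fun x => show y * mon ψ x.1 * y⁻¹ ∈ _ from mon_id (ψ := ψ) (w := x.1) ▸ h.fix hy
      ⟨.one_left _, x.2.2.1, fun i => by simp [x.2.2.2]⟩)
  have e : ∀ x, ρ (i x) = y * mon ψ x * y⁻¹ := fun x => MonoidHom.apply_ofInjective_symm h.inj _
  have d : ∀ x, GeneralLinearGroup.det (ρ (i x)) = GeneralLinearGroup.det (mon ψ x.1) := fun x => by simp [e]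
  have fr : f.range = (GeneralLinearGroup.det.comp ρ).ker := Subgroup.ext h.frng
  refine ⟨i, (Od Kˣ).comap (GeneralLinearGroup.det.comp ρ), ⟨y, e⟩,
    em_of_le (fun a b k => Subtype.ext (mon_inj hψ (by simpa [e] using congrArg ρ k))) hX hn, inferInstance,
    fun g hg => Nat.Coprime.coprime_dvd_left (orderOf_map_dvd _ g) hg, h.finj, fun g hg => ?_, fr ▸ inferInstance,
    fun g hg => ?_, fun x hx => ?_, fun x hx => (h.frng _).2 ((d x).trans hx), fun g x k => ?_⟩
  · rw [mem_comap, MonoidHom.comp_apply, (h.frng g).1 hg]; exact one_mem _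
  · obtain ⟨s, a, h1, h2⟩ := hb
    obtain ⟨t, ht⟩ := exists_pow_eq_self_of_coprime (x := (GeneralLinearGroup.det (ρ g))⁻¹) (n := 2 ^ a)
      (Nat.Coprime.pow_left a (by rw [orderOf_inv]; exact Nat.Coprime.symm hg))
    let c : Wr ι Kˣ := inl fun i => if i ∈ s then (GeneralLinearGroup.det (ρ g))⁻¹ ^ t else 1
    obtain ⟨z, hz⟩ := h.fix (w := c) hy ⟨.one_left _, .one_right _, fun i => by
      simp only [c, left_inl, h2 β hc]
      split_ifs
      · rw [← zpow_natCast, ← _root_.zpow_mul, mul_comm, _root_.zpow_mul, _root_.inv_zpow _ Q, h.dt]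
      · simp⟩
    refine ⟨z, ?_, (h.frng _).2 ?_⟩
    · rintro _ ⟨x, rfl⟩
      refine h.inj ?_
      have : mon ψ x.1 * mon (.id _) c = mon (.id _) c * mon ψ x.1 := by
        rw [mon_id, ← map_mul, ← map_mul]
        exact mon_congr (by simp [c]) fun i => by
          simp [c, mul_l, h2 _ x.2.1.inv_right, mul_comm, -Equiv.Perm.coe_inv]
      rw [map_mul, map_mul, hz, e, conj_mul, conj_mul, this]
    · rw [map_mul, map_mul, hz, map_mul, map_mul, map_inv, mul_inv_cancel_comm, mon_det]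
      simp only [c, right_inl, left_inl, map_one, one_mul, MonoidHom.id_apply, Finset.prod_ite_mem, Finset.univ_inter,
        Finset.prod_const, h1]
      rw [← pow_mul, mul_comm t, pow_mul, ht, mul_inv_cancel]
  · obtain ⟨n, hn⟩ := hX x
    have : GeneralLinearGroup.det (mon ψ x.1) ^ 2 ^ n = 1 := by rw [← d, ← map_pow, ← map_pow, ← map_pow, hn]; simp
    have k : (orderOf (GeneralLinearGroup.det (mon ψ x.1))).Coprime 2 := d x ▸ hx
    exact orderOf_eq_one_iff.1 ((k.pow_right n).eq_one_of_dvd (orderOf_dvd_of_pow_eq_one this))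
  · rw [mem_subgroupOf, show x.1 ∈ Zs ι A ↔ _ from (mon_scalar hψ).symm]
    have sc : ∀ {a b : GL ι K} {c}, a.1 = scalar ι c → b * a = a * b := fun {a b c} h =>
      Units.ext (by rw [Units.val_mul, Units.val_mul, h, (scalar_commute c (fun _ => Commute.all _ _) _).eq])
    constructor
    · intro hg
      obtain ⟨c, hc⟩ := h.cen g hg
      refine ⟨c, ?_⟩
      rw [← hc, ← mul_inv_cancel_right (ρ (f g)) y⁻¹, ← sc hc, k, e]
      exact congrArg Units.val (by group)
    · rintro ⟨c, hc⟩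
      refine mem_center_iff.2 fun u => h.finj (h.inj ?_)
      rw [map_mul, map_mul, map_mul, map_mul, k, e, sc hc, mul_inv_cancel_right, sc hc]

end H28.FE
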