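import Cfsg.Agent.H28.FE3
import Cfsg.Agent.S2665
import Cfsg.Agent.H11.SUBasic
import Cfsg.Agent.H27.Spec15

/-! The linear and unitary groups as fixed points of Frobenius maps. -/

set_option autoImplicit false

namespace H28.FE
open Matrix Subgroup H28 SemidirectProduct Polynomial

theorem ex_base (N : ℕ) : ∃ (R : Type) (_ : CommRing R) (_ : IsDomain R) (u : Rˣ), IsUnit (2 : R) ∧
    u ^ 2 ^ N = 1 ∧ ∀ (K : Type) [Field K] [IsAlgClosed K], (2 : K) ≠ 0 →
      ∃ π : R →+* K, orderOf (Units.map (π : R →* K) u) = 2 ^ N := by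
  let R₀ := AdjoinRoot (cyclotomic (2 ^ N) ℤ)
  have : IsDomain R₀ := AdjoinRoot.isDomain_of_prime (cyclotomic.irreducible (Nat.two_pow_pos N)).prime
  have k : ∀ (K : Type) [Field K] [IsAlgClosed K], (2 : K) ≠ 0 →
      ∃ π : R₀ →+* K, IsPrimitiveRoot (π (AdjoinRoot.root _)) (2 ^ N) := fun K _ _ h => by
    have : NeZero ((2 ^ N : ℕ) : K) := ⟨by simpa using fun e => absurd e h⟩
    obtain ⟨ζ, hζ⟩ := HasEnoughRootsOfUnity.exists_primitiveRoot K (2 ^ N)
    refine ⟨AdjoinRoot.lift (Int.castRingHom K) ζ ?_, by rwa [AdjoinRoot.lift_root]⟩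
    rw [← eval_map, map_cyclotomic]; exact hζ.isRoot_cyclotomic (Nat.two_pow_pos N)
  have h2 : (2 : R₀) ≠ 0 := fun e => by
    obtain ⟨π, -⟩ := k ℂ two_ne_zero
    simpa [map_ofNat] using congrArg π e
  have r : (AdjoinRoot.root _ : R₀) ^ 2 ^ N = 1 := by
    have := AdjoinRoot.mk_eq_zero.2 (cyclotomic.dvd_X_pow_sub_one (2 ^ N) ℤ)
    rwa [map_sub, map_pow, map_one, AdjoinRoot.mk_X, sub_eq_zero] at this
  let R := Localization.Away (2 : R₀)
  have r' : algebraMap R₀ R (AdjoinRoot.root _) ^ 2 ^ N = 1 := by rw [← map_pow, r, map_one]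
  refine ⟨R, inferInstance, IsLocalization.isDomain_localization (powers_le_nonZeroDivisors_of_noZeroDivisors h2),
    Units.ofPowEqOne _ _ r' (Nat.two_pow_pos N).ne', by
      simpa [map_ofNat] using IsLocalization.Away.algebraMap_isUnit (S := R) (2 : R₀), Units.ext (by simpa using r'),
    fun K _ _ h => ?_⟩
  obtain ⟨π, hπ⟩ := k K h
  refine ⟨IsLocalization.Away.lift (2 : R₀) (g := π) (by simpa [map_ofNat] using h), ?_⟩
  refine (orderOf_units.symm.trans ?_).trans hπ.eq_orderOf.symm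
  simp

variable {ι F K : Type*} [Fintype ι] [DecidableEq ι] [Field F] [Field K]

theorem mem_rng [Fintype F] (π : F →+* K) {x : K} (h : x ^ Fintype.card F = x) : x ∈ π.range := by
  have h1 := Fintype.one_lt_card (α := F)
  refine Splits.mem_range_of_isRoot (f := X ^ Fintype.card F - X) (splits_iff_card_roots.2 ?_)
    (FiniteField.X_pow_card_sub_X_ne_zero F h1) (by simp [h])
  rw [FiniteField.roots_X_pow_card_sub_X, FiniteField.X_pow_card_sub_X_natDegree_eq F h1]; rfl

theorem glmap_inj (π : F →+* K) : Function.Injective (GeneralLinearGroup.map π : GL ι F → _) := fun _ _ h =>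
  Units.ext (ext fun i j => π.injective (congrArg (fun g : GL ι K => g.1 i j) h))

theorem glmap_rng [Fintype F] (π : F →+* K) {g : GL ι K} (h : ∀ i j, g.1 i j ^ Fintype.card F = g.1 i j) :
    g ∈ (GeneralLinearGroup.map π).range := by
  choose a ha using fun i j => mem_rng π (h i j)
  have e : (of a).map π = g.1 := ext ha
  refine ⟨GeneralLinearGroup.mkOfDetNeZero (of a) fun k => g.det_ne_zero ?_, Units.ext e⟩
  rw [← e, ← RingHom.mapMatrix_apply, ← RingHom.map_det, k, map_zero]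

theorem cj_desc [Finite F] (h2 : (2 : F) ≠ 0) (π : F →+* K) {P : Type*} [Group P] [Finite P] (hP : IsPGroup 2 P)
    {a b : P →* GL ι F} (h : HE ((GeneralLinearGroup.map π).comp a) ((GeneralLinearGroup.map π).comp b)) :
    Cj a b := by
  have hc : (Nat.card P : F) ≠ 0 := by
    obtain ⟨n, hn⟩ := hP.exists_card_eq
    simp [hn, h2]
  refine cj_of_hd hc ?_
  simp only [HE, hd_map (inv_mul_cancel₀ hc) π (.id F)] at h
  exact h

theorem scalar_map (π : F →+* K) (c : F) : (scalar ι c).map π = scalar ι (π c) := by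
  simp [diagonal_map]

theorem det_map (π : F →+* K) (g : GL ι F) :
    (GeneralLinearGroup.det (GeneralLinearGroup.map π g) : K) = π g.1.det := (π.map_det _).symm

theorem det_map_one (π : F →+* K) (g : GL ι F) :
    GeneralLinearGroup.det g = 1 ↔ GeneralLinearGroup.det (GeneralLinearGroup.map π g) = 1 := by
  rw [Units.ext_iff, Units.ext_iff, det_map, Units.val_one, Units.val_one, map_eq_one_iff _ π.injective]; rfl

theorem gd_GL [Fintype F] [IsAlgClosed K] (h2 : (2 : F) ≠ 0) (π : F →+* K) (n : ℕ) :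
    ∃ Fr, Gd (Fintype.card F) (GeneralLinearGroup.map (n := Fin n) π) Fr SpecialLinearGroup.toGL := by
  obtain ⟨p, hp, e, h1, h⟩ := FiniteField.card' F
  have := Fact.mk h1
  have := (π.charP_iff_charP p).1 hp
  have hφ : ∀ x, iterateFrobenius K p e x = x ^ Fintype.card F := fun x => by rw [h]; rfl
  refine ⟨GeneralLinearGroup.map (iterateFrobenius K p e), glmap_inj π, fun g hg => glmap_rng π fun i j => ?_,
    fun w => ?_, fun g => ?_, fun β _ => ?_, fun P _ _ hP a b => cj_desc h2 π hP,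
    SpecialLinearGroup.toGL_injective, fun g => ?_, fun g hg => ?_⟩
  · rw [← hφ]; exact congrArg (fun g : GL (Fin n) K => g.1 i j) hg
  · rw [mon_map]; exact mon_congr rfl fun i => Units.ext (by simp [hφ])
  · ext; rw [zpow_natCast, Units.val_pow_eq_pow_val, det_map, ← map_pow, FiniteField.pow_card]
  · obtain ⟨x, hx⟩ := Cfsg.Agent.S2665.result p e e.2 n (mon (.id _) (inr β : Wr (Fin n) Kˣ))
    exact ⟨x⁻¹, by rw [hx, map_inv, inv_mul_cancel_left]⟩
  · rw [← det_map_one]
    exact ⟨fun ⟨x, hx⟩ => hx ▸ SpecialLinearGroup.coeToGL_det x, fun h => ⟨⟨g.1, congrArg Units.val h⟩, Units.ext rfl⟩⟩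
  · obtain ⟨r, -, hr⟩ := Matrix.SpecialLinearGroup.mem_center_iff.1 hg
    exact ⟨π r, by rw [← scalar_map, hr]; rfl⟩

/-- inverse transpose -/
def itr : GL ι K →* GL ι K where
  toFun g := ⟨g⁻¹.1ᵀ, g.1ᵀ, by rw [← transpose_mul, Units.mul_inv, transpose_one], by
    rw [← transpose_mul, Units.inv_mul, transpose_one]⟩
  map_one' := Units.ext (by simp)
  map_mul' a b := Units.ext (by simp [-coe_units_inv])

theorem itr_eq {g h : GL ι K} : itr g = h ↔ h.1ᵀ * g.1 = 1 := by
  rw [Units.ext_iff, ← transpose_inj, Units.mul_eq_one_iff_eq_inv, eq_comm]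
  rfl

theorem ex_norm [Finite F] {σ : F →+* F} (hσ : ∀ x, σ (σ x) = x) (h1 : σ ≠ .id F) {a : Matrix ι ι F} (hu : IsUnit a)
    (ha : aᵀ.map σ = a) : ∃ b : GL ι F, b.1ᵀ.map σ * b.1 = a ∧ ∀ x, x * a = a * x → x * b.1 = b.1 * x := by
  let S : Set (Matrix ι ι F) := Set.range (algebraMap F _) ∪ {a}
  have sa : ∀ c, (algebraMap F (Matrix ι ι F) c)ᵀ.map σ = algebraMap F _ (σ c) := fun c => by
    simp [algebraMap_eq_diagonal, diagonal_map]
  have H : H22.StarOn (fun M : Matrix ι ι F => Mᵀ.map σ) S := ⟨fun a b => by simp [Matrix.map_add],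
    fun a b => by simp [Matrix.map_mul], by simp, ?_, ?_, fun a _ => ext fun i j => hσ _⟩
  rotate_left
  · rintro _ (⟨c, rfl⟩ | rfl) _ (⟨d, rfl⟩ | rfl)
    exacts [Algebra.commutes _ _, Algebra.commutes _ _, (Algebra.commutes _ _).symm, rfl]
  · rintro _ (⟨c, rfl⟩ | rfl)
    · exact .inl ⟨_, (sa c).symm⟩
    · exact .inr ha
  let := Subring.closureCommRingOfComm H.comm
  have : Finite (Matrix ι ι F) := inferInstanceAs (Finite (ι → ι → F))
  have un : ∀ x : Subring.closure S, IsUnit x.1 → IsUnit x := fun x hx =>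
    IsLeftRegular.isUnit_of_finite fun a b e => Subtype.ext (hx.mul_left_cancel (congrArg Subtype.val e))
  let τ : Subring.closure S →+* Subring.closure S :=
    { toFun x := ⟨x.1ᵀ.map σ, (H.aux x.2).1⟩
      map_one' := Subtype.ext H.one
      map_mul' x y := (Subtype.ext (H.mul x y)).trans (mul_comm _ _)
      map_zero' := Subtype.ext (by simp)
      map_add' x y := Subtype.ext (H.add x y) }
  obtain ⟨c, hc⟩ := DFunLike.ne_iff.1 h1
  obtain ⟨y, hy⟩ := H22.exists_norm_comm (σ := τ) (fun x => Subtype.ext (H.aux x.2).2)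
    (un (⟨algebraMap F _ c, Subring.subset_closure (.inl ⟨c, rfl⟩)⟩ - τ ⟨_, Subring.subset_closure (.inl ⟨c, rfl⟩)⟩) (by
      change IsUnit (_ - (algebraMap F (Matrix ι ι F) c)ᵀ.map σ)
      rw [sa, ← map_sub]; exact (sub_ne_zero.2 (Ne.symm hc)).isUnit.map _))
    (un ⟨a, Subring.subset_closure (.inr rfl)⟩ hu) (Subtype.ext ha)
  replace hy : y.1ᵀ.map σ * y.1 = a := congrArg Subtype.val hy
  obtain ⟨b, hb⟩ := isUnit_of_mul_isUnit_right (hy ▸ hu)
  refine ⟨b, hb ▸ hy, fun x hx => hb ▸ ?_⟩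
  have : Subring.closure S ≤ Subring.centralizer {x} := Subring.closure_le.2 (by
    rintro _ (⟨c, rfl⟩ | rfl) _ rfl
    · exact (Algebra.commutes c _).symm
    · exact hx)
  exact this y.2 x rfl

theorem gd_GU [Fintype F] [IsAlgClosed K] (h2 : (2 : F) ≠ 0) (π : F →+* K) {q : ℕ} (hF : Fintype.card F = q ^ 2)
    {n : ℕ} (hn : 2 ≤ n) : ∃ Fr, Gd (-q) ((GeneralLinearGroup.map π).comp (Cfsg.GU n F q).subtype) Fr
      (H11.suToGU n F q) := by
  obtain ⟨p, e, h1, hp, -, h⟩ := H11.exists_prime_pow_of_card_sq hF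
  have := Fact.mk h1
  have := (π.charP_iff_charP p).1 hp
  have hφ : ∀ x, iterateFrobenius K p e x = x ^ q := fun x => by rw [h]; rfl
  generalize iterateFrobenius K p e = φ at hφ
  have hσ := H11.frob_frob hF
  have cm : ∀ M : Matrix (Fin n) (Fin n) F, (M.map π).map φ = (M.map (H11.frob hF)).map π := fun M =>
    ext fun i j => by simp [hφ]
  have gu : ∀ g : GL (Fin n) F, g ∈ Cfsg.GU n F q ↔ g.1ᵀ.map (H11.frob hF) * g.1 = 1 := fun g => by
    have k : ∀ M : Matrix (Fin n) (Fin n) F, (M.map (H11.frob hF)).map (H11.frob hF) = M := fun M =>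
      ext fun i j => hσ _
    rw [H11.mem_GU_iff_matrix hF]
    exact ⟨fun h => by simpa [Matrix.map_mul, k, -H11.frob_apply] using congrArg (Matrix.map · (H11.frob hF)) h,
      fun h => by simpa [Matrix.map_mul, k, -H11.frob_apply] using congrArg (Matrix.map · (H11.frob hF)) h⟩
  refine ⟨itr.comp (GeneralLinearGroup.map φ), (glmap_inj π).comp Subtype.val_injective, fun g hg => ?_,
    fun w => ?_, fun g => ?_, fun β hβ => ?_, fun P _ _ hP a b h => ?_, H11.suToGU_injective n, fun g => ?_,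
    fun g hg => ?_⟩
  · have a : g.1ᵀ * g.1.map φ = 1 := itr_eq.1 hg
    have b : (g.1.map φ).map φ = g.1 := by
      have c : (g.1.map φ)ᵀ * (g.1.map φ).map φ = 1 := by
        simpa [Matrix.map_mul, transpose_map] using congrArg (Matrix.map · φ) a
      have d : (g.1.map φ)ᵀ * g.1 = 1 := by simpa using congrArg transpose a
      rw [← one_mul (Matrix.map _ _), ← mul_eq_one_comm.1 d, mul_assoc, c, mul_one]
    obtain ⟨g, rfl⟩ := glmap_rng π (g := g) fun i j => by
      rw [hF, sq, pow_mul, ← hφ, ← hφ]; exact congrFun₂ b i j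
    refine ⟨⟨g, (H11.mem_GU_iff_matrix hF n g).2 (map_injective π.injective ?_)⟩, rfl⟩
    simpa [Matrix.map_mul, ← cm, transpose_map] using a
  · rw [MonoidHom.comp_apply, mon_map, itr_eq, mon_tr, ← Units.val_mul, Units.val_eq_one, mon_congr (w := w⁻¹)
      (v := w⁻¹) (χ := (Units.map (φ : K →* K)).comp (.id _)) rfl fun i => Units.ext (by simp [hφ]), ← map_mul]
    simp
  · have := congrArg π (H11.det_norm_of_mem_GU hF g.2)
    rw [_root_.zpow_neg, zpow_natCast, inv_eq_iff_mul_eq_one, mul_comm]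
    ext
    rw [Units.val_mul, Units.val_pow_eq_pow_val, MonoidHom.comp_apply, det_map]
    simpa [-RingHom.map_det] using this
  · let P : GL (Fin n) F := mon (.id _) (inr β : Wr (Fin n) Fˣ)
    have b : β⁻¹ = β := inv_eq_of_mul_eq_one_right hβ
    obtain ⟨y, hy, -⟩ := ex_norm hσ (H11.frob_ne_id hF) P.isUnit (ext fun i j => by
      simp [P, mon_apply, apply_ite (H11.frob hF), eq_comm (a := j), ← Equiv.Perm.eq_inv_iff_eq, b,
        -H11.frob_apply])
    refine ⟨GeneralLinearGroup.map π y, itr_eq.2 ?_⟩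
    have c : (mon (.id _) (inr β : Wr (Fin n) Kˣ)).1 = P.1.map π := ext fun i j => by
      simp [P, mon_apply, apply_ite π]
    have d : P.1 * P.1 = 1 := by rw [← Units.val_mul, ← map_mul, ← map_mul, hβ]; simp
    change (y.1.map π * _)ᵀ * (y.1.map π).map φ = 1
    rw [c, cm, ← Matrix.map_mul, ← transpose_map, ← Matrix.map_mul, ← transpose_transpose (_ * _), transpose_mul,
      transpose_transpose, ← mul_assoc, ← transpose_map, hy, d]
    simp
  · obtain ⟨g, hg⟩ := cj_desc h2 π hP (a := (Cfsg.GU n F q).subtype.comp a) (b := (Cfsg.GU n F q).subtype.comp b) h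
    replace hg : ∀ x, (b x).1.1 * g.1 = g.1 * (a x).1.1 := fun x =>
      congrArg Units.val (show (b x).1 * g = g * (a x).1 from eq_mul_inv_iff_mul_eq.1 (hg x))
    have st : ∀ M N : Matrix (Fin n) (Fin n) F, (M * N)ᵀ.map (H11.frob hF) =
      Nᵀ.map (H11.frob hF) * Mᵀ.map (H11.frob hF) := fun M N => by simp [Matrix.map_mul]
    obtain ⟨y, hy, hc⟩ := ex_norm hσ (H11.frob_ne_id hF) (a := g.1ᵀ.map (H11.frob hF) * g.1)
      (((GeneralLinearGroup.map (H11.frob hF) (itr g)⁻¹) * g).isUnit) (by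
        rw [st]; congr 1; exact ext fun i j => hσ _)
    refine ⟨⟨g * y⁻¹, (gu _).2 ?_⟩, fun x => Subtype.ext (eq_mul_inv_of_mul_eq (Units.ext ?_))⟩
    · rw [Units.val_mul, st, mul_assoc, ← mul_assoc _ g.1, ← hy, mul_assoc, Units.mul_inv, mul_one, ← st,
        Units.mul_inv]
      simp [-H11.frob_apply]
    · have := hc (a x).1.1 (by
        have e := congrArg (fun M => (a x).1.1 * Mᵀ.map (H11.frob hF) * (b x).1.1) (hg x)
        simp only [st, ← mul_assoc, mul_eq_one_comm.1 ((gu _).1 (a x).2), one_mul] at e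
        rw [mul_assoc _ _ (b x).1.1, (gu _).1 (b x).2, mul_one] at e
        rw [← mul_assoc, e, mul_assoc, mul_assoc, hg])
      change (b x).1.1 * (g.1 * y⁻¹.1) = g.1 * y⁻¹.1 * (a x).1.1
      rw [← mul_assoc, hg, mul_assoc, mul_assoc, (Units.eq_inv_mul_iff_mul_eq _).2
        (show y.1 * ((a x).1.1 * y⁻¹.1) = (a x).1.1 by rw [← mul_assoc, ← this, Units.mul_inv_cancel_right])]
  · rw [H11.range_suToGU, MonoidHom.mem_ker, MonoidHom.comp_apply, MonoidHom.comp_apply, det_map_one π]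
  · obtain ⟨r, hr⟩ := (H11.su_mem_center_iff hF hn g).1 hg
    exact ⟨π r, by rw [← scalar_map, ← hr]; rfl⟩

end H28.FE
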