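import Cfsg.Agent.H28.FE4

/-! The 2-fusion system of `PSL_n^ε(q)`, `n ≤ 5`, depends only on the 2-parts of `εq ± 1`. -/

set_option autoImplicit false

namespace H28.FE
open Matrix Subgroup H28 SemidirectProduct Equiv

/-- the 2-adic type of `Q = ±q` -/
def Ty (Q : ℤ) (t : Bool) (k : ℕ) : Prop := 2 ≤ k ∧ ∃ m, Odd m ∧ Q = 2 ^ k * m + if t then 1 else -1

abbrev vv (z : ℤ) : ℕ := padicValInt 2 z

theorem vv_eq {z o : ℤ} {e : ℕ} (ho : Odd o) (h : z = 2 ^ e * o) : vv z = e := by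
  have : o ≠ 0 := by rintro rfl; simp at ho
  rw [h, vv, padicValInt.mul (by positivity) this, padicValInt.eq_zero_of_not_dvd (z := o)
    (by simpa using Int.not_even_iff_odd.2 ho ∘ even_iff_two_dvd.2), padicValInt]
  simp [Int.natAbs_pow]

variable {Q Q' : ℤ} {t t' : Bool} {k k' n : ℕ}

theorem Ty.dec (h : Ty Q t k) : ∃ a b c, Odd a ∧ Odd b ∧ Odd c ∧ Odd Q ∧ Q - 1 = 2 ^ (if t then k else 1) * a ∧
    Q + 1 = 2 ^ (if t then 1 else k) * b ∧ Q ^ 2 + 1 = 2 * c := by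
  obtain ⟨h, m, hm, rfl⟩ := h
  obtain ⟨k, rfl⟩ := Nat.exists_eq_add_of_le' h
  cases t
  · exact ⟨2 * (2 ^ k * m) - 1, m, 2 * (4 * (2 ^ k * m) ^ 2 - 2 * (2 ^ k * m)) + 1, ⟨2 ^ k * m - 1, by ring⟩, hm,
      ⟨_, rfl⟩, ⟨2 * (2 ^ k * m) - 1, by simp; ring⟩, by simp; ring, by simp, by simp; ring⟩
  · exact ⟨m, 2 * (2 ^ k * m) + 1, 2 * (4 * (2 ^ k * m) ^ 2 + 2 * (2 ^ k * m)) + 1, hm, ⟨_, rfl⟩,
      ⟨_, rfl⟩, ⟨2 * (2 ^ k * m), by simp; ring⟩, by simp, by simp; ring, by simp; ring⟩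

theorem Ty.vals (h : Ty Q t k) : vv (Q - 1) = (if t then k else 1) ∧ vv (Q + 1) = (if t then 1 else k) ∧
    vv (Q ^ 2 - 1) = k + 1 ∧ vv (Q ^ 3 - 1) = (if t then k else 1) ∧ vv (Q ^ 4 - 1) = k + 2 ∧
    vv (Q ^ 5 - 1) = (if t then k else 1) := by
  obtain ⟨a, b, c, ha, hb, hc, ⟨u, hu⟩, h1, h2, h3⟩ := h.dec
  have e : Q ^ 2 - 1 = 2 ^ (k + 1) * (a * b) := by
    rw [show Q ^ 2 - 1 = (Q - 1) * (Q + 1) by ring, h1, h2]; cases t <;> simp <;> ring
  refine ⟨vv_eq ha h1, vv_eq hb h2, vv_eq (ha.mul hb) e,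
    vv_eq (ha.mul (⟨2 * u ^ 2 + 3 * u + 1, by rw [hu]; ring⟩ : Odd (Q ^ 2 + Q + 1))) (by rw [← mul_assoc, ← h1]; ring),
    vv_eq ((ha.mul hb).mul hc) (by rw [show Q ^ 4 - 1 = (Q ^ 2 - 1) * (Q ^ 2 + 1) by ring, e, h3]; ring),
    vv_eq (ha.mul (⟨8 * u ^ 4 + 20 * u ^ 3 + 20 * u ^ 2 + 10 * u + 2, by rw [hu]; ring⟩ :
      Odd (Q ^ 4 + Q ^ 3 + Q ^ 2 + Q + 1))) (by rw [← mul_assoc, ← h1]; ring)⟩

theorem ex_ty (h : Odd Q) (h1 : Q ≠ 1) (h2 : Q ≠ -1) : ∃ t k, Ty Q t k := by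
  have key : ∀ z : ℤ, z ≠ 0 → 4 ∣ z → ∃ k m, 2 ≤ k ∧ Odd m ∧ z = 2 ^ k * m := fun z a ⟨w, b⟩ => by
    obtain ⟨k, m, c, d⟩ := (WfDvdMonoid.max_power_factor (a₀ := w) (by rintro rfl; simp_all) Int.prime_two.irreducible)
    exact ⟨k + 2, m, by omega, Int.not_even_iff_odd.1 (c ∘ even_iff_two_dvd.1), by rw [b, d]; ring⟩
  obtain ⟨u, rfl⟩ := h
  rcases u.even_or_odd with ⟨v, rfl⟩ | ⟨v, rfl⟩
  · obtain ⟨k, m, a, b, c⟩ := key (2 * (v + v) + 1 - 1) (by omega) ⟨v, by ring⟩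
    exact ⟨true, k, a, m, b, by simp [← c]⟩
  · obtain ⟨k, m, a, b, c⟩ := key (2 * (2 * v + 1) + 1 + 1) (by omega) ⟨v + 1, by ring⟩
    exact ⟨false, k, a, m, b, by simp [← c]⟩

theorem Ty.iff (h : Ty Q t k) (h' : Ty Q' t' k') :
    vv (Q' - 1) = vv (Q - 1) ∧ vv (Q' + 1) = vv (Q + 1) ↔ t' = t ∧ k' = k := by
  rw [h.vals.1, h.vals.2.1, h'.vals.1, h'.vals.2.1]
  have := h.1
  have := h'.1
  cases t <;> cases t' <;> simp <;> omega

def b0 : (n : ℕ) → Perm (Fin n)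
  | 2 => swap 0 1
  | 3 => swap 0 1
  | 4 => swap 0 1 * swap 2 3
  | 5 => swap 0 1 * swap 2 3
  | _ => 1

def bb (n : ℕ) (t : Bool) : Perm (Fin n) := if t then 1 else b0 n

/-- the exponent of the 2-part of `|GL_n^ε(q)|` -/
def va (n : ℕ) (t : Bool) (k : ℕ) : ℕ :=
  (if t then k * n else (k + 1) * (n / 2) + n % 2) + if n < 4 then 1 else 3

def In (n : ℕ) : Prop := n = 2 ∨ n = 3 ∨ n = 4 ∨ n = 5

theorem Ty.sum (h : Ty Q t k) (hn : In n) : ∑ i ∈ Finset.range n, vv (Q ^ (i + 1) - 1) = va n t k := by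
  obtain ⟨a, -, b, c, d, e⟩ := h.vals
  rcases hn with rfl | rfl | rfl | rfl <;> cases t <;> simp_all [Finset.sum_range_succ, va] <;> ring

theorem b0_facts (hn : In n) : b0 n * b0 n = 1 ∧ Blk (b0 n) ∧ (∀ σ, Commute (b0 n) σ → σ ^ 4 = 1) ∧
    Nat.card {σ // Commute (b0 n) σ} = 2 ^ if n < 4 then 1 else 3 := by
  simp only [Nat.card_eq_fintype_card, Fintype.card_subtype, Commute, SemiconjBy]
  rcases hn with rfl | rfl | rfl | rfl
  · exact ⟨by decide, ⟨.univ, 1, rfl, by simp⟩, by decide +kernel, by decide +kernel⟩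
  · exact ⟨by decide, ⟨{2}, 0, rfl, by unfold Commute SemiconjBy; decide +kernel⟩, by decide +kernel, by decide +kernel⟩
  · exact ⟨by decide, ⟨.univ, 2, rfl, by simp⟩, by decide +kernel, by decide +kernel⟩
  · exact ⟨by decide, ⟨{4}, 0, rfl, by unfold Commute SemiconjBy; decide +kernel⟩, by decide +kernel, by decide +kernel⟩

theorem bb_comm {σ : Perm (Fin n)} (h : Commute (b0 n) σ) : Commute (bb n t) σ := by
  cases t
  exacts [h, .one_left _]

variable {A : Type} [CommGroup A] {g : A}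

/-- `A` is cyclic of order `2 ^ (k + 1)` -/
structure Cy (g : A) (k : ℕ) : Prop where
  ord : orderOf g = 2 ^ (k + 1)
  gen : ∀ a, a ∈ zpowers g

theorem Cy.card (h : Cy g k) : Nat.card A = 2 ^ (k + 1) := by
  rw [← h.ord, ← Nat.card_zpowers, (eq_top_iff' _).2 h.gen, card_top]

theorem Cy.fin (h : Cy g k) : Finite A := Nat.finite_of_card_ne_zero (by simp [h.card])

theorem Cy.pow (h : Cy g k) (a : A) : a ^ 2 ^ (k + 1) = 1 := h.card ▸ pow_card_eq_one'

theorem Cy.zp (h : Cy g k) {a b : ℤ} (e : 2 ^ (k + 1) ∣ a - b) (x : A) : x ^ a = x ^ b := by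
  obtain ⟨c, e⟩ := e
  rw [show a = b + (2 ^ (k + 1) : ℕ) * c by push_cast; omega, _root_.zpow_add, _root_.zpow_mul, zpow_natCast, h.pow]
  simp

theorem Cy.z1 (h : Cy g k) : g ^ 2 ^ k ≠ 1 := fun e => by
  have := orderOf_dvd_of_pow_eq_one e
  rw [h.ord, Nat.pow_dvd_pow_iff_le_right one_lt_two] at this
  omega

theorem Cy.zz (h : Cy g k) : g ^ 2 ^ k * g ^ 2 ^ k = 1 := by rw [← pow_add, ← two_mul, ← pow_succ', h.pow]

theorem Ty.zp (h : Ty Q t k) (c : Cy g k) (x : A) : x ^ Q = x ^ 2 ^ k * if t then x else x⁻¹ := by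
  obtain ⟨-, m, ⟨u, rfl⟩, rfl⟩ := h
  rw [c.zp (b := (2 ^ k : ℕ) + if t then 1 else -1) ⟨u, by push_cast; ring⟩, _root_.zpow_add, zpow_natCast]
  cases t <;> simp

theorem Ty.xs (h : Ty Q t k) (h' : Ty Q' t k) (c : Cy g k) {β₀ β : Perm (Fin n)} : Xs A β₀ β Q = Xs A β₀ β Q' := by
  ext w
  simp only [Xs, mem_mk, Submonoid.mem_mk, Subsemigroup.mem_mk, Set.mem_setOf_eq, h.zp c, h'.zp c]

theorem xs_pg (c : Cy g k) (hn : In n) {β : Perm (Fin n)} : IsPGroup 2 (Xs A (b0 n) β Q) := fun x => ⟨2 + (k + 1), by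
  have e : x.1 ^ 4 = inl (x.1 ^ 4).left := by
    conv_lhs => rw [← inl_left_mul_inr_right (x.1 ^ 4), ← rightHom_eq_right, map_pow, rightHom_eq_right,
      (b0_facts hn).2.2.1 _ x.2.1, map_one, mul_one]
  refine Subtype.ext ?_
  rw [coe_pow, pow_add, pow_mul, show 2 ^ 2 = 4 from rfl, e, ← map_pow, show _ ^ 2 ^ (k + 1) = (1 : Fin n → A) from
    funext fun i => c.pow _, map_one, coe_one]⟩

theorem xs_card (h : Ty Q t k) (c : Cy g k) (hn : In n) : 2 ^ va n t k ≤ Nat.card (Xs A (b0 n) (bb n t) Q) := by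
  have := c.fin
  have : Finite (Wr (Fin n) A) := .of_equiv _ SemidirectProduct.equivProd.symm
  have key : ∀ (B : Type) (e : B → Fin n → A), Function.Injective e → (∀ b i, e b (bb n t i) = e b i ^ Q) →
      Nat.card B * 2 ^ (if n < 4 then 1 else 3) ≤ Nat.card (Xs A (b0 n) (bb n t) Q) := fun B e h1 h2 => by
    rw [← (b0_facts hn).2.2.2, ← Nat.card_prod]
    exact Nat.card_le_card_of_injective (fun p => ⟨⟨e p.1, p.2.1⟩, p.2.2, bb_comm p.2.2, h2 _⟩) fun p p' e =>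
      Prod.ext (h1 (congrArg (·.1.left) e)) (Subtype.ext (congrArg (·.1.right) e))
  have cy : IsCyclic A := ⟨g, c.gen⟩
  have cA := c.card
  rw [va, pow_add]
  cases t
  · have qq : ∀ a : A, (a ^ Q) ^ Q = a := fun a => by
      obtain ⟨u, v, -, -, -, -, -, h1, h2, -⟩ := h.dec
      rw [← _root_.zpow_mul, c.zp (b := 1) ⟨u * v, by
        rw [show Q * Q - 1 = (Q - 1) * (Q + 1) by ring, h1, h2]; simp; ring⟩, zpow_one]
    have cz : Nat.card (zpowers (g ^ 2 ^ k)) = 2 := by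
      rw [Nat.card_zpowers, orderOf_eq_prime (by rw [sq, c.zz]) c.z1]
    have fz : ∀ a : zpowers (g ^ 2 ^ k), a.1 = a.1 ^ Q := fun a => by
      have e : a.1 ^ 2 = 1 := congrArg Subtype.val (cz ▸ pow_card_eq_one' (x := a))
      obtain ⟨u, hu⟩ := h.dec.choose_spec.choose_spec.choose_spec.2.2.2.1
      rw [hu, _root_.zpow_add, _root_.zpow_mul, zpow_ofNat, e]; simp
    rcases hn with rfl | rfl | rfl | rfl
    · convert key A (fun a => ![a, a ^ Q]) (fun a b e => congrFun e 0) fun a i => by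
        fin_cases i <;> simp [bb, b0, qq]
      simp [cA]
    · convert key (A × zpowers (g ^ 2 ^ k)) (fun a => ![a.1, a.1 ^ Q, a.2]) (fun a b e =>
        Prod.ext (congrFun e 0) (Subtype.ext (congrFun e 2))) fun a i => by
          fin_cases i <;> simp [bb, b0, qq, swap_apply_def, ← fz]
      simp [cA, cz, pow_succ]
    · convert key (A × A) (fun a => ![a.1, a.1 ^ Q, a.2, a.2 ^ Q]) (fun a b e =>
        Prod.ext (congrFun e 0) (congrFun e 2)) fun a i => by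
          fin_cases i <;> simp [bb, b0, qq, swap_apply_def]
      simp [cA, mul_two, pow_add]
    · convert key (A × A × zpowers (g ^ 2 ^ k)) (fun a => ![a.1, a.1 ^ Q, a.2.1, a.2.1 ^ Q, a.2.2]) (fun a b e =>
        Prod.ext (congrFun e 0) (Prod.ext (congrFun e 2) (Subtype.ext (congrFun e 4)))) fun a i => by
          fin_cases i <;> simp [bb, b0, qq, swap_apply_def, ← fz]
      simp [cA, cz]; ring
  · convert key (Fin n → (powMonoidHom 2 : A →* A).range) (fun a i => a i)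
      (fun a b e => funext fun i => Subtype.ext (congrFun e i)) fun a i => by
        obtain ⟨b, hb⟩ := (a i).2
        simp only [bb, h.zp c, if_true, Perm.one_apply, ← hb, powMonoidHom_apply, ← pow_mul, ← pow_succ', c.pow, one_mul]
    rw [Nat.card_fun, IsCyclic.card_powMonoidHom_range]
    simp [cA, pow_succ, pow_mul]

/-- `H` is `PSL_n(Q)` (`Q > 0`) or `PSU_n(-Q)` -/
def LG (n : ℕ) (Q : ℤ) (H : Type*) [Group H] : Prop :=
  ∃ (K G G₀ : Type) (_ : Field K) (_ : IsAlgClosed K) (_ : Group G) (_ : Finite G) (_ : Group G₀)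
    (ρ : G →* GL (Fin n) K) (Fr : GL (Fin n) K →* GL (Fin n) K) (f : G₀ →* G), (2 : K) ≠ 0 ∧ Gd Q ρ Fr f ∧
    (Nat.card G).factorization 2 = ∑ i ∈ Finset.range n, vv (Q ^ (i + 1) - 1) ∧
    (Nat.card H).factorization 2 + (n.gcd (Q - 1).natAbs).factorization 2 + vv (Q - 1) =
      (Nat.card G).factorization 2 ∧ Nonempty (H ≃* G₀ ⧸ center G₀)

variable {H H' : Type*} [Group H] [Group H']

theorem LG.congr (h : LG n Q H) (e : H' ≃* H) : LG n Q H' := by
  obtain ⟨K, G, G₀, _, _, _, _, _, ρ, Fr, f, a, b, c, d, ⟨e'⟩⟩ := h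
  exact ⟨K, G, G₀, _, ‹_›, _, ‹_›, _, ρ, Fr, f, a, b, c, Nat.card_congr e.toEquiv ▸ d, ⟨e.trans e'⟩⟩

theorem LG.fin (h : LG n Q H) : Finite H := by
  obtain ⟨K, G, G₀, _, _, _, _, _, ρ, Fr, f, a, b, c, d, ⟨e'⟩⟩ := h
  have := Finite.of_injective _ b.finj
  exact .of_equiv _ e'.toEquiv.symm

theorem vv_nat (a : ℕ) : vv a = a.factorization 2 := (Nat.factorization_def a Nat.prime_two).symm

theorem fact_odd {q : ℕ} (h : Odd q) (e : ℕ) : (q ^ e).factorization 2 = 0 :=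
  Nat.factorization_eq_zero_of_not_dvd fun k => h.not_two_dvd_nat (Nat.prime_two.dvd_of_dvd_pow k)

theorem two_ne {F : Type*} [Field F] [Fintype F] (h : Odd (Fintype.card F)) : (2 : F) ≠ 0 :=
  Ring.two_ne_zero fun e => by simpa [Nat.odd_iff.1 h] using FiniteField.even_card_of_char_two e

theorem lg_PSL {F : Type} [Field F] [Fintype F] (h : Odd (Fintype.card F)) (hn : 1 ≤ n) :
    LG n (Fintype.card F) (ProjectiveSpecialLinearGroup (Fin n) F) := by
  have h2 := two_ne h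
  have h1 := Fintype.one_lt_card (α := F)
  let π := algebraMap F (AlgebraicClosure F)
  obtain ⟨Fr, hF⟩ := gd_GL h2 π n
  have : Nonempty (Fin n) := ⟨⟨0, hn⟩⟩
  refine ⟨_, _, _, _, inferInstance, _, inferInstance, _, _, Fr, _, fun e => h2 (π.injective (by simpa [map_ofNat] using e)),
    hF, ?_, ?_, ⟨.refl _⟩⟩
  · have p : ∀ i, 0 < Fintype.card F ^ (i + 1) - 1 := fun i => Nat.sub_pos_of_lt (Nat.one_lt_pow i.succ_ne_zero h1)
    rw [H27.Sp.card_gl', ← Finset.Ico_add_one_right_eq_Icc, Finset.prod_Ico_eq_prod_range, Nat.add_sub_cancel,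
      Nat.factorization_mul (by positivity) (Finset.prod_ne_zero_iff.2 fun i _ => (add_comm 1 i ▸ p i).ne'),
      Finsupp.add_apply, fact_odd h, zero_add, Nat.factorization_prod_apply fun i _ => (add_comm 1 i ▸ p i).ne']
    refine Finset.sum_congr rfl fun i _ => ?_
    rw [← vv_nat, add_comm, Nat.cast_sub (Nat.one_le_pow _ _ (by omega))]; simp
  · have a := H11.card_psl (ι := Fin n) (F := F)
    have e : (Fintype.card F - 1 : ℤ) = (Fintype.card F - 1 : ℕ) := by omega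
    rw [← H11.card_units_mul_card_sl, ← a, e, vv_nat, Int.natAbs_natCast, Nat.factorization_mul (by omega)
      (a ▸ Nat.card_pos.ne'), Nat.factorization_mul (by simp; omega) Nat.card_pos.ne']
    simp; ring

theorem lg_PSU {F : Type} [Field F] [Fintype F] {q : ℕ} (hF : Fintype.card F = q ^ 2) (h : Odd q) (hn : 2 ≤ n) :
    LG n (-q) (Cfsg.PSU n F q) := by
  have h2 := two_ne (F := F) (hF ▸ h.pow)
  have h1 := H11.two_le_of_card_sq hF
  let π := algebraMap F (AlgebraicClosure F)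
  obtain ⟨Fr, hG⟩ := gd_GU h2 π hF hn
  refine ⟨_, _, _, _, inferInstance, _, inferInstance, _, _, Fr, _, fun e => h2 (π.injective (by simpa [map_ofNat] using e)),
    hG, ?_, ?_, ⟨.refl _⟩⟩
  · have p : ∀ i, (if Even i then q ^ (i + 1) + 1 else q ^ (i + 1) - 1) ≠ 0 := fun i => by
      have : 1 < q ^ (i + 1) := Nat.one_lt_pow i.succ_ne_zero h1
      split_ifs <;> omega
    rw [H11.card_GU hF, Nat.factorization_mul (by positivity) (Finset.prod_ne_zero_iff.2 fun i _ => p i),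
      Finsupp.add_apply, fact_odd h, zero_add, Nat.factorization_prod_apply fun i _ => p i]
    refine Finset.sum_congr rfl fun i _ => ?_
    rw [← vv_nat]
    split_ifs with k
    · rw [k.add_one.neg_pow, ← neg_add', vv, vv, padicValInt, padicValInt, Int.natAbs_neg]; simp
    · rw [(Nat.not_even_iff_odd.1 k).add_one.neg_pow, Nat.cast_sub (Nat.one_le_pow _ _ (by omega))]; simp
  · have e : (-q - 1 : ℤ).natAbs = q + 1 := by omega
    rw [H11.card_GU hF, ← H11.card_psu hF hn, vv, padicValInt, e, ← Nat.factorization_def _ Nat.prime_two,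
      Nat.factorization_mul (by simp) (by simp [Nat.card_pos.ne']), Nat.factorization_mul (by simp) Nat.card_pos.ne']
    simp; ring

/-- the elements of determinant one -/
def D0 (c : Cy g k) (n : ℕ) : Subgroup (Wr (Fin n) A) where
  carrier := {w | ∏ i, w.left i = if Perm.sign w.right = 1 then 1 else g ^ 2 ^ k}
  one_mem' := by simp
  mul_mem' {w v} a b := by
    simp only [Set.mem_setOf_eq, mul_l, Finset.prod_mul_distrib, mul_right, map_mul] at a b ⊢
    rw [Equiv.prod_comp w.right⁻¹ v.left, a, b]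
    rcases Int.units_eq_one_or (Perm.sign w.right) with h | h <;>
      rcases Int.units_eq_one_or (Perm.sign v.right) with h' | h' <;> simp [h, h', c.zz]
  inv_mem' {w} a := by
    simp only [Set.mem_setOf_eq, inv_l, Finset.prod_inv_distrib, inv_right, Perm.sign_inv] at a ⊢
    rw [Equiv.prod_comp w.right w.left, a]
    split_ifs
    exacts [inv_one, inv_eq_of_mul_eq_one_right c.zz]

theorem det_ker {K : Type*} [Field K] (h2 : (2 : K) ≠ 0) (c : Cy g k) {ψ : A →* Kˣ} (hψ : Function.Injective ψ) :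
    (GeneralLinearGroup.det.comp (mon ψ)).ker = D0 c n := by
  have z : ψ (g ^ 2 ^ k) = -1 := by
    have : (ψ (g ^ 2 ^ k) : K) * ψ (g ^ 2 ^ k) = 1 := by rw [← Units.val_mul, ← map_mul, c.zz]; simp
    exact Units.ext ((mul_self_eq_one_iff.1 this).resolve_left fun e => c.z1 (hψ (Units.ext (by simpa using e))))
  ext w
  rw [MonoidHom.mem_ker, MonoidHom.comp_apply, mon_det]
  change _ ↔ _ = ite _ _ _
  rcases Int.units_eq_one_or (Perm.sign w.right) with h | h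
  · rw [h, map_one, one_mul, if_pos rfl, map_eq_one_iff _ hψ]
  · rw [h, if_neg (by decide), ← hψ.eq_iff, z, Units.ext_iff, Units.ext_iff]
    simp [neg_eq_iff_eq_neg]

/-- the base ring -/
theorem ex_base' (k : ℕ) : ∃ (R : Type) (_ : CommRing R) (_ : IsDomain R) (A : Type) (_ : CommGroup A) (g : A)
    (ψ : A →* Rˣ), Cy g k ∧ IsUnit (2 : R) ∧ ∀ (K : Type) [Field K] [IsAlgClosed K], (2 : K) ≠ 0 →
      ∃ π : R →+* K, Function.Injective ((Units.map (π : R →* K)).comp ψ) := by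
  obtain ⟨R, _, _, u, h1, h2, h3⟩ := ex_base (k + 1)
  have o : orderOf u = 2 ^ (k + 1) := by
    obtain ⟨π, hπ⟩ := h3 ℂ two_ne_zero
    exact Nat.dvd_antisymm (orderOf_dvd_of_pow_eq_one h2) (hπ ▸ orderOf_map_dvd _ u)
  refine ⟨R, _, ‹_›, zpowers u, inferInstance, ⟨u, mem_zpowers u⟩, Subgroup.subtype _, ⟨by rw [orderOf_mk, o], ?_⟩, h1,
    fun K _ _ h => ?_⟩
  · rintro ⟨_, i, rfl⟩; exact ⟨i, rfl⟩
  · obtain ⟨π, hπ⟩ := h3 K h
    refine ⟨π, (injective_iff_map_eq_one _).2 ?_⟩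
    rintro ⟨_, i, rfl⟩ e
    refine Subtype.ext (orderOf_dvd_iff_zpow_eq_one.1 ?_)
    rw [o, ← hπ]
    exact orderOf_dvd_iff_zpow_eq_one.2 (by simpa using e)

theorem LG.fe (hn : In n) (a : Ty Q t k) (a' : Ty Q' t k) (h : LG n Q H) (h' : LG n Q' H') : FE H H' := by
  have := h.fin
  have := h'.fin
  obtain ⟨K, G, G₀, _, _, _, _, _, ρ, Fr, f, b, c, d, -, ⟨e⟩⟩ := h
  obtain ⟨K', G', G₀', _, _, _, _, _, ρ', Fr', f', b', c', d', -, ⟨e'⟩⟩ := h'
  obtain ⟨R, _, _, A, _, g, ψ, cy, u, hR⟩ := ex_base' k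
  obtain ⟨π, hπ⟩ := hR K b
  obtain ⟨π', hπ'⟩ := hR K' b'
  have bq : bb n t * bb n t = 1 := by cases t; exacts [(b0_facts hn).1, one_mul _]
  have bc : Commute (b0 n) (bb n t) := (bb_comm (.refl _)).symm
  have p := c.pk hπ bq bc (b0_facts hn).2.1 (xs_pg cy hn) (by rw [d, a.sum hn]; exact xs_card a cy hn)
  have p' := c'.pk hπ' bq bc (b0_facts hn).2.1 (xs_pg cy hn) (by rw [d', a'.sum hn]; exact xs_card a' cy hn)
  have pg := xs_pg (Q := Q) (β := bb n t) cy hn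
  rw [det_ker b cy hπ] at p
  rw [det_ker b' cy hπ', a'.xs a cy] at p'
  generalize Xs A (b0 n) (bb n t) Q = X at p p' pg
  obtain ⟨i, N, c1, p⟩ := p
  obtain ⟨i', N', c1', p'⟩ := p'
  have := Finite.of_injective _ p.em.inj
  have key : ∀ {K K' G G' : Type} [Field K] [Field K'] [Group G] [Group G'] {ρ : G →* GL (Fin n) K}
      {ρ' : G' →* GL (Fin n) K'} {π : R →+* K} {π' : R →+* K'} {i : X →* G} {i' : X →* G'},
      Cj ((mon ((Units.map (π : R →* K)).comp ψ)).comp X.subtype) (ρ.comp i) →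
      Cj ((mon ((Units.map (π' : R →* K')).comp ψ)).comp X.subtype) (ρ'.comp i') →
      (∀ (P : Type) [Group P] [Finite P], IsPGroup 2 P → ∀ a b : P →* G', HE (ρ'.comp a) (ρ'.comp b) → Cj a b) →
      ∀ B, Fu i B → Fu i' B := by
    intro K K' G G' _ _ _ _ ρ ρ' π π' i i' c c' h B ⟨y, hy⟩
    let P := (i.comp (.snd X X)).eqLocus (((MulAut.conj y).toMonoidHom.comp i).comp (.fst X X))
    have hP : IsPGroup 2 P := fun x => by
      obtain ⟨a, ha⟩ := pg x.1.1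
      obtain ⟨b, hb⟩ := pg x.1.2
      exact ⟨a + b, Subtype.ext (Prod.ext (by simp [pow_add, pow_mul, ha]) (by simp [add_comm a, pow_add, pow_mul, hb]))⟩
    obtain ⟨m, hm⟩ := hP.exists_card_eq
    obtain ⟨v, hv⟩ := (u.pow m).exists_left_inv
    have cc : ∀ {K G : Type} [Field K] [Group G] {ρ : G →* GL (Fin n) K} {π : R →+* K} {i : X →* G},
        Cj ((mon ((Units.map (π : R →* K)).comp ψ)).comp X.subtype) (ρ.comp i) → ∀ a : P →* X,
        Cj ((GeneralLinearGroup.map π).comp (((mon ψ).comp X.subtype).comp a)) (ρ.comp (i.comp a)) :=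
      fun ⟨y, hy⟩ a => ⟨y, fun x => (hy (a x)).trans (by simp [mon_map])⟩
    obtain ⟨z, hz⟩ := h P hP (i'.comp ((MonoidHom.fst X X).comp P.subtype)) (i'.comp ((MonoidHom.snd X X).comp P.subtype)) (by
      simp only [HE, ← hd_congr (cc c' _) (cc c' _), hd_map (c := v) (by rw [hm]; simpa using hv) π' π,
        hd_congr (cc c _) (cc c _)]
      exact Cj.hd ⟨ρ y, fun x => by simpa using congrArg ρ x.2⟩)
    exact ⟨z, fun p hp => hz ⟨p, hy p hp⟩⟩
  have := Finite.of_injective _ c.finj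
  have := Finite.of_injective _ c'.finj
  exact (fe_equiv e).trans ((p.fe p' fun B => ⟨key c1 c1' c'.desc B, key c1' c1 c.desc B⟩).trans (fe_equiv e'.symm))

/-- the Sylow 2-subgroup of `PSL_n^ε(q)` -/
theorem LG.model (hn : In n) (a : Ty Q t k) (h : LG n Q H) : ∃ (A : Type) (_ : CommGroup A) (g : A) (c : Cy g k)
    (i : (Xs A (b0 n) (bb n t) Q ⊓ D0 c n : Subgroup _) →* H), IsSylowIn 2 i.range ⊤ ∧
      ∀ x, i x = 1 ↔ x.1 ∈ Zs (Fin n) A := by
  obtain ⟨K, G, G₀, _, _, _, _, _, ρ, Fr, f, b, c, d, -, ⟨e⟩⟩ := h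
  obtain ⟨R, _, _, A, _, g, ψ, cy, u, hR⟩ := ex_base' k
  obtain ⟨π, hπ⟩ := hR K b
  have bq : bb n t * bb n t = 1 := by cases t; exacts [(b0_facts hn).1, one_mul _]
  have p := c.pk hπ bq (bb_comm (.refl _)).symm (b0_facts hn).2.1 (xs_pg cy hn)
    (by rw [d, a.sum hn]; exact xs_card a cy hn)
  rw [det_ker b cy hπ] at p
  obtain ⟨i, N, -, p⟩ := p
  obtain ⟨i₀, h1, h2⟩ := p.ex
  have := Finite.of_injective _ c.finj
  let θ : (Xs A (b0 n) (bb n t) Q ⊓ D0 cy n : Subgroup _) →* (D0 cy n).subgroupOf (Xs A (b0 n) (bb n t) Q) :=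
    (inclusion inf_le_left).codRestrict _ fun x => x.2.2
  let q := e.symm.toMonoidHom.comp (QuotientGroup.mk' _)
  refine ⟨A, _, g, cy, (q.comp i₀).comp θ, ?_, fun x => ?_⟩
  · have := h1.syl.map q
    rwa [← MonoidHom.range_eq_map q, (MonoidHom.range_eq_top (f := q)).2 (e.symm.surjective.comp (QuotientGroup.mk'_surjective _)),
      ← MonoidHom.range_comp, MonoidHom.range_eq_map, ← (MonoidHom.range_eq_top
        (f := θ)).2 fun x => ⟨⟨x.1.1, x.1.2, x.2⟩, rfl⟩, ← MonoidHom.range_comp] at this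
  · simp only [q, MonoidHom.comp_apply, MulEquiv.coe_toMonoidHom, map_eq_one_iff _ e.symm.injective,
      QuotientGroup.mk'_apply, QuotientGroup.eq_one_iff]
    exact p.z0 _ _ (h2 _)

end H28.FE
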