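import Cfsg.Agent.H28.Large
import Cfsg.Agent.H29.PU1
import Cfsg.Agent.H23.SzTorN
import Cfsg.Agent.H23.SzSub
import Cfsg.Agent.H11.SL2Schur

/-! The groups `L ∈ 𝔏_G(Y_M)`: root subgroups acting quadratically. -/

set_option autoImplicit false

namespace H28.FL

open Cfsg Subgroup
open scoped Pointwise commutatorElement MatrixGroups

section Good

variable {X : Type*} [Group X] {p : ℕ} {Z : Subgroup X}

/-- a product of nontrivial elements of two distinct conjugates of `Z` -/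
def Pr (Z : Subgroup X) (h : X) : Prop := ∃ u v g k, u ∈ cj g Z ∧ v ∈ cj k Z ∧ u ≠ 1 ∧ v ≠ 1 ∧
  cj g Z ≠ cj k Z ∧ h = u * v

structure Good (p : ℕ) (Z : Subgroup X) : Prop where
  ti : ∀ z ∈ Z, z ≠ 1 → ∀ g, z ∈ 𝐍 (cj g Z) → g ∈ 𝐍 Z
  fac : ∀ h : X, (orderOf h).Prime → orderOf h ≠ p →
    Pr Z h ∨ ∃ k l, Pr Z k ∧ Pr Z l ∧ Pr Z (k * l) ∧ k * k = h ∧ l * l = h
  uniq : ∀ V, IsElementaryAbelian p V → V ≠ ⊥ → V ≤ 𝐍 Z → 𝐍 Z ≤ 𝐍 V → V = Z

theorem Good.ti' (h : Good p Z) {z g k : X} (hz : z ∈ cj g Z) (h1 : z ≠ 1) (hn : z ∈ 𝐍 (cj k Z)) :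
    cj g Z = cj k Z := by
  have := h.ti _ (mem_cj.1 hz) (fun e => h1 (by
    calc z = g * (g⁻¹ * z * g) * g⁻¹ := by group
      _ = 1 := by rw [e]; group)) (g⁻¹ * k) (by
    rw [← cj_cj, ← cj_normalizer, mem_cj]; simpa [mul_assoc] using hn)
  rw [cj_eq_iff, cj_cj, cj_eq_self this]

theorem pr_of_inv (hZ : IsMulCommutative Z) (hc : ∀ t : X, t * t = 1 → ∃ g, t ∈ cj g Z) {h t : X}
    (hp : (orderOf h).Prime) (h2 : orderOf h ≠ 2) (tt : t * t = 1) (e : t * h * t⁻¹ = h⁻¹) :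
    Pr Z h := by
  have ne : h * h ≠ 1 := fun k => h2 ((Nat.prime_dvd_prime_iff_eq hp Nat.prime_two).1
    (orderOf_dvd_of_pow_eq_one (by rwa [sq])))
  have ti : t⁻¹ = t := inv_eq_of_mul_eq_one_left tt
  have uu : h * t * (h * t) = 1 := by
    rw [ti] at e; rw [mul_assoc, ← mul_assoc t, e, mul_inv_cancel]
  obtain ⟨g, hg⟩ := hc _ uu
  obtain ⟨k, hk⟩ := hc _ tt
  refine ⟨h * t, t, g, k, hg, hk, fun a => ne ?_, fun a => ne ?_, fun a => ne ?_, by
    rw [mul_assoc, tt, mul_one]⟩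
  · rw [mul_eq_one_iff_eq_inv.1 a, ti, tt]
  · simpa [a] using uu
  · have c : Commute (h * t) t := by
      have : k⁻¹ * (h * t) * k * (k⁻¹ * t * k) = k⁻¹ * t * k * (k⁻¹ * (h * t) * k) := congrArg
        Subtype.val (hZ.is_comm.comm ⟨_, mem_cj.1 (a ▸ hg)⟩ ⟨_, mem_cj.1 hk⟩)
      calc h * t * t = k * (k⁻¹ * (h * t) * k * (k⁻¹ * t * k)) * k⁻¹ := by group
        _ = _ := by rw [this]; group
    have := c.mul_pow 2
    rwa [sq, sq, sq, uu, tt, mul_assoc h, tt, mul_one, mul_one] at this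

section SL

open H13.SL2 H29.PU

variable {F : Type*} [Field F]

theorem inv00 (g : SL(2, F)) : g⁻¹ 0 0 = g 1 1 := by rw [g.SL2_inv_expl]; rfl
theorem inv01 (g : SL(2, F)) : g⁻¹ 0 1 = -g 0 1 := by rw [g.SL2_inv_expl]; rfl
theorem inv10 (g : SL(2, F)) : g⁻¹ 1 0 = -g 1 0 := by rw [g.SL2_inv_expl]; rfl
theorem inv11 (g : SL(2, F)) : g⁻¹ 1 1 = g 0 0 := by rw [g.SL2_inv_expl]; rfl

theorem norm_upper : 𝐍 (upperUnipotentSL2 F) = bor F := by
  refine le_antisymm (fun g hg => ?_) (le_normalizer_of_cj_le fun g hg => ?_)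
  · obtain ⟨t, e⟩ := mem_upper.1 (conj_mem_of_mem_normalizer hg (x_mem 1))
    have := conj_x_entry g 1
    rw [e] at this
    simpa [x, mem_bor] using this
  · rintro _ ⟨_, hy, rfl⟩
    obtain ⟨t, rfl⟩ := mem_upper.1 hy
    have b : g * x t * g⁻¹ ∈ bor F := mul_mem (mul_mem hg (x_mem_bor t)) (inv_mem hg)
    refine mem_upper.2 ⟨_, eq_x b ?_⟩
    have d := det' g
    rw [mem_bor] at hg
    change (g * x t * g⁻¹) 0 0 = 1
    simp only [mul_apply', inv00, inv10]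
    simp [hg, x] at d ⊢
    exact d

theorem exists_xy (h : SL(2, F)) (v0 v1 : F)
    (hD : h 0 1 * v1 ^ 2 + (h 0 0 - h 1 1) * v0 * v1 - h 1 0 * v0 ^ 2 ≠ 0) :
    ∃ (c : SL(2, F)) (a b : F), h = c * (x a * y b) * c⁻¹ := by
  set D := h 0 1 * v1 ^ 2 + (h 0 0 - h 1 1) * v0 * v1 - h 1 0 * v0 ^ 2 with e
  let c : SL(2, F) := ⟨!![(h 0 0 * v0 + h 0 1 * v1 - v0) / D, v0;
    (h 1 0 * v0 + h 1 1 * v1 - v1) / D, v1], by
      rw [Matrix.det_fin_two_of]; field_simp; rw [e]; ring⟩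
  have k : (c⁻¹ * h * c) 1 1 = 1 := by
    simp only [mul_apply', inv10, inv11]
    simp [c]
    field_simp
    rw [e]; ring
  refine ⟨c, (c⁻¹ * h * c) 0 1, (c⁻¹ * h * c) 1 0, ?_⟩
  have d := det' (c⁻¹ * h * c)
  have : c⁻¹ * h * c = x ((c⁻¹ * h * c) 0 1) * y ((c⁻¹ * h * c) 1 0) := by
    generalize c⁻¹ * h * c = g at *
    refine ext' ?_ ?_ ?_ ?_ <;> rw [mul_apply'] <;> simp [k]
    rw [k] at d; linear_combination d
  rw [← this]; group

theorem pr_x (c : SL(2, F)) {g : SL(2, F)} (hg : g 1 0 ≠ 0) {a b : F} (ha : a ≠ 0) (hb : b ≠ 0) :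
    Pr (upperUnipotentSL2 F) (c * (x a * (g * x b * g⁻¹)) * c⁻¹) := by
  refine ⟨c * x a * c⁻¹, c * (g * x b * g⁻¹) * c⁻¹, c, c * g, conj_mem_cj (x_mem a), ?_,
    by simpa [x_eq_one] using ha, by simpa [x_eq_one] using hb, fun k => ?_, by group⟩
  · rw [← cj_cj]; exact conj_mem_cj (conj_mem_cj (x_mem _))
  · rw [← cj_cj, cj_inj, eq_comm, ← mem_normalizer_iff_cj, norm_upper, mem_bor] at k
    exact hg k

theorem pr_xy (c : SL(2, F)) {a b : F} (ha : a ≠ 0) (hb : b ≠ 0) :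
    Pr (upperUnipotentSL2 F) (c * (x a * y b) * c⁻¹) := by
  have e : y b = w 1 * x (-b) * (w 1)⁻¹ := by rw [w_x one_ne_zero]; simp
  exact e ▸ pr_x c (by simp [coe_w (k := F) one_ne_zero]) ha (neg_ne_zero.2 hb)

theorem sq_xy {a b : F} (h : a * b = -2) : x a * y b * (x a * y b) = -1 := by
  refine ext' ?_ ?_ ?_ ?_ <;> simp only [mul_apply'] <;> simp
  · linear_combination (a * b + 1) * h
  · linear_combination a * h
  · linear_combination b * h
  · linear_combination h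

theorem good_sl [Finite F] [hp : Fact p.Prime] [CharP F p] : Good p (upperUnipotentSL2 F) := by
  refine ⟨fun z hz z1 g hg => ?_, fun h h1 h2 => ?_, fun V v1 v2 v3 v4 => ?_⟩
  · obtain ⟨t, rfl⟩ := mem_upper.1 hz
    rw [← cj_normalizer, mem_cj, norm_upper, mem_bor] at hg
    have := conj_x_entry g⁻¹ t
    rw [inv_inv, hg, eq_comm, neg_eq_zero, mul_eq_zero, pow_eq_zero_iff two_ne_zero] at this
    rw [norm_upper, ← inv_mem_iff]
    exact this.resolve_right fun k => z1 (x_eq_one.2 k)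
  · have key : ∀ v0 v1, h 0 1 * v1 ^ 2 + (h 0 0 - h 1 1) * v0 * v1 - h 1 0 * v0 ^ 2 ≠ 0 →
        Pr (upperUnipotentSL2 F) h := fun v0 v1 hD => by
      obtain ⟨c, a, b, rfl⟩ := exists_xy h v0 v1 hD
      have : (x a * y b) ^ p ≠ 1 := fun k => h2 ((Nat.prime_dvd_prime_iff_eq h1 hp.out).1
        (orderOf_dvd_of_pow_eq_one (by rw [conj_pow, k]; group)))
      refine pr_xy c ?_ ?_ <;> rintro rfl <;> simp [x_pow, y_pow] at this
    by_cases a : h 0 1 = 0
    swap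
    · exact .inl (key 0 1 (by simpa using a))
    by_cases b : h 1 0 = 0
    swap
    · exact .inl (key 1 0 (by simpa using b))
    by_cases c : h 0 0 = h 1 1
    swap
    · exact .inl (key 1 1 (by simpa [a, b, sub_eq_zero] using c))
    have d := det' h
    rw [a, ← c, zero_mul, sub_zero, mul_self_eq_one_iff] at d
    have d := d.resolve_left fun k => h1.ne_one (orderOf_eq_one_iff.2
      (ext' (by simp [k]) (by simp [a]) (by simp [b]) (by simp [← c, k])))
    have n2 : (2 : F) ≠ 0 := fun k => h1.ne_one (orderOf_eq_one_iff.2 (ext' (by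
      simp [d]; linear_combination -k) (by simp [a]) (by simp [b]) (by
      simp [← c, d]; linear_combination -k)))
    have e : h = -1 := ext' (by simp [d]) (by simp [a]) (by simp [b]) (by simp [← c, d])
    refine .inr ⟨x 1 * y (-2), x (-1) * y 2, ?_, ?_, ?_, ?_, ?_⟩
    · simpa using pr_xy 1 one_ne_zero (neg_ne_zero.2 n2)
    · simpa using pr_xy 1 (neg_ne_zero.2 one_ne_zero) n2
    · have := pr_x 1 (g := y (-2)) (neg_ne_zero.2 n2) one_ne_zero (neg_ne_zero.2 one_ne_zero)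
      rwa [one_mul, inv_one, mul_one, ← y_neg, neg_neg, mul_assoc, ← mul_assoc] at this
    · exact (sq_xy (by ring)).trans e.symm
    · exact (sq_xy (by ring)).trans e.symm
  · have key : ∀ v ∈ V, v = x (v 0 1) := fun v hv => by
      have b : v ∈ bor F := norm_upper (F := F) ▸ v3 hv
      have := bor_pow b p
      rw [v1.2 v hv] at this
      refine eq_x b (sub_eq_zero.1 (pow_eq_zero_iff hp.out.ne_zero |>.1 ?_))
      rw [sub_pow_char, ← this]; simp
    refine le_antisymm (fun v hv => mem_upper.2 ⟨_, key v hv⟩) fun u hu => ?_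
    obtain ⟨s, rfl⟩ := mem_upper.1 hu
    obtain ⟨⟨v, hv⟩, v0⟩ := (ne_bot_iff_exists_ne_one).1 v2
    have t0 : v 0 1 ≠ 0 := fun k => v0 (Subtype.ext ((key v hv).trans (x_eq_one.2 k)))
    have sq : ∀ d : F, x (d ^ 2 * v 0 1) ∈ V := fun d => by
      by_cases d0 : d = 0
      · simp [d0]
      rw [← H11.w_x_conj d0, ← key v hv]
      refine conj_mem_of_mem_normalizer (v4 ?_) hv
      rw [norm_upper, mem_bor, mul_apply', inv00, inv10]
      have e1 := coe_w d0
      have e2 := coe_w (k := F) one_ne_zero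
      simp [e1, e2]
    by_cases c : ringChar F = 2
    · obtain ⟨d, hd⟩ := FiniteField.isSquare_of_char_two c (s / v 0 1)
      convert sq d using 2
      rw [pow_two, ← hd]; field_simp
    · have n2 : (2 : F) ≠ 0 := Ring.two_ne_zero c
      have := mul_mem (sq ((s / v 0 1 + 1) / 2)) (inv_mem (sq ((s / v 0 1 - 1) / 2)))
      rw [← x_neg, ← x_add] at this
      convert this using 2
      field_simp; ring

end SL

section Two

theorem good_dih {r : ℕ} (hr : r.Prime) (h2 : r ≠ 2) {Z : Subgroup (DihedralGroup r)}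
    (hZ : IsElementaryAbelian 2 Z) (h0 : Z ≠ ⊥) : Good 2 Z := by
  haveI : NeZero r := ⟨hr.ne_zero⟩
  have card : ∀ V : Subgroup (DihedralGroup r), IsPGroup 2 V → V ≠ ⊥ → Nat.card V = 2 := fun V a b => by
    obtain ⟨k, hk⟩ := IsPGroup.iff_card.1 a
    have d := card_subgroup_dvd_card V
    rw [hk, DihedralGroup.nat_card] at d
    rcases k with _ | _ | k
    · exact (b (eq_bot_of_card_eq _ hk)).elim
    · simpa using hk
    · rw [pow_succ', Nat.mul_dvd_mul_iff_left two_pos] at d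
      exact (h2 ((Nat.prime_dvd_prime_iff_eq Nat.prime_two hr).1 ((dvd_pow_self 2 (by omega)).trans
        d)).symm).elim
  obtain ⟨S, hS, e⟩ := exists_isSylowIn_ge (ea_isPGroup hZ) le_top
  obtain rfl : Z = S := eq_of_le_of_card_le e (by
    rw [card _ hS.isPGroup (ne_bot_of_le_ne_bot h0 e), card _ (ea_isPGroup hZ) h0])
  have le : ∀ V W : Subgroup (DihedralGroup r), IsPGroup 2 W → V ≠ ⊥ → V ≤ W → V = W := fun V W a b c =>
    eq_of_le_of_card_le c (by rw [card _ a (ne_bot_of_le_ne_bot b c), card _ (a.to_le c) b])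
  have hc : ∀ t : DihedralGroup r, t * t = 1 → ∃ g, t ∈ cj g Z := fun t tt => by
    obtain ⟨g, -, k⟩ := hS.exists_le_conj (isPGroup_zpowers (k := 1) (by rwa [pow_one, sq])) le_top
    exact ⟨g, k (mem_zpowers t)⟩
  refine ⟨fun z hz z1 g hg => ?_, fun h h1 h3 => .inl ?_, fun V v1 v2 v3 _ =>
    le _ _ hS.isPGroup v2 (hS.le_of_le_normalizer (ea_isPGroup v1) le_top v3)⟩
  · have a := zpowers_le.2 hz
    have b := zpowers_ne_bot.2 z1
    rw [mem_normalizer_iff_cj, ← le _ _ (isPGroup_cj g hS.isPGroup) b ((hS.conj_of_mem trivial).le_of_le_normalizer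
      (hS.isPGroup.to_le a) le_top (zpowers_le.2 hg)), le _ _ hS.isPGroup b a]
  · rcases h with i | i
    · exact pr_of_inv hZ.1 hc h1 h3 (t := .sr 0) (by simp) (by simp)
    · exact (h3 (DihedralGroup.orderOf_sr i)).elim

open H23 H23.Sz in
theorem good_sz {F : Type*} [Field F] [Fintype F] [Tits F] [Model F X] {m : ℕ}
    (hF : Fintype.card F = 2 ^ (2 * m + 1)) : Good 2 (H23.Sz.Z F X) := by
  haveI := finite_G F X
  have hc : ∀ t : X, t * t = 1 → ∃ g, t ∈ cj g (H23.Sz.Z F X) := fun t tt =>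
    (exists_conj_mem_Z (F := F) tt).imp fun g k => mem_cj.2 k
  refine ⟨fun z hz z1 g hg => ?_, fun h h1 h3 => .inl ?_, fun V v1 v2 v3 v4 => ?_⟩
  · rw [← cj_normalizer, mem_cj, normalizer_Z] at hg
    rw [normalizer_Z, ← inv_mem_iff]
    exact mem_B_of_conj (Z_le_Q hz) z1 (by rwa [inv_inv])
  · have o := h1.odd_of_ne_two h3
    have n1 : h ≠ 1 := fun k => h1.ne_one (orderOf_eq_one_iff.2 k)
    have : 2 ∣ Nat.card (NC h) := by
      rcases m with _ | m
      · have c : Nat.card X = 20 := by rw [card_G F X, Nat.card_eq_fintype_card, hF]; norm_num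
        have c5 : Nat.card (centralizer ({h} : Set X)) = 5 := by
          have a := odd_card_cent F n1 o
          have b := c ▸ card_subgroup_dvd_card (centralizer ({h} : Set X))
          have d := (one_lt_card_iff_ne_bot _).2 ((ne_bot_iff_exists_ne_one).2
            ⟨(⟨h, mem_centralizer_singleton_iff.2 rfl⟩ : centralizer ({h} : Set X)), by simpa using n1⟩)
          have e := Nat.le_of_dvd (by norm_num) b
          generalize Nat.card (centralizer ({h} : Set X)) = n at *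
          interval_cases n <;> simp_all (decide := true)
        haveI := Fact.mk Nat.prime_five
        let P : Sylow 5 X := Sylow.ofCard (centralizer {h}) (by
          rw [c5, c, show 20 = 5 ^ 1 * 4 by norm_num, Nat.factorization_mul (by norm_num) (by norm_num)]
          simp [Nat.factorization_eq_zero_of_not_dvd, Nat.prime_five.factorization_self])
        have a := card_sylow_modEq_one 5 X
        have b := P.card_dvd_index
        have i : (P : Subgroup X).index = 4 := by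
          have := (P : Subgroup X).card_mul_index
          rw [c, show Nat.card (P : Subgroup X) = 5 from c5] at this
          omega
        rw [i] at b
        have e := Nat.le_of_dvd (by norm_num) b
        have : Nat.card (Sylow 5 X) = 1 := by
          generalize Nat.card (Sylow 5 X) = n at *
          interval_cases n <;> simp_all (decide := true)
        haveI := (Nat.card_eq_one_iff_unique.1 this).1
        rw [show NC h = ⊤ from normalizer_eq_top_iff.2 P.normal_of_subsingleton, card_top, c]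
        norm_num
      · haveI := big_of_card_eq (by omega) hF
        obtain ⟨n, -, a, b⟩ := card_NC (F := F) n1 o
        exact b ▸ Dvd.dvd.mul_left (by omega) _
    obtain ⟨⟨t, ht⟩, t2⟩ := exists_prime_orderOf_dvd_card' 2 this
    rw [orderOf_mk] at t2
    have tt : t * t = 1 := by rw [← sq, ← t2, pow_orderOf_eq_one]
    refine pr_of_inv ⟨⟨fun a b => Subtype.ext ?_⟩⟩ hc h1 h3 tt (inverts F n1 o ht
      (fun k => by simp [k] at t2) tt (mem_centralizer_singleton_iff.2 rfl))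
    obtain ⟨_, b, rfl⟩ := b
    obtain ⟨_, a, rfl⟩ := a
    exact T_commute.2 (.inl rfl)
  · rw [normalizer_Z] at v3 v4
    have le : V ≤ H23.Sz.Z F X := fun v hv => mem_Z_of_sq (v3 hv) (by rw [← sq]; exact v1.2 v hv)
    obtain ⟨⟨v, hv⟩, v0⟩ := (ne_bot_iff_exists_ne_one).1 v2
    obtain ⟨b, rfl⟩ := le hv
    exact le_antisymm le (Z_le_of (fun k x hx => conj_mem_of_mem_normalizer (v4 (M_mem_B k)) hx)
      (fun k => v0 (Subtype.ext (by simp [k]))) hv)

end Two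

end Good

variable {G X : Type*} [Group G] [Group X] {p : ℕ} {Y L : Subgroup G} {f : L →* X}

/-- the group-theoretic part of `L ∈ 𝔏_G(Y)` -/
structure Bas (p : ℕ) (Y L : Subgroup G) : Prop where
  ea : IsElementaryAbelian p Y
  gen : pCoreOf p L = nclIn (Y ⊓ pCoreOf p L) L
  AY : pCoreOf p L ≤ 𝐍 Y
  ncl : nclIn Y L = L
  um : UniqMax Y L (L ⊓ 𝐍 Y)

/-- the image of `Y` in `L / O_p(L)` -/
abbrev bar (f : L →* X) (Y : Subgroup G) : Subgroup X := (Y.subgroupOf L).map f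

namespace Bas

variable (h : Bas p Y L) {g k a u v : G}
include h

theorem YL : Y ≤ L := h.um.le_L

theorem not_le : ¬ Y ≤ pCoreOf p L := fun e => h.um.not_le_normalizer h.ncl (by
  have : pCoreOf p L = L := le_antisymm (pCoreOf_le _ _) (h.ncl.ge.trans
    (nclIn_le e (le_normalizer_pCoreOf _ _)))
  exact this.ge.trans h.AY)

theorem AY' (hg : g ∈ L) : pCoreOf p L ≤ 𝐍 (cj g Y) := by
  rw [← cj_normalizer, ← cj_eq_self (le_normalizer_pCoreOf p L hg)]; exact cj_mono g h.AY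

theorem YY (g : G) : cj g Y ≤ 𝐂 (cj g Y) := by
  rw [← cj_centralizer]; exact cj_mono g (le_centralizer_iff_isMulCommutative.2 h.ea.1)

theorem sup (hg : g ∈ L) (hk : k ∈ L) (ne : cj g Y ≠ cj k Y) : cj g Y ⊔ cj k Y = L := by
  have := h.um.sup_cj h.ncl (mul_mem (inv_mem hg) hk) fun e => ne (by
    rw [cj_eq_iff, cj_cj, cj_eq_self e.2])
  rw [← cj_eq_self_of_mem hg, ← this, cj_sup, cj_cj, mul_inv_cancel_left]

omit h in
theorem C_le (hg : g ∈ L) : Y ⊓ 𝐂 L ≤ cj g Y := fun x hx => by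
  rw [mem_cj, mul_assoc, ← hx.2 g hg, inv_mul_cancel_left]; exact hx.1

omit h in
theorem nC : L ≤ 𝐍 (Y ⊓ 𝐂 L) := (le_centralizer_iff.1 inf_le_right).trans (centralizer_le_normalizer _)

theorem inf_le (hg : g ∈ L) (hk : k ∈ L) (ne : cj g Y ≠ cj k Y) : cj g Y ⊓ cj k Y ≤ Y ⊓ 𝐂 L := by
  have : cj g Y ⊓ cj k Y ≤ 𝐂 L := by
    rw [← h.sup hg hk ne, le_centralizer_iff]
    exact sup_le ((h.YY g).trans (centralizer_le inf_le_left))
      ((h.YY k).trans (centralizer_le inf_le_right))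
  refine le_inf (fun x hx => ?_) this
  have := mem_cj.1 hx.1
  rwa [mul_assoc, ← ‹cj g Y ⊓ cj k Y ≤ 𝐂 L› hx g hg, inv_mul_cancel_left] at this

theorem split (hg : g ∈ L) (hk : k ∈ L) (ne : cj g Y ≠ cj k Y) (ha : a ∈ pCoreOf p L) :
    ∃ y ∈ cj g Y ⊓ pCoreOf p L, ∃ z ∈ cj k Y ⊓ pCoreOf p L, y * z = a := by
  set A := pCoreOf p L
  have nA : L ≤ 𝐍 A := le_normalizer_pCoreOf _ _
  have c : ∀ {g}, g ∈ L → ⁅A, cj g Y⁆ ≤ cj g Y ⊓ A := fun hg => le_inf
    (commutator_le_of_le_normalizer' (h.AY' hg))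
    (commutator_le_of_le_normalizer ((cj_le_of_mem h.YL hg).trans nA))
  have n : ∀ {g}, g ∈ L → A ≤ 𝐍 (cj g Y ⊓ A) := fun hg => le_normalizer_inf (h.AY' hg) le_normalizer
  have DA : cj g Y ⊓ A ⊔ cj k Y ⊓ A ≤ A := sup_le inf_le_right inf_le_right
  have nD : L ≤ 𝐍 (cj g Y ⊓ A ⊔ cj k Y ⊓ A) := by
    nth_rw 1 [← h.sup hg hk ne]
    exact sup_le (le_normalizer_of_commutator_le ((c hg).trans le_sup_left) DA)
      (le_normalizer_of_commutator_le ((c hk).trans le_sup_right) DA)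
  refine (mem_sup_of_le_normalizer (inf_le_right.trans (n hk))).1 (nclIn_le ?_ nD (h.gen.le ha))
  rw [← cj_le_cj (g := g), cj_eq_self (nD hg), cj_inf, cj_eq_self (nA hg)]
  exact le_sup_left

theorem exists_ne (hg : g ∈ L) : ∃ k ∈ L, cj g Y ≠ cj k Y := by
  obtain ⟨k, hk, e⟩ := SetLike.not_le_iff_exists.1 (h.um.not_le_normalizer h.ncl)
  exact ⟨g * k, mul_mem hg hk, fun c => e (by
    rw [← cj_cj, cj_inj] at c; exact mem_normalizer_iff_cj.2 c.symm)⟩

omit h in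
/-- the elements of `L` fixing `a` modulo `C_Y(L)` -/
def Fx (Y L : Subgroup G) (a : G) : Subgroup G where
  carrier := {x | x ∈ L ∧ x * a * x⁻¹ * a⁻¹ ∈ Y ⊓ 𝐂 L}
  one_mem' := ⟨one_mem _, by simp⟩
  mul_mem' := fun {x y} hx hy => ⟨mul_mem hx.1 hy.1, by
    convert mul_mem (conj_mem_of_mem_normalizer (nC hx.1) hy.2) hx.2 using 1; group⟩
  inv_mem' := fun {x} hx => ⟨inv_mem hx.1, by
    convert conj_mem_of_mem_normalizer' (nC hx.1) (inv_mem hx.2) using 1; group⟩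

theorem A_le (ha : a ∈ pCoreOf p L) : pCoreOf p L ≤ Fx Y L a := fun b hb => by
  refine ⟨pCoreOf_le _ _ hb, ?_⟩
  obtain ⟨k, hk, ne⟩ := h.exists_ne (one_mem L)
  have n : pCoreOf p L ≤ 𝐍 (Y ⊓ 𝐂 L) := (pCoreOf_le _ _).trans nC
  have e : ∀ {g k}, g ∈ L → k ∈ L → ⁅cj g Y ⊓ pCoreOf p L, cj k Y ⊓ pCoreOf p L⁆ ≤ Y ⊓ 𝐂 L :=
    fun {g k} hg hk => by
      by_cases c : cj g Y = cj k Y
      · rw [c, commutator_eq_bot_iff.2 (inf_le_left.trans ((h.YY k).trans (centralizer_le inf_le_left)))]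
        exact bot_le
      refine le_trans (le_inf ?_ ?_) (h.inf_le hg hk c)
      · exact (commutator_mono inf_le_left inf_le_right).trans
          (commutator_le_of_le_normalizer (h.AY' hg))
      · exact (commutator_mono inf_le_right inf_le_left).trans
          (commutator_le_of_le_normalizer' (h.AY' hk))
  have s : pCoreOf p L ≤ cj 1 Y ⊓ pCoreOf p L ⊔ cj k Y ⊓ pCoreOf p L := fun x hx => by
    obtain ⟨y, hy, z, hz, rfl⟩ := h.split (one_mem L) hk ne hx
    exact mul_mem_sup hy hz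
  have m := (inf_le_right (a := cj 1 Y)).trans n
  have m' := (inf_le_right (a := cj k Y)).trans n
  exact H1.commutator_sup_le m m' (H1.commutator_sup_le' m m' (e (one_mem _) (one_mem _))
    (e (one_mem _) hk)) (H1.commutator_sup_le' m m' (e hk (one_mem _)) (e hk hk))
    (commutator_mem_commutator (s hb) (s ha))

variable (hk : f.ker = pCore p L)
include hk

omit h in
theorem eq_one_iff {x : L} : f x = 1 ↔ (x : G) ∈ pCoreOf p L := by
  rw [← MonoidHom.mem_ker, hk, ← pCoreOf_subgroupOf, mem_subgroupOf]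

omit h hk in
theorem cj_bar (g : L) : cj (f g) (bar f Y) = bar f (cj g Y) := by
  ext x
  constructor
  · rintro ⟨_, ⟨y, hy, rfl⟩, rfl⟩
    exact ⟨g * y * g⁻¹, conj_mem_cj hy, by simp⟩
  · rintro ⟨y, hy, rfl⟩
    exact mem_cj.2 ⟨g⁻¹ * y * g, mem_cj (G := G).1 (mem_subgroupOf.1 hy), by simp⟩

theorem mem_norm {g : L} : f g ∈ 𝐍 (bar f Y) ↔ (g : G) ∈ 𝐍 Y := by
  rw [mem_normalizer_iff_cj, cj_bar]
  refine ⟨fun e => (h.um.mem_of_cj_le h.ncl g.2 fun y hy => ?_).2, fun e => by rw [cj_eq_self e]⟩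
  have yL := cj_le_of_mem h.YL g.2 hy
  obtain ⟨z, hz, e'⟩ := e.le ⟨⟨y, yL⟩, hy, rfl⟩
  have : (z : G)⁻¹ * y ∈ pCoreOf p L := (eq_one_iff hk (x := z⁻¹ * ⟨y, yL⟩)).1 (by simp [e'])
  rw [← mul_inv_cancel_left (z : G) y]
  exact ⟨mul_mem z.2 (pCoreOf_le _ _ this), mul_mem (le_normalizer hz) (h.AY this)⟩

theorem cj_eq {g k : L} : cj (f g) (bar f Y) = cj (f k) (bar f Y) ↔ cj (g : G) Y = cj (k : G) Y := by
  rw [cj_eq_iff, cj_cj, eq_comm, ← mem_normalizer_iff_cj, ← map_inv, ← map_mul, h.mem_norm hk,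
    cj_eq_iff, cj_cj, eq_comm, ← mem_normalizer_iff_cj]; rfl

variable (gd : Good p (bar f Y))
include gd

theorem root (hg : g ∈ L) (hu : u ∈ cj g Y) (uA : u ∉ pCoreOf p L) (ha : a ∈ pCoreOf p L)
    (fx : u ∈ Fx Y L a) : a ∈ cj g Y := by
  obtain ⟨k, kL, ne⟩ := h.exists_ne hg
  obtain ⟨y, hy, z, hz, rfl⟩ := h.split hg kL ne ha
  have c : u * z * u⁻¹ * z⁻¹ ∈ Y ⊓ 𝐂 L := by
    convert conj_mem_of_mem_normalizer' (nC (pCoreOf_le _ _ hy.2)) fx.2 using 1
    rw [← mul_assoc u, ← h.YY g hu y hy.1]; group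
  have ne' : cj k Y ≠ cj (u * k) Y := fun e => ne ((h.cj_eq hk (g := ⟨g, hg⟩) (k := ⟨k, kL⟩)).1
    (gd.ti' (z := f ⟨u, fx.1⟩) (by rw [cj_bar]; exact ⟨_, hu, rfl⟩)
      (fun e => uA ((eq_one_iff hk).1 e)) (by
        rw [mem_normalizer_iff_cj, cj_cj, ← map_mul]; exact (h.cj_eq hk).2 e.symm)))
  have := h.inf_le kL (mul_mem fx.1 kL) ne' (x := u * z * u⁻¹) ⟨by
    rw [← inv_mul_cancel_right (u * z * u⁻¹) z]; exact mul_mem (C_le kL c) hz.1, by
    rw [← cj_cj]; exact conj_mem_cj hz.1⟩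
  refine mul_mem hy.1 (C_le hg ?_)
  convert conj_mem_of_mem_normalizer' (nC fx.1) this using 1; group

variable (hs : Function.Surjective f)
include hs

theorem of_pr {x : L} (hx : Pr (bar f Y) (f x)) (ha : a ∈ pCoreOf p L) (fx : (x : G) ∈ Fx Y L a) :
    a ∈ Y ⊓ 𝐂 L := by
  obtain ⟨u, v, g, k, hu, hv, u1, v1, ne, e⟩ := hx
  obtain ⟨g, rfl⟩ := hs g
  obtain ⟨k, rfl⟩ := hs k
  rw [cj_bar] at hu hv
  obtain ⟨u, hu, rfl⟩ := hu
  obtain ⟨v, hv, rfl⟩ := hv
  have ne := fun e => ne ((h.cj_eq hk).2 e)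
  replace hu : (u : G) ∈ cj (g : G) Y := hu
  replace hv : (v : G) ∈ cj (k : G) Y := hv
  have uv : (u : G) * v ∈ Fx Y L a := by
    have := h.A_le ha ((eq_one_iff hk (x := x⁻¹ * (u * v))).1 (by simp [e]))
    rw [← mul_inv_cancel_left (x : G) (u * v)]
    exact mul_mem fx this
  have fv : (v : G) ∈ Fx Y L a := ⟨v.2, h.inf_le g.2 k.2 ne ⟨by
    have h1 := C_le g.2 (conj_mem_of_mem_normalizer' (nC u.2) uv.2)
    have h2 := mul_mem (inv_mem hu) (conj_mem_of_mem_normalizer (h.AY' g.2 ha) hu)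
    have := mul_mem h1 h2
    rwa [show _ * _ = (v : G) * a * (v : G)⁻¹ * a⁻¹ by group] at this, by
    rw [mul_assoc, mul_assoc]
    exact mul_mem hv (by
      rw [← mul_assoc]; exact conj_mem_of_mem_normalizer (h.AY' k.2 ha) (inv_mem hv))⟩⟩
  exact h.inf_le g.2 k.2 ne ⟨h.root hk gd g.2 hu (fun e => u1 ((eq_one_iff hk).2 e)) ha
    ((mul_mem_cancel_right fv).1 uv), h.root hk gd k.2 hv (fun e => v1 ((eq_one_iff hk).2 e)) ha fv⟩

theorem fpf [Finite G] [hp : Fact p.Prime] (hnp : ¬ ∃ n, orderOf g = p ^ n) (ha : a ∈ pCoreOf p L)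
    (fx : g ∈ Fx Y L a) : a ∈ Y ⊓ 𝐂 L := by
  obtain ⟨s, s1, s2, s3⟩ : ∃ s, s.Prime ∧ s ∣ orderOf g ∧ s ≠ p := by
    by_contra! c
    exact hnp ⟨_, Nat.eq_prime_pow_of_unique_prime_dvd (orderOf_pos g).ne' fun {s} => c s⟩
  let x : L := ⟨g ^ (orderOf g / s), pow_mem fx.1 _⟩
  have fx' : (x : G) ∈ Fx Y L a := pow_mem fx _
  have ox : orderOf x = s := by
    rw [← orderOf_coe]; exact orderOf_pow_orderOf_div (orderOf_pos g).ne' s2
  have o : orderOf (f x) = s := ((Nat.dvd_prime s1).1 (ox ▸ orderOf_map_dvd f x)).resolve_left fun e => by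
    obtain ⟨n, hn⟩ := isPGroup_pCore p L ⟨x, hk ▸ orderOf_eq_one_iff.1 e⟩
    exact s3 ((Nat.prime_dvd_prime_iff_eq s1 hp.out).1 (s1.dvd_of_dvd_pow
      (ox ▸ orderOf_dvd_of_pow_eq_one (congrArg Subtype.val hn))))
  rcases gd.fac _ (o ▸ s1) (o ▸ s3) with c | ⟨k, l, c1, c2, c3, c4, c5⟩
  · exact h.of_pr hk gd hs c ha fx'
  obtain ⟨k, rfl⟩ := hs k
  obtain ⟨l, rfl⟩ := hs l
  have key : ∀ k : L, Pr (bar f Y) (f k) → f k * f k = f x → a * (k * a * (k : G)⁻¹) ∈ Y ⊓ 𝐂 L :=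
    fun k c e => by
      have kk : (k : G) * k ∈ Fx Y L a := by
        have := h.A_le ha ((eq_one_iff hk (x := x⁻¹ * (k * k))).1 (by simp [e]))
        rw [← mul_inv_cancel_left (x : G) (k * k)]
        exact mul_mem fx' this
      have kA := conj_mem_of_mem_normalizer (le_normalizer_pCoreOf p L k.2) ha
      refine h.of_pr hk gd hs c (mul_mem ha kA) ⟨k.2, ?_⟩
      convert mul_mem (conj_mem_of_mem_normalizer (nC (pCoreOf_le _ _ kA)) kk.2) (h.A_le ha kA).2
        using 1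
      group
  refine h.of_pr hk gd hs (x := k * l) (by rwa [map_mul]) ha ⟨(k * l).2, ?_⟩
  have aL := pCoreOf_le _ _ ha
  convert mul_mem (conj_mem_of_mem_normalizer (nC (mul_mem k.2 (inv_mem aL))) (key l c2 c5))
    (inv_mem (key k c1 c4)) using 1
  rw [coe_mul]; group

theorem unique {N : Subgroup G} (hN : N = L ⊓ 𝐍 Y) [((pCoreOf p L).subgroupOf N).Normal]
    (V : Subgroup (N ⧸ (pCoreOf p L).subgroupOf N)) [V.Normal] (h1 : IsElementaryAbelian p V)
    (h2 : V ≠ ⊥) : V = (Y.subgroupOf N).map (QuotientGroup.mk' _) := by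
  have NL : N ≤ L := hN ▸ inf_le_left
  let g := f.comp (inclusion NL)
  have gk : (pCoreOf p L).subgroupOf N = g.ker := by
    ext x; exact (eq_one_iff hk (x := inclusion NL x)).symm
  let ι := QuotientGroup.lift _ g gk.le
  have hι : Function.Injective ι := (QuotientGroup.injective_lift_iff _ _ _).2 gk
  have r : ι.range = 𝐍 (bar f Y) := by
    refine le_antisymm ?_ fun x hx => ?_
    · rintro _ ⟨⟨x⟩, rfl⟩
      exact (h.mem_norm hk).2 (hN.le x.2).2
    · obtain ⟨x, rfl⟩ := hs x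
      exact ⟨QuotientGroup.mk ⟨x, hN.ge ⟨x.2, (h.mem_norm hk).1 hx⟩⟩, rfl⟩
  refine map_injective hι ((gd.uniq _ (ea_map h1 _) (fun e => h2 ((map_eq_bot_iff_of_injective _ hι).1 e))
    (r ▸ map_le_range _ _) (by
      rw [← r, MonoidHom.range_eq_map]
      exact (map_mono le_normalizer_of_normal).trans (le_normalizer_map ι))).trans ?_)
  ext x
  constructor
  · rintro ⟨y, hy, rfl⟩
    exact ⟨_, ⟨⟨y, hN.ge ⟨y.2, le_normalizer hy⟩⟩, hy, rfl⟩, rfl⟩
  · rintro ⟨_, ⟨y, hy, rfl⟩, rfl⟩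
    exact ⟨inclusion NL y, hy, rfl⟩

end Bas

theorem of_frakL [Finite G] [hp : Fact p.Prime] {M : Subgroup G}
    (hY : IsElementaryAbelian p (largestPReducedOf p M)) (h : IsInFrakL p M L) :
    Bas p (largestPReducedOf p M) L ∧ ∃ (X : Type) (_ : Group X) (f : L →* X),
      f.ker = pCore p L ∧ Good p (bar f (largestPReducedOf p M)) ∧ Function.Surjective f := by
  obtain ⟨h1, h2, h3, h4, -, h6, h7⟩ := h
  set Y := largestPReducedOf p M
  have b : Bas p Y L := ⟨hY, h2.trans (map_normalClosure_subgroupOf (inf_le_left.trans h1)), h3,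
    ((isMinimalOver_subgroupOf h1).1 h4).1, le_inf h1 le_normalizer, h6.1, h6.2⟩
  refine ⟨b, ?_⟩
  have mk : ∀ {X : Type} [Group X] (e : L ⧸ pCore p L ≃* X), ∃ f : L →* X, f.ker = pCore p L ∧
      Function.Surjective f := fun e => ⟨e.toMonoidHom.comp (QuotientGroup.mk' _), by
    rw [← MonoidHom.comap_ker, (MonoidHom.ker_eq_bot_iff _).2 e.injective, MonoidHom.comap_bot,
      QuotientGroup.ker_mk'], e.surjective.comp (QuotientGroup.mk'_surjective _)⟩
  have ea : ∀ {X : Type} [Group X] (f : L →* X), IsElementaryAbelian p (bar f Y) := fun f =>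
    ea_map ((ea_subgroupOf_iff h1).2 hY) f
  have cd : ∀ {X : Type} [Group X] {f : L →* X}, f.ker = pCore p L →
      Nat.card (bar f Y) = (Y ⊓ pCoreOf p L).relIndex Y := fun {X} _ f hk => by
    have := relIndex_comap (⊥ : Subgroup X) f (Y.subgroupOf L)
    rw [MonoidHom.comap_bot, relIndex_bot_left, hk, ← pCoreOf_subgroupOf, relIndex_subgroupOf h1] at this
    rw [← this, inf_relIndex_left]
  have ne : ∀ {X : Type} [Group X] {f : L →* X}, f.ker = pCore p L → bar f Y ≠ ⊥ := fun hk e =>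
    b.not_le fun y hy => (Bas.eq_one_iff hk (x := ⟨y, h1 hy⟩)).1 (e.le ⟨_, hy, rfl⟩)
  have cn : ∀ {X : Type} [Group X] {f : L →* X} {Z : Subgroup X} (c : X), f.ker = pCore p L →
      Function.Surjective f → cj c (bar f Y) = Z → Good p Z → ∃ (X : Type) (_ : Group X) (f : L →* X),
      f.ker = pCore p L ∧ Good p (bar f Y) ∧ Function.Surjective f := fun {X} _ f Z c a b e g =>
    ⟨X, _, (MulAut.conj c).toMonoidHom.comp f, by
      rw [← MonoidHom.comap_ker, (MonoidHom.ker_eq_bot_iff _).2 (conj_injective' c), MonoidHom.comap_bot, a],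
      by rwa [bar, ← map_map, show map _ (map f _) = Z from e], (conj_surjective' c).comp b⟩
  rcases h7 with ⟨F, _, _, hF, ⟨e⟩⟩ | ⟨rfl, F, _, _, m, hm, hF, ⟨e⟩⟩ | ⟨rfl, r, hr, h2, ⟨e⟩⟩
  · obtain ⟨f, hk, hs⟩ := mk e
    obtain ⟨n, hn⟩ := IsPGroup.iff_card.1 (ea_isPGroup (ea f))
    haveI : CharP F p := charP_of_card (hF.trans ((cd hk).symm.trans hn))
    obtain ⟨c, -, hc⟩ := (H29.PU.sylow_upper (F := F)).exists_conj_le (ea_isPGroup (ea f)) le_top
    exact cn c hk hs (eq_of_le_of_card_le hc (by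
      rw [card_cj, cd hk, ← hF, H11.card_upper, Nat.card_eq_fintype_card])) good_sl
  · obtain ⟨f, hk, hs⟩ := mk e
    letI := H23.Sz.titsOfCard hm
    letI := H23.Sz.lieModel hm
    haveI := H23.Sz.finite_G F (Lie.Sz F (2 ^ (m + 1)))
    obtain ⟨⟨t, ht⟩, t0⟩ := (ne_bot_iff_exists_ne_one).1 (ne hk)
    have sq : ∀ x ∈ bar f Y, x * x = 1 := fun x hx => by rw [← sq]; exact (ea f).2 x hx
    obtain ⟨c, hc⟩ := H23.Sz.exists_conj_mem_Z (F := F) (sq t ht)
    refine cn c⁻¹ hk hs (eq_of_le_of_card_le ?_ (by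
      rw [card_cj, cd hk, ← hF, H23.Sz.card_Z, Nat.card_eq_fintype_card])) (good_sz hm)
    intro x hx
    have ea' := ea_cj (ea f) c⁻¹
    refine H23.Sz.mem_Z_of_sq (H23.Sz.Q_le_B (H23.Sz.centralizer_le_Q (H23.Sz.Z_le_Q hc)
      (H23.Sz.conj_ne_one (by simpa using t0)) (mem_centralizer_singleton_iff.2
        (ea_le_centralizer ea' (by simpa [mem_cj, mul_assoc] using ht) x hx))))
      (by rw [← pow_two]; exact ea'.2 x hx)
  · obtain ⟨f, hk, hs⟩ := mk e
    exact ⟨_, _, f, hk, good_dih hr h2 (ea f) (ne hk), hs⟩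

end H28.FL
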