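import Cfsg.Agent.H3.LB3

/-! Class numbers of solvable groups: abelian subgroups of small index in linear groups. -/

set_option autoImplicit false
set_option linter.unusedSectionVars false

open Subgroup H6.BS H3.KL H3.LB MulAction

namespace H28.KF

universe u

theorem imp3 {G V : Type u} [Group G] [Finite G] [AddCommGroup V] [Finite V]
    [DistribMulAction G V] (hi : Irr G V) (h : ∃ ε : Module.End ℤ V, Sys G ε) :
    ∃ (H : Subgroup G) (X : Type u) (_ : AddCommGroup X) (_ : Finite X)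
      (_ : DistribMulAction H X), IsCoatom H ∧ Nontrivial X ∧ Irr H X ∧
      Nat.card V = Nat.card X ^ H.index ∧
      (∀ z : G, (orderOf z).Prime → (∀ v : V, z • v = v → v = 0) →
        ∃ h : z ∈ H, ∀ x : X, (⟨z, h⟩ : H) • x = x → x = 0) ∧
      ∀ g : G, (∀ m : G ⧸ H, ∃ h : m.out⁻¹ * g * m.out ∈ H, ∀ x : X, (⟨_, h⟩ : H) • x = x) →
        ∀ v : V, g • v = v := by
  classical
  obtain ⟨ε, hε, hH⟩ := exists_max_sys hi h
  set H := stab G ε with hHdef
  let M := G ⧸ H
  let pt : M → G := Quotient.out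
  have hinj : ∀ m m', (pt m)⁻¹ * pt m' ∈ H → m = m' := fun m m' e => by
    rw [← QuotientGroup.out_eq' m, ← QuotientGroup.out_eq' m']; exact QuotientGroup.eq.2 e
  let X : AddSubgroup V := (LinearMap.range ε).toAddSubgroup
  have hX : Inv H V X := by
    rintro g _ ⟨v, rfl⟩
    exact ⟨(g : G) • v, by rw [Subgroup.smul_def, ← cg_smul, g.2]⟩
  let _ := subAct X hX
  have hεX : ∀ x : X, ε x = x := by
    rintro ⟨_, v, rfl⟩
    exact LinearMap.congr_fun hε.1 v
  have hout : ∀ g ∉ H, ∀ y : X, ε (g • (y : V)) = 0 := fun g hg y => by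
    have h1 : cg (1 : G) ε * cg g ε = 0 :=
      hε.orth fun e' => hg (by simpa using cg_eq_iff.1 e')
    have h2 := LinearMap.congr_fun h1 (g • (y : V))
    rwa [Module.End.mul_apply, cg_smul, hεX, cg_one] at h2
  have _ : Fintype M := Fintype.ofFinite M
  have hproj : ∀ m m' (x : X), cg (pt m) ε (pt m' • (x : V)) = if m = m' then pt m' • (x : V) else 0 := by
    intro m m' x
    split_ifs with e
    · rw [e, cg_smul, hεX]
    · have : cg (pt m) ε * cg (pt m') ε = 0 := hε.orth fun e' => e (hinj _ _ (cg_eq_iff.1 e'))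
      have h2 := LinearMap.congr_fun this (pt m' • (x : V))
      rwa [Module.End.mul_apply, cg_smul, hεX] at h2
  let Φ : (M → X) → V := fun w => ∑ m, pt m • (w m : V)
  have hΦ : ∀ w m, cg (pt m) ε (Φ w) = pt m • (w m : V) := by
    intro w m
    simp only [Φ, map_sum, hproj]
    exact (Finset.sum_eq_single m (fun _ _ e => if_neg e.symm) (by simp)).trans (if_pos rfl)
  have hsum : ∀ v : V, ∑ m, cg (pt m) ε v = v := by
    intro v
    have h1 : ∑ m, cg (pt m) ε = ∑ η ∈ orb ε (⊤ : Subgroup G), η := by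
      refine Finset.sum_bij (fun m _ => cg (pt m) ε) (fun m _ => mem_orb.2 ⟨_, trivial, rfl⟩)
        (fun a _ b _ e => hinj _ _ (cg_eq_iff.1 e)) ?_ (fun _ _ => rfl)
      intro η hη
      obtain ⟨g, -, rfl⟩ := mem_orb.1 hη
      exact ⟨(g : G ⧸ H), Finset.mem_univ _, cg_eq_iff.2 (QuotientGroup.eq.1 (QuotientGroup.out_eq' _))⟩
    rw [← LinearMap.sum_apply, h1, hε.sum_top hi, Module.End.one_apply]
  have hsurj : ∀ v, ∃ w, Φ w = v := fun v =>
    ⟨fun m => ⟨ε ((pt m)⁻¹ • v), _, rfl⟩, hsum v⟩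
  have hnt : Nontrivial X := by
    refine (AddSubgroup.nontrivial_iff_ne_bot X).2 fun e => hε.2.1 (LinearMap.ext fun v => ?_)
    have : ε v ∈ X := ⟨v, rfl⟩
    rw [e] at this
    exact this
  refine ⟨H, X, inferInstance, inferInstance, inferInstance, hH, hnt, ?_, ?_, ?_, ?_⟩
  · intro Y hY
    let Z : AddSubgroup V :=
      { carrier := {v | ∀ g : G, ∃ y ∈ Y, (y : V) = ε (g • v)}
        zero_mem' := fun g => ⟨0, Y.zero_mem, by simp⟩
        add_mem' := fun {a b} ha hb g => by
          obtain ⟨y, hy, e⟩ := ha g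
          obtain ⟨y', hy', e'⟩ := hb g
          exact ⟨y + y', Y.add_mem hy hy', by simp [e, e']⟩
        neg_mem' := fun {a} ha g => by
          obtain ⟨y, hy, e⟩ := ha g
          exact ⟨-y, Y.neg_mem hy, by simp [e]⟩ }
    rcases hi Z (fun g v hv g' => by simpa [mul_smul] using hv (g' * g)) with e | e
    · left
      rw [eq_bot_iff]
      intro y hy
      have : (y : V) ∈ Z := by
        intro g
        by_cases hg : g ∈ H
        · exact ⟨(⟨g, hg⟩ : H) • y, hY _ y hy, (hεX ((⟨g, hg⟩ : H) • y)).symm⟩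
        · exact ⟨0, Y.zero_mem, (hout g hg y).symm⟩
      rw [e] at this
      exact AddSubgroup.mem_bot.2 (Subtype.ext this)
    · right
      rw [eq_top_iff]
      intro x _
      obtain ⟨y, hy, e'⟩ := (e ▸ trivial : (x : V) ∈ Z) 1
      rw [one_smul, hεX] at e'
      exact Subtype.ext e' ▸ hy
  · rw [index_eq_card, ← Nat.card_fun]
    refine (Nat.card_eq_of_bijective Φ ⟨fun w w' e => funext fun m => ?_, hsurj⟩).symm
    have := hΦ w m
    rw [e, hΦ] at this
    exact Subtype.ext (MulAction.injective _ this).symm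
  · intro z hp hz
    refine ⟨?_, fun x e => Subtype.ext (hz _ (congrArg Subtype.val e))⟩
    by_contra hzH
    obtain ⟨x, hx⟩ := exists_ne (0 : X)
    obtain ⟨n, hn⟩ : ∃ n, orderOf z = n + 1 := ⟨orderOf z - 1, by have := hp.pos; omega⟩
    have h1 : z • ∑ j ∈ Finset.range (n + 1), z ^ j • (x : V) =
        ∑ j ∈ Finset.range (n + 1), z ^ j • (x : V) := by
      rw [Finset.smul_sum, Finset.sum_range_succ, Finset.sum_range_succ']
      simp only [smul_smul, ← pow_succ']
      rw [← hn, pow_orderOf_eq_one, pow_zero]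
    have h2 := congrArg ε (hz _ h1)
    rw [map_sum, map_zero, Finset.sum_range_succ', Finset.sum_eq_zero, pow_zero, one_smul, hεX,
      zero_add] at h2
    · exact hx (Subtype.ext h2)
    intro j hj
    refine hout _ (fun e => hzH ?_) x
    have h3 : (j + 1).Coprime (orderOf z) := ((Nat.coprime_of_lt_prime (by omega)
      (by have := Finset.mem_range.1 hj; omega) hp)).symm
    obtain ⟨i, hi⟩ := exists_pow_eq_self_of_coprime h3
    exact hi ▸ pow_mem e i
  · intro g hg v
    obtain ⟨w, rfl⟩ := hsurj v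
    simp only [Φ, Finset.smul_sum]
    refine Finset.sum_congr rfl fun m _ => ?_
    obtain ⟨h1, h2⟩ := hg m
    have : ((pt m)⁻¹ * g * pt m) • (w m : V) = w m := congrArg Subtype.val (h2 (w m))
    rwa [mul_smul, mul_smul, inv_smul_eq_iff] at this

/-- the conclusion of the abelian subgroup lemma -/
def AB (G V : Type*) [Group G] (p : ℕ) (z : G) : Prop :=
  2 ^ (centralizer ({z} : Set G)).index ≤ Nat.card V ∧
  ∃ (B : Subgroup G) (n : ℕ), B ≤ centralizer {z} ∧ (∀ a ∈ B, ∀ b ∈ B, a * b = b * a) ∧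
    (p + 1) ^ n ≤ Nat.card V ∧ 3 * B.relIndex (centralizer {z}) ≤ 7 ^ n

theorem tabK : ∀ e < 17, 2 ≤ e → e ≠ 3 → 3 * (e ^ 2 * T 1 (e ^ 2)) ≤ 2 * 7 ^ e := by decide

theorem pow8 {m : ℕ} (h : 17 ≤ m) : 3 * m ^ 8 ≤ 7 ^ m := by
  induction m, h using Nat.le_induction with
  | base => norm_num
  | succ m h ih =>
    have h2 : (10 * (m + 1)) ^ 8 ≤ (11 * m) ^ 8 := Nat.pow_le_pow_left (by omega) 8
    rw [mul_pow, mul_pow] at h2
    rw [pow_succ 7]; omega

theorem le_pow7 {f e : ℕ} (hf : 1 ≤ f) (he : 1 ≤ e) : f * 7 ^ e ≤ 7 ^ (f * e) := by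
  obtain ⟨g, rfl⟩ := Nat.exists_eq_add_of_le hf
  rw [add_mul 1 g e, one_mul, pow_add, mul_comm]
  refine Nat.mul_le_mul_left _ (le_trans ?_ (Nat.pow_le_pow_right (by norm_num)
    (Nat.le_mul_of_pos_right g he)))
  have := Nat.lt_pow_self (n := g) (show 1 < 7 by norm_num)
  omega

variable {G V K W : Type u} [Group G] [Finite G] [AddCommGroup V] [Finite V] [Nontrivial V]
  [DistribMulAction G V] [FaithfulSMul G V] [Field K] [Finite K] [Module K V] [AddCommGroup W]
  [Finite W] [DistribMulAction G W] {U A E : Subgroup G} {sc : G → Kˣ} {σ : G →* RingAut K}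
  {π : G → W} [Group.IsSolvable G]

theorem mem_U (h : Prim (V := V) U A E sc σ π) {z : G} (hp : (orderOf z).Prime)
    (hn : (zpowers z).Normal) : z ∈ U := by
  have key : ∀ L : Subgroup G, z ∉ L → ∀ y ∈ zpowers z, y ∈ L → y = 1 := fun L hL y hy e => by
    by_contra y1
    have := Fact.mk hp
    have h1 := mem_zpowers_of_prime_card (G := zpowers z) (Nat.card_zpowers z) (g := ⟨y, hy⟩)
      (fun e => y1 (congrArg Subtype.val e)) (g' := ⟨z, mem_zpowers z⟩)
    obtain ⟨j, hj⟩ := h1
    have h2 : y ^ j = z := congrArg Subtype.val hj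
    exact hL (h2 ▸ zpow_mem e j)
  have cm : ∀ x, z * x * z⁻¹ * x⁻¹ ∈ zpowers z := fun x => by
    have := mul_mem (mem_zpowers z) (hn.conj_mem _ (inv_mem (mem_zpowers z)) x)
    simpa [mul_assoc] using this
  by_contra hz
  have hA : z ∈ A := h.cent z fun x hx => by
    have := key U hz _ (cm x) (mul_mem (h.nU.conj_mem x hx z) (inv_mem hx))
    rwa [mul_inv_eq_one, mul_inv_eq_iff_eq_mul] at this
  refine hz (h.centE z hA fun x hx => ?_)
  have : z * x * z⁻¹ * x⁻¹ = 1 := by
    by_cases hE : z ∈ E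
    · exact key U hz _ (cm x) (h.comm_U hE hx)
    · exact key E hE _ (cm x) (h.comm_mem z hx)
  rwa [mul_inv_eq_one, mul_inv_eq_iff_eq_mul] at this

theorem ab_prim (h : Prim (V := V) U A E sc σ π) {z : G} (hp : (orderOf z).Prime)
    (hn : (zpowers z).Normal) : AB G V (orderOf z) z := by
  have hz := mem_U h hp hn
  set C := centralizer ({z} : Set G) with hC
  have hAC : A ≤ C := fun g hg => mem_centralizer_singleton_iff.2 (h.comm hg hz)
  obtain ⟨e, he⟩ := h.form.card_sq
  obtain ⟨e1, e2⟩ := h.e_le (he.trans (pow_two e))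
  have : Module.Finite K V := Module.Finite.of_finite
  have h7 := Module.natCard_eq_pow_finrank (K := K) (V := V)
  have hQ : ∀ j ≤ Module.finrank K V, Nat.card K ^ j ≤ Nat.card V := fun j hj =>
    h7 ▸ Nat.pow_le_pow_right Nat.card_pos hj
  refine ⟨?_, ?_⟩
  · obtain ⟨q, hq, h3⟩ := h.artin
    refine le_trans ?_ (hQ 1 (e1.trans e2))
    rw [pow_one, h3]
    exact (Nat.pow_le_pow_right (by norm_num) (index_antitone hAC)).trans
      (Nat.pow_le_pow_left hq _)
  let S := C.map σ
  have : Finite S := Finite.of_surjective _ (σ.subgroupMap_surjective C)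
  have _ := Fintype.ofFinite S
  have hS : A.relIndex C = Nat.card S := by rw [h.hA, relIndex_ker]
  have hK : Nat.card K = Nat.card (FixedPoints.subfield S K) ^ Nat.card S := by
    rw [Module.natCard_eq_pow_finrank (K := FixedPoints.subfield S K),
      FixedPoints.finrank_eq_card, Nat.card_eq_fintype_card (α := S)]
  have hfix : (sc z : K) ∈ FixedPoints.subfield S K := by
    rintro ⟨_, g, hg, rfl⟩
    refine smul_inj (V := V) fun v => ?_
    obtain ⟨w, rfl⟩ := MulAction.surjective g v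
    change σ g (sc z) • g • w = _
    rw [← h.hσ, ← h.hsc z hz, ← h.hsc z hz, smul_smul, smul_smul,
      mem_centralizer_singleton_iff.1 hg]
  have hq : orderOf z + 1 ≤ Nat.card (FixedPoints.subfield S K) := by
    have _ := Fintype.ofFinite (FixedPoints.subfield S K)
    have h1 : (⟨_, hfix⟩ : FixedPoints.subfield S K) ≠ 0 := fun e =>
      (sc z).ne_zero (congrArg Subtype.val e)
    have h2 := congrArg Subtype.val (FiniteField.pow_card_sub_one_eq_one _ h1)
    have h3 : sc z ^ (Fintype.card (FixedPoints.subfield S K) - 1) = 1 := Units.ext (by simpa using h2)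
    have h4 := orderOf_dvd_of_pow_eq_one h3
    rw [show sc z = h.scHom ⟨z, hz⟩ from rfl, orderOf_injective _ h.scHom_inj, orderOf_mk] at h4
    have h5 : 1 < Fintype.card (FixedPoints.subfield S K) := Fintype.one_lt_card
    have := Nat.le_of_dvd (by omega) h4
    rw [Nat.card_eq_fintype_card]; omega
  have hf : 1 ≤ Nat.card S := Nat.card_pos
  have hn' : (orderOf z + 1) ^ (Nat.card S * e) ≤ Nat.card V := by
    rw [pow_mul]
    exact (Nat.pow_le_pow_left (hK ▸ Nat.pow_le_pow_left hq _) e).trans (hQ e e2)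
  have ha := card_bar_le (G := G) (W := W) (A := A)
  have hCc : Nat.card C = Nat.card S * (e ^ 2 * Nat.card (A.map (toImg G W))) * Nat.card U := by
    rw [← (A.subgroupOf C).index_mul_card, ← relIndex, hS,
      Nat.card_congr (subgroupOfEquivOfLe hAC).toEquiv, h.card_A, he]; ring
  have hBc : ∀ B ≤ C, B.relIndex C * Nat.card B = Nat.card C := fun B hB => by
    rw [← (B.subgroupOf C).index_mul_card, ← relIndex,
      Nat.card_congr (subgroupOfEquivOfLe hB).toEquiv]
  have hu0 : 0 < Nat.card U := Nat.card_pos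
  have h8 := le_pow7 hf e1
  rcases e1.eq_or_lt with rfl | h2
  · refine ⟨U, _, h.UE.trans (h.EA.trans hAC), fun a ha b hb => h.comm (h.EA (h.UE ha)) hb, hn', ?_⟩
    have h1 : Nat.card (A.map (toImg G W)) ≤ 1 :=
      ha.trans (table (c := 1) (N := 1) (by simp) he (by norm_num) (by simp) h.cr)
    have h2 := hBc U (h.UE.trans (h.EA.trans hAC))
    rw [hCc] at h2
    have h3 := Nat.eq_of_mul_eq_mul_right hu0 h2
    rw [h3]
    nlinarith
  have : Nontrivial W := Finite.one_lt_card_iff_nontrivial.1 (by nlinarith)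
  obtain ⟨w, hw⟩ := exists_ne (0 : W)
  obtain ⟨x, hx, rfl⟩ := h.π_surj w
  have hxU : x ∉ U := fun e => hw ((h.π_zero x hx).2 e)
  have hB : U ⊔ zpowers x ≤ A := sup_le (h.UE.trans h.EA) (zpowers_le.2 (h.EA hx))
  have := h.nU
  refine ⟨U ⊔ zpowers x, _, hB.trans hAC, fun a ha b hb => ?_, hn', ?_⟩
  · obtain ⟨c, hc, _, ⟨i, rfl⟩, rfl⟩ := mem_sup_of_normal_left.1 ha
    obtain ⟨d, hd, _, ⟨j, rfl⟩, rfl⟩ := mem_sup_of_normal_left.1 hb
    have hxA := h.EA hx
    simp only
    rw [mul_assoc, ← mul_assoc _ d, h.comm (zpow_mem hxA i) hd, mul_assoc, mul_assoc,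
      ← mul_assoc _ c, h.comm (zpow_mem hxA j) hc, mul_assoc, ← mul_assoc c, ← mul_assoc d,
      h.comm (h.EA (h.UE hc)) hd, zpow_mul_comm]
  have h3 : 2 * Nat.card U ≤ Nat.card ↥(U ⊔ zpowers x) := by
    rw [← (U.subgroupOf (U ⊔ zpowers x)).index_mul_card,
      Nat.card_congr (subgroupOfEquivOfLe le_sup_left).toEquiv]
    refine Nat.mul_le_mul_right _ (two_le_index fun e => hxU ?_)
    exact subgroupOf_eq_top.1 e (mem_sup_right (mem_zpowers x))
  have h4 := hBc _ (hB.trans hAC)
  rw [hCc] at h4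
  have h5 : (U ⊔ zpowers x).relIndex C * 2 ≤ Nat.card S * (e ^ 2 * Nat.card (A.map (toImg G W))) :=
    Nat.le_of_mul_le_mul_right (by rw [← h4, mul_assoc]; exact Nat.mul_le_mul_left _ h3) hu0
  have h6 : 3 * (e ^ 2 * Nat.card (A.map (toImg G W))) ≤ 2 * 7 ^ e := by
    by_cases h9 : e = 3
    · subst h9
      have : Nat.card (A.map (toImg G W)) ≤ 24 := sp3 h.form (fun r => by
        obtain ⟨_, g, hg, rfl⟩ := r
        exact h.pres hg) (fun w => h.cr.sqf 3 w (by
          rw [← mul_nsmul', ← card_nsmul_eq_zero' (x := w), he, pow_two])) he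
      omega
    rcases lt_or_ge e 17 with h17 | h17
    · have := Nat.mul_le_mul_left (e ^ 2) (ha.trans (table (c := 1) (by simp) he
        (Nat.pow_le_pow_left (by omega : e ≤ 16) 2) (by simp) h.cr))
      have := tabK e h17 h2 h9
      omega
    · have h2 := five_ord h.cr
      have h3 : e ^ 2 * Nat.card (A.map (toImg G W)) ≤ e ^ 8 := by
        rw [show e ^ 8 = e ^ 2 * (e ^ 2) ^ 3 by ring, ← he]
        exact Nat.mul_le_mul_left _ (by omega)
      have := pow8 h17
      omega
  nlinarith [Nat.mul_le_mul_left (Nat.card S) h6]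

end H28.KF
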