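import Cfsg.Agent.H28.KF1

/-! Class numbers of solvable groups with a non-normal Sylow subgroup of prime order. -/

set_option autoImplicit false
set_option linter.unusedSectionVars false

open Subgroup H6.BS H3.KL H3.LB MulAction Cfsg

namespace H28.KF

universe u

theorem ord_map {G H : Type*} [Group G] [Group H] (f : G →* H) {z : G} (hp : (orderOf z).Prime)
    (h : f z ≠ 1) : orderOf (f z) = orderOf z :=
  ((Nat.dvd_prime hp).1 (orderOf_map_dvd f z)).resolve_left fun e => h (orderOf_eq_one_iff.1 e)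

theorem zp_map {G H : Type*} [Group G] [Group H] {f : G →* H} (hf : Function.Surjective f) {z : G}
    (hn : (zpowers z).Normal) : (zpowers (f z)).Normal := by
  rw [← MonoidHom.map_zpowers]; exact hn.map f hf

theorem fpf {G V : Type u} [Group G] [AddCommGroup V] [DistribMulAction G V] [FaithfulSMul G V]
    (hi : Irr G V) {z : G} (h1 : z ≠ 1) (hn : (zpowers z).Normal) (v : V) (hv : z • v = v) :
    v = 0 := by
  let X : AddSubgroup V :=
    { carrier := {v | z • v = v}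
      zero_mem' := smul_zero z
      add_mem' := fun {a b} ha hb => by
        change z • (a + b) = a + b
        rw [smul_add, ha, hb]
      neg_mem' := fun {a} ha => by
        change z • (-a) = -a
        rw [smul_neg, ha] }
  rcases hi X (fun g w hw => by
    have h2 : g⁻¹ * z * g ∈ stabilizer G w :=
      (zpowers_le.2 (hw : z ∈ stabilizer G w)) (by simpa using hn.conj_mem z (mem_zpowers z) g⁻¹)
    change z • g • w = g • w
    have h3 : (g⁻¹ * z * g) • w = w := h2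
    rwa [mul_smul, mul_smul, inv_smul_eq_iff] at h3) with e | e
  · exact AddSubgroup.mem_bot.1 (e ▸ (hv : v ∈ X))
  · exact absurd (eq_one_of_triv (V := V) fun w => (e ▸ AddSubgroup.mem_top w : w ∈ X)) h1

theorem ab (N : ℕ) : ∀ (G V : Type u) [Group G] [Finite G] [Group.IsSolvable G] [AddCommGroup V]
    [Finite V] [DistribMulAction G V] [FaithfulSMul G V] [Nontrivial V], Irr G V →
    Nat.card V = N → ∀ z : G, (orderOf z).Prime → (zpowers z).Normal → AB G V (orderOf z) z := by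
  classical
  induction N using Nat.strong_induction_on with
  | _ N ih =>
  intro G V _ _ _ _ _ _ _ _ hi hV z hp hn
  by_cases h : ∃ ε : Module.End ℤ V, Sys G ε
  swap
  · obtain ⟨K, W, _, _, _, _, _, _, U, A, E, sc, σ, π, h⟩ := exists_prim hi h
    exact ab_prim h hp hn
  obtain ⟨H, X, _, _, _, hH, _, h1, h2, h3, h4⟩ := imp3 hi h
  have ht := two_le_index hH.1
  have z1 : z ≠ 1 := fun e => hp.one_lt.ne' (orderOf_eq_one_iff.2 e)
  have hf := fpf hi z1 hn
  obtain ⟨hz, hzX⟩ := h3 z hp hf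
  set C := centralizer ({z} : Set G) with hC
  have hCn : ∀ y, ∀ g ∈ C, y⁻¹ * g * y ∈ C := fun y g hg => by
    obtain ⟨j, hj⟩ := hn.conj_mem z (mem_zpowers z) y
    have h5 : g * z ^ j = z ^ j * g :=
      (Commute.zpow_right (mem_centralizer_singleton_iff.1 hg) j).eq
    simp only at hj
    rw [hj] at h5
    rw [mem_centralizer_singleton_iff]
    calc _ = y⁻¹ * (g * (y * z * y⁻¹)) * y := by group
      _ = _ := by rw [h5]; group
  let zH : H := ⟨z, hz⟩
  have hoH : orderOf zH = orderOf z := orderOf_mk _ _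
  have hnH : (zpowers zH).Normal := ⟨fun a ha g => by
    obtain ⟨j, rfl⟩ := ha
    obtain ⟨i, hi⟩ := hn.conj_mem _ (zpow_mem (mem_zpowers z) j) g
    exact ⟨i, Subtype.ext (by simpa using hi)⟩⟩
  have hz0 : toImg H X zH ≠ 1 := fun e => by
    obtain ⟨x, hx⟩ := exists_ne (0 : X)
    exact hx (hzX x (by rw [← toImg_smul, e, one_smul]))
  have ho : orderOf (toImg H X zH) = orderOf z := (ord_map _ (hoH ▸ hp) hz0).trans hoH
  have := img_solvable (G := H) (V := X)
  have hX1 : 1 < Nat.card X := Finite.one_lt_card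
  obtain ⟨a1, B, n, b1, b2, b3, b4⟩ := ih (Nat.card X) (by
    rw [← hV, h2]
    exact lt_self_pow₀ hX1 ht) (Img H X) X h1.img rfl _ (ho ▸ hp) (zp_map (toImg_surj H X) hnH)
  set C0 := centralizer ({toImg H X zH} : Set (Img H X)) with hC0
  refine ⟨?_, ?_⟩
  · have h5 : C0.comap (toImg H X) ≤ C.subgroupOf H := fun g hg => by
      obtain ⟨j, hj⟩ := hnH.conj_mem zH (mem_zpowers _) g
      simp only at hj
      have h6 : toImg H X zH ^ j = toImg H X zH ^ (1 : ℤ) := by
        rw [← map_zpow, hj, map_mul, map_mul, mem_centralizer_singleton_iff.1 (mem_comap.1 hg),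
          map_inv, mul_inv_cancel_right, zpow_one]
      rw [zpow_eq_zpow_iff_modEq, ho, ← hoH, ← zpow_eq_zpow_iff_modEq, hj, zpow_one,
        mul_inv_eq_iff_eq_mul] at h6
      exact mem_centralizer_singleton_iff.2 (congrArg Subtype.val h6)
    have h6 : C.index ≤ C0.index * H.index := by
      refine (index_antitone (inf_le_left : C ⊓ H ≤ C)).trans ?_
      rw [← relIndex_mul_index (inf_le_right : C ⊓ H ≤ H), inf_relIndex_right,
        ← index_comap_of_surjective _ (toImg_surj H X)]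
      exact Nat.mul_le_mul_right _ (index_antitone h5)
    rw [h2]
    exact (Nat.pow_le_pow_right (by norm_num) h6).trans (pow_mul 2 _ _ ▸ Nat.pow_le_pow_left a1 _)
  let L := C ⊓ H.normalCore
  have hL : ∀ y, ∀ g : L, y⁻¹ * (g : G) * y ∈ H := fun y g => by simpa using g.2.2 y⁻¹
  let φ : G ⧸ H → L →* Img H X := fun m => (toImg H X).comp
    { toFun := fun g => ⟨m.out⁻¹ * (g : G) * m.out, hL _ g⟩
      map_one' := Subtype.ext (by simp)
      map_mul' := fun a b => Subtype.ext (by simp [mul_assoc]) }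
  have _ : Fintype (G ⧸ H) := Fintype.ofFinite _
  let B' : Subgroup L := ⨅ m, B.comap (φ m)
  refine ⟨B'.map L.subtype, n * H.index, (map_subtype_le _).trans inf_le_left, ?_, ?_, ?_⟩
  · rintro _ ⟨a, ha, rfl⟩ _ ⟨b, hb, rfl⟩
    rw [← mul_inv_eq_iff_eq_mul, ← mul_inv_eq_one]
    refine eq_one_of_triv (V := V) (h4 _ fun m => ⟨hL _ (a * b * a⁻¹ * b⁻¹), fun x => ?_⟩)
    have : φ m (a * b * a⁻¹ * b⁻¹) = 1 := by
      rw [map_mul, map_mul, map_mul, b2 _ (mem_iInf.1 ha m) _ (mem_iInf.1 hb m), map_inv, map_inv]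
      group
    rw [← toImg_smul]
    exact (congrArg (· • x) this).trans (one_smul _ x)
  · rw [h2, pow_mul, ← ho]
    exact Nat.pow_le_pow_left b3 _
  have h5 : (B'.map L.subtype).relIndex L ≤ B.relIndex C0 ^ H.index := by
    rw [relIndex, subgroupOf, comap_map_eq_self_of_injective L.subtype_injective]
    refine (index_iInf_le _).trans ((Finset.prod_le_pow_card _ _ (B.relIndex C0) fun m _ => ?_).trans_eq ?_)
    · rw [index_comap]
      refine relIndex_le_of_le_right ?_ index_ne_zero_of_finite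
      rintro _ ⟨g, rfl⟩
      rw [mem_centralizer_singleton_iff]
      exact (map_mul _ _ _).symm.trans ((congrArg _ (Subtype.ext
        (mem_centralizer_singleton_iff.1 (hCn _ _ g.2.1)))).trans (map_mul _ _ _))
    · rw [Finset.card_univ, ← Nat.card_eq_fintype_card]; rfl
  have h6 : L.relIndex C ≤ 3 ^ (H.index - 1) := by
    rw [inf_relIndex_left]
    refine (relIndex_le_of_le_right le_top ?_).trans ?_ <;> rw [relIndex_top_right]
    · exact index_ne_zero_of_finite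
    · exact (core_index hH).1
  rw [← relIndex_mul_relIndex _ L C (map_subtype_le _) inf_le_left, pow_mul]
  refine le_trans ?_ (Nat.pow_le_pow_left b4 _)
  obtain ⟨t, ht'⟩ : ∃ t, H.index = t + 1 := ⟨H.index - 1, by omega⟩
  rw [ht'] at h5 h6 ⊢
  rw [Nat.add_sub_cancel] at h6
  calc _ ≤ 3 * (B.relIndex C0 ^ (t + 1) * 3 ^ t) := Nat.mul_le_mul_left _ (Nat.mul_le_mul h5 h6)
    _ = _ := by ring

theorem tabJ : ∀ j < 12, 1 ≤ j → 2 ^ (j + 1) + 2 ≤ 36 * j ^ 2 := by decide

theorem numN {p N : ℕ} (hp : 4096 ≤ p) (h : 3 ≤ N) : 49 ^ N * N ^ 2 * p ^ 2 ≤ 320 * p ^ N := by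
  induction N, h using Nat.le_induction with
  | base => nlinarith [Nat.mul_le_mul_right (p ^ 2) hp]
  | succ m h ih =>
    have h2 : (m + 1) ^ 2 ≤ 2 * m ^ 2 := by nlinarith
    calc _ = 49 * (m + 1) ^ 2 * (49 ^ m * p ^ 2) := by ring
      _ ≤ p * m ^ 2 * (49 ^ m * p ^ 2) := Nat.mul_le_mul_right _ (by nlinarith)
      _ = p * (49 ^ m * m ^ 2 * p ^ 2) := by ring
      _ ≤ _ := (Nat.mul_le_mul_left _ ih).trans_eq (by ring)

theorem mono2 {x y : ℝ} (hy : 3 ≤ y) (h : y ≤ x) : (2 : ℝ) ^ y * x ^ 2 ≤ 2 ^ x * y ^ 2 := by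
  have h1 : x ≤ 2 ^ ((x - y) / 2) * y := by
    have h2 := Real.add_one_le_exp (Real.log 2 * ((x - y) / 2))
    rw [← Real.rpow_def_of_pos (by norm_num)] at h2
    have h3 := Real.log_two_gt_d9
    nlinarith [mul_le_mul_of_nonneg_right h2 (by linarith : 0 ≤ y),
      mul_nonneg (sub_nonneg.2 h) (by nlinarith : 0 ≤ Real.log 2 * y - 2)]
  have h2 : x ^ 2 ≤ (2 ^ ((x - y) / 2) * y) ^ 2 := pow_le_pow_left₀ (by linarith) h1 2
  have h3 : (2 : ℝ) ^ x = 2 ^ y * (2 ^ ((x - y) / 2)) ^ 2 := by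
    rw [← Real.rpow_natCast, ← Real.rpow_mul (by norm_num), ← Real.rpow_add (by norm_num)]
    congr 1; push_cast; ring
  rw [h3, mul_assoc, ← mul_pow]
  exact mul_le_mul_of_nonneg_left h2 (by positivity)

theorem num {p κ ν m i n v : ℕ} (hp : 2 ≤ p) (h1 : p ≤ κ * m) (h2 : 4 * (p - 1) ≤ κ ^ 2)
    (h3 : 3 * i ≤ 7 ^ n) (h4 : (p + 1) ^ n ≤ v) (h5 : 2 ^ m ≤ v) (h6 : v - 1 ≤ ν * κ * (i * m) ^ 2) :
    (p : ℝ) / (3 * Real.logb 2 p) ≤ (κ + ν : ℕ) := by
  have hp' : (2 : ℝ) ≤ p := by exact_mod_cast hp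
  set L := Real.logb 2 p with hL
  have hL1 : ∀ j : ℕ, 2 ^ j ≤ p → (j : ℝ) ≤ L := fun j hj =>
    (Real.le_logb_iff_rpow_le (by norm_num) (by linarith)).2 (by exact_mod_cast hj)
  have hL0 : 1 ≤ L := by simpa using hL1 1 (by simpa using hp)
  have hpL : (2 : ℝ) ^ L = p := Real.rpow_logb (by norm_num) (by norm_num) (by linarith)
  rw [div_le_iff₀ (by linarith)]
  have hκ : (0 : ℝ) ≤ κ := Nat.cast_nonneg _
  have hν : (0 : ℝ) ≤ ν := Nat.cast_nonneg _
  rcases le_or_gt (m : ℝ) (3 * L) with hm | hm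
  · have : (p : ℝ) ≤ κ * m := by exact_mod_cast h1
    push_cast
    nlinarith
  refine le_of_sq_le_sq ?_ (by positivity)
  rcases lt_or_ge p 4096 with hs | hs
  · have h7 := Nat.pow_log_le_self 2 (by omega : p ≠ 0)
    have h8 := Nat.lt_pow_succ_log_self (by norm_num : 1 < 2) p
    have h9 := tabJ (Nat.log 2 p) (Nat.log_lt_of_lt_pow (by omega) hs)
      (Nat.log_pos (by norm_num) hp)
    have h10 := hL1 _ h7
    generalize Nat.log 2 p = j at *
    obtain ⟨q, rfl⟩ : ∃ q, p = q + 1 := ⟨p - 1, by omega⟩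
    have h11 : (q + 1) ^ 2 ≤ 9 * j ^ 2 * κ ^ 2 := by
      rw [Nat.add_sub_cancel] at h2
      rw [Nat.succ_eq_add_one] at h8
      nlinarith [Nat.mul_le_mul_left (9 * j ^ 2) h2, Nat.mul_le_mul_right q h9]
    have h12 : ((q + 1 : ℕ) : ℝ) ^ 2 ≤ 9 * j ^ 2 * κ ^ 2 := by exact_mod_cast h11
    refine h12.trans ?_
    rw [show (9 : ℝ) * j ^ 2 * κ ^ 2 = (κ * (3 * j)) ^ 2 by ring]
    push_cast
    gcongr
    linarith
  have hv : 100 ≤ v := by
    have h12 := hL1 12 hs
    have : 7 ≤ m := by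
      have : (7 : ℝ) ≤ m := by push_cast at h12; linarith
      exact_mod_cast this
    exact le_trans (by norm_num) ((Nat.pow_le_pow_right (by norm_num) this).trans h5)
  have hv' : (0 : ℝ) < v := by exact_mod_cast (by omega : 0 < v)
  set x := Real.logb 2 v with hx
  have hvx : (2 : ℝ) ^ x = v := Real.rpow_logb (by norm_num) (by norm_num) hv'
  have hmx : (m : ℝ) ≤ x :=
    (Real.le_logb_iff_rpow_le (by norm_num) hv').2 (by exact_mod_cast h5)
  have hN : ∀ N : ℕ, (2 : ℝ) ^ (N * L) = p ^ N := fun N => by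
    rw [mul_comm, Real.rpow_mul (by norm_num), hpL, Real.rpow_natCast]
  obtain ⟨N, hN3, hNn, hNx⟩ : ∃ N : ℕ, 3 ≤ N ∧ n ≤ N ∧ N * L ≤ x := by
    rcases le_total n 3 with h | h
    · exact ⟨3, le_rfl, h, by push_cast; linarith⟩
    · refine ⟨n, h, le_rfl, (Real.le_logb_iff_rpow_le (by norm_num) hv').2 ?_⟩
      rw [hN]
      exact_mod_cast (Nat.pow_le_pow_left (Nat.le_succ p) n).trans h4
  have hN3' : (3 : ℝ) ≤ N := by exact_mod_cast hN3
  have a1 := mono2 (by nlinarith : 3 ≤ N * L) hNx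
  rw [hN, hvx] at a1
  have hm0 : (0 : ℝ) < m := by linarith
  have a2 : (p : ℝ) ^ N * m ^ 2 ≤ v * (N * L) ^ 2 :=
    le_trans (by gcongr) a1
  have a3 : 320 * v * 9 ≤ 81 * ((κ + ν) ^ 2 * (49 ^ N * m ^ 2)) := by
    have b1 := four_mul_le ν κ
    have b2 : 9 * i ^ 2 ≤ 49 ^ N := by
      have := Nat.pow_le_pow_left (h3.trans (Nat.pow_le_pow_right (by norm_num) hNn)) 2
      rwa [mul_pow, ← pow_mul, mul_comm N, pow_mul] at this
    have b3 : 320 * v ≤ 81 * (4 * (v - 1)) := by omega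
    calc _ ≤ 81 * (4 * (ν * κ * (i * m) ^ 2)) * 9 := by omega
      _ = 81 * (4 * (ν * κ) * (9 * i ^ 2 * m ^ 2)) := by ring
      _ ≤ _ := by rw [add_comm κ]; gcongr
  have a4 : (320 : ℝ) * v * 9 ≤ 81 * (((κ + ν : ℕ) : ℝ) ^ 2 * (49 ^ N * m ^ 2)) := by
    exact_mod_cast a3
  have a5 : (49 : ℝ) ^ N * N ^ 2 * p ^ 2 ≤ 320 * p ^ N := by exact_mod_cast numN hs hN3
  generalize ((κ + ν : ℕ) : ℝ) = s at *
  have hpos : (0 : ℝ) < 49 ^ N * N ^ 2 * m ^ 2 := by positivity
  refine le_of_mul_le_mul_left ?_ hpos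
  calc _ = 49 ^ N * N ^ 2 * p ^ 2 * (m : ℝ) ^ 2 := by ring
    _ ≤ 320 * p ^ N * m ^ 2 := by gcongr
    _ ≤ 320 * (v * (N * L) ^ 2) := by linarith
    _ = 320 * v * 9 * ((N * L) ^ 2 / 9) := by ring
    _ ≤ 81 * (s ^ 2 * (49 ^ N * m ^ 2)) * ((N * L) ^ 2 / 9) := by gcongr
    _ = _ := by ring

theorem core {G V : Type u} [Group G] [Finite G] [Group.IsSolvable G] [AddCommGroup V]
    [Finite V] [DistribMulAction G V] [FaithfulSMul G V] [Nontrivial V] (hi : Irr G V) {z : G}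
    (hp : (orderOf z).Prime) (hn : (zpowers z).Normal) :
    (orderOf z : ℝ) / (3 * Real.logb 2 (orderOf z)) ≤ (k G + nu G V : ℕ) := by
  obtain ⟨a1, B, n, b1, b2, b3, b4⟩ := ab _ G V hi rfl z hp hn
  refine num hp.two_le ?_ ?_ b4 b3 a1 ?_
  · rw [← Nat.card_zpowers]
    refine card_le_k fun g hg x ⟨j, hj⟩ => ?_
    rw [← hj]
    exact (Commute.zpow_right (mem_centralizer_singleton_iff.1 hg) j).eq
  · have hc : Nat.card (Ad (zpowers z)) = orderOf z := Ad.card.trans (Nat.card_zpowers z)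
    have h3 := card_le_k (X := Img G (Ad (zpowers z))) (U := ⊤) (A := ⊤) fun a _ b _ =>
      FaithfulSMul.eq_of_smul_eq_smul (α := Ad (zpowers z)) fun x => by
        rw [mul_smul, mul_smul, comm_of_prime (hc ▸ hp)]
    have h4 := card_le_nu (G := Img G (Ad (zpowers z))) (V := Ad (zpowers z))
    rw [index_top, mul_one, card_top] at h3
    rw [hc, nu_img] at h4
    have h5 := k_add_nu (zpowers z)
    have h6 := four_mul_le (k (Img G (Ad (zpowers z)))) (nu G (Ad (zpowers z)))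
    have h7 := Nat.pow_le_pow_left h5 2
    nlinarith [Nat.mul_le_mul_left (nu G (Ad (zpowers z))) h3]
  · have h1 := card_le_k b2
    have h2 := card_le_nu (G := G) (V := V)
    rw [← B.index_mul_card] at h2
    rw [relIndex_mul_index b1]
    nlinarith [Nat.mul_le_mul_left (nu G V * B.index) h1]

theorem main {p : ℕ} (hp : p.Prime) (n : ℕ) : ∀ (G : Type u) [Group G] [Finite G]
    [Group.IsSolvable G], Nat.card G = n → ¬ p ^ 2 ∣ n → ∀ z : G, orderOf z = p →
    ¬ (zpowers z).Normal → (p : ℝ) / (3 * Real.logb 2 p) ≤ k G := by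
  induction n using Nat.strong_induction_on with
  | _ n ih =>
  intro G _ _ _ hG hd z hz hn
  have h1 : (⊤ : Subgroup G) ≠ ⊥ := fun e => hn (by
    rw [le_bot_iff.1 (e ▸ le_top : zpowers z ≤ ⊥)]; infer_instance)
  obtain ⟨V, _, -, hV0, hmin⟩ := exists_min_normal h1
  obtain ⟨_, r, hr, hV⟩ := H1.elementary_of_minimal_normal V hV0 inferInstance hmin
  have := Fact.mk hr
  obtain ⟨s, hs⟩ := (H1.isPGroup_of_pow_eq_one hV).exists_card_eq
  have hV1 := V.one_lt_card_iff_ne_bot.2 hV0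
  have hzV : (z : G ⧸ V) ≠ 1 := fun e => by
    have e := (QuotientGroup.eq_one_iff _).1 e
    obtain rfl : p = r := (Nat.prime_dvd_prime_iff_eq hp hr).1 (hz ▸ orderOf_dvd_of_pow_eq_one (hV z e))
    have h2 : s ≤ 1 := not_lt.1 fun h => hd
      ((pow_dvd_pow p h).trans (hs ▸ hG ▸ card_subgroup_dvd_card V))
    have h3 : zpowers z = V := eq_of_le_of_card_ge (zpowers_le.2 e) (by
      rw [hs, Nat.card_zpowers, hz]
      exact (Nat.pow_le_pow_right hp.pos h2).trans_eq (pow_one _))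
    exact hn (h3 ▸ ‹_›)
  have ho : orderOf (z : G ⧸ V) = p := (ord_map (QuotientGroup.mk' V) (hz ▸ hp) hzV).trans hz
  by_cases h2 : (zpowers (z : G ⧸ V)).Normal
  swap
  · refine (ih V.index ?_ (G ⧸ V) rfl (fun e => hd (e.trans (hG ▸ V.index_dvd_card))) _ ho h2).trans
      (Nat.cast_le.2 (k_surj _ (QuotientGroup.mk'_surjective V)))
    rw [← hG, ← V.index_mul_card]
    exact lt_mul_of_one_lt_right (Nat.pos_of_ne_zero index_ne_zero_of_finite) hV1
  have hrp : r ≠ p := by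
    rintro rfl
    refine hd ?_
    rw [← hG, ← V.index_mul_card, pow_two, hs]
    refine mul_dvd_mul (ho ▸ orderOf_dvd_natCard (z : G ⧸ V)) (dvd_pow_self _ ?_)
    rintro rfl
    simp [hs] at hV1
  have h3 : ∀ g, ∃ j : ℤ, ∃ v ∈ V, g * z * g⁻¹ = z ^ j * v := fun g => by
    obtain ⟨j, hj⟩ := h2.conj_mem _ (mem_zpowers _) (g : G ⧸ V)
    exact ⟨j, _, QuotientGroup.eq.1 (hj : ((z ^ j : G) : G ⧸ V) = (g * z * g⁻¹ : G)), by group⟩
  have h4 : ∀ x ∈ V, toImg G (Ad V) x = 1 := fun x hx => eq_one_of_triv (V := Ad V) fun y =>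
    Ad.ext (by
      rw [toImg_smul, Ad.val_smul, setLike_mul_comm (s := V) hx y.val_mem, mul_inv_cancel_right])
  have h5 : toImg G (Ad V) z ≠ 1 := fun e => hn ⟨by
    rintro _ ⟨i, rfl⟩ g
    obtain ⟨j, v, hv, hj⟩ := h3 g
    have h6 : Commute z v := by
      have := congrArg Ad.val (toImg_smul z (Ad.mk v hv))
      rw [e, one_smul, Ad.val_smul, Ad.val_mk, eq_mul_inv_iff_mul_eq] at this
      exact this.symm
    have h7 : v ^ p = 1 := by
      have := congrArg (· ^ p) hj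
      simp only [conj_pow] at this
      rwa [(h6.zpow_left j).mul_pow, ← zpow_natCast (z ^ j), ← zpow_mul, mul_comm j, zpow_mul,
        zpow_natCast, ← hz, pow_orderOf_eq_one, one_zpow, mul_one, mul_inv_cancel, one_mul,
        eq_comm, hz] at this
    have h8 : v = 1 := orderOf_eq_one_iff.1 (Nat.eq_one_of_dvd_coprimes
      ((Nat.coprime_primes hr hp).2 hrp) (orderOf_dvd_of_pow_eq_one (hV v hv))
      (orderOf_dvd_of_pow_eq_one h7))
    simp only
    rw [← conj_zpow, hj, h8, mul_one]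
    exact zpow_mem (zpow_mem (mem_zpowers z) j) i⟩
  have h6 : (zpowers (toImg G (Ad V) z)).Normal := ⟨by
    rintro _ ⟨i, rfl⟩ g
    obtain ⟨g, rfl⟩ := toImg_surj _ _ g
    obtain ⟨j, v, hv, hj⟩ := h3 g
    simp only
    rw [← conj_zpow, ← map_inv, ← map_mul, ← map_mul, hj, map_mul, h4 v hv, mul_one, map_zpow]
    exact zpow_mem (zpow_mem (mem_zpowers _) j) i⟩
  have := img_solvable (G := G) (V := Ad V)
  have hI : Irr (Img G (Ad V)) (Ad V) := Irr.img fun L hL => by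
    rcases hmin (Ad.up L) ⟨by
      rintro _ ⟨x, hx, rfl⟩ g
      exact ⟨g • x, hL g x hx, rfl⟩⟩ (Ad.up_le L) with e | e
    · exact Or.inl (eq_bot_iff.2 fun x hx => Ad.ext (e.le (Ad.mem_up.2 hx)))
    · exact Or.inr (eq_top_iff.2 fun x _ => Ad.mem_up.1 (e.ge x.val_mem))
  have : Nontrivial (Ad V) := Finite.one_lt_card_iff_nontrivial.1 (Ad.card (M := V) ▸ hV1)
  have h7 := (ord_map _ (hz ▸ hp) h5).trans hz
  have h8 := core hI (h7 ▸ hp) h6
  rw [h7, nu_img] at h8
  exact h8.trans (Nat.cast_le.2 (k_add_nu V))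

end H28.KF
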