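import Cfsg.Agent.H27.MS1
import Cfsg.Agent.H5.CT10
import Cfsg.Agent.H23.BinPSL

/-! S5899: elements inverted by an involution bound its fixed points on a section. -/

set_option autoImplicit false
set_option linter.unusedSectionVars false

namespace H28.MS
open Cfsg Subgroup H18 H17.GS H28.S H2.GW H27.MS
open H19 hiding eq_bot_mono
open H28.NG hiding Hyp Uniq Ch
open scoped MatrixGroups

universe u
variable {G : Type u} [Group G] [Finite G] {N Q T V₀ V : Subgroup G} {e : ℕ}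

theorem cmQ (f : Fr N Q T) (s : Sec N Q V₀ V) : N ⊓ Cm V₀ V ≤ Q :=
  (f.smp _ ⟨inf_le_left, norms_inf le_normalizer (norms_Cm s.n0 s.nV)⟩).resolve_right fun k =>
    s.nc (k.ge.trans inf_le_right)

theorem eb_mono {a : G} {d : ℕ} (h : Eb V₀ V a e) (k : e ≤ d) : Eb V₀ V a d :=
  le_trans h (Nat.mul_le_mul_right _ (Nat.pow_le_pow_right two_pos k))

theorem mem_zp_pow {x w : G} {r j : ℕ} (hr : r.Prime) (o : orderOf x = r ^ (j + 1)) (hw : w ∈ zpowers x)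
    (w1 : w ≠ 1) : x ^ r ^ j ∈ zpowers w := by
  obtain ⟨i, rfl⟩ := (mem_powers_iff_mem_zpowers.2 hw : ∃ i : ℕ, x ^ i = w)
  obtain ⟨s, hs, k⟩ := (Nat.dvd_prime_pow hr).1 (Nat.gcd_dvd_right i (r ^ (j + 1)))
  have : s ≤ j := Nat.le_of_lt_succ (hs.lt_of_ne fun q => w1
    (orderOf_dvd_iff_pow_eq_one.1 (by rw [o, ← q, ← k]; exact Nat.gcd_dvd_left _ _)))
  have m : x ^ r ^ s ∈ zpowers (x ^ i) := by
    rw [← k, ← zpow_natCast x (Nat.gcd _ _), Nat.gcd_eq_gcd_ab, zpow_add, zpow_mul, zpow_mul, zpow_natCast, zpow_natCast, ← o,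
      pow_orderOf_eq_one, one_zpow, mul_one]
    exact zpow_mem (mem_zpowers _) _
  rw [← Nat.add_sub_cancel' this, pow_add, pow_mul]
  exact pow_mem m _

/-- `a` inverts an element of order `r ^ (j + 1)` of `N/Q` -/
theorem inv (f : Fr N Q T) (s : Sec N Q V₀ V) {X : Type*} [Group X] {π : N →* X} (su : Function.Surjective π)
    (k : ∀ g : N, π g = 1 ↔ (g : G) ∈ Q) {a : N} (a2 : a.1 * a.1 ∈ Q) {ξ : X} {r j : ℕ} (hr : r.Prime) (r2 : r ≠ 2)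
    (o : orderOf ξ = r ^ (j + 1)) (i : π a * ξ * (π a)⁻¹ = ξ⁻¹) (b : Eb V₀ V a e) :
    ∃ d, 1 ≤ d ∧ d ≤ e ∧ r ^ (j + 1) ∣ 4 ^ d - 1 := by
  obtain ⟨x₀, rfl⟩ := su ξ
  have od : ∀ n, Odd (r ^ n) := fun n => (hr.odd_of_ne_two r2).pow
  obtain ⟨m, hm⟩ := (IsPGroup.iff_card (p := 2)).1 f.pg.isPGroup
  have o1 : orderOf (π (x₀ ^ #Q)) = r ^ (j + 1) := by
    rw [map_pow, Nat.Coprime.orderOf_pow, o]
    rw [o, hm]; exact (Nat.coprime_two_right.2 (od _)).pow_right _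
  have o2 : orderOf (x₀ ^ #Q) = r ^ (j + 1) := Nat.dvd_antisymm (orderOf_dvd_iff_pow_eq_one.2 (by
    rw [← pow_mul, mul_comm, pow_mul]
    exact Subtype.ext (congrArg (Subtype.val : Q → G) (pow_card_eq_one' (x := (⟨_, (k (x₀ ^ r ^ (j + 1))).1 (by
      rw [map_pow, ← o, pow_orderOf_eq_one])⟩ : Q)))))) (o1 ▸ orderOf_map_dvd π _)
  have i1 : π a * π (x₀ ^ #Q) * (π a)⁻¹ = (π (x₀ ^ #Q))⁻¹ := by rw [map_pow, ← conj_pow, i, inv_pow]
  generalize x₀ ^ #Q = x at o1 o2 i1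
  have o3 : orderOf x.1 = r ^ (j + 1) := (orderOf_coe x).trans o2
  have yN : x.1 ^ r ^ j ∈ N := pow_mem x.2 _
  have iy : a.1 * x.1 ^ r ^ j * a.1⁻¹ * x.1 ^ r ^ j ∈ Q := (k (a * x ^ r ^ j * a⁻¹ * x ^ r ^ j)).1 (by
    rw [map_mul, map_mul, map_mul, map_inv, map_pow, ← conj_pow, i1, inv_pow, inv_mul_cancel])
  have yQ : x.1 ^ r ^ j ∉ Q := fun q => absurd ((Nat.pow_dvd_pow_iff_le_right hr.one_lt).1 (o1 ▸
    orderOf_dvd_iff_pow_eq_one.2 ((map_pow π x _).symm.trans ((k (x ^ r ^ j)).2 q)))) (by omega)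
  have oy : Odd (orderOf (x.1 ^ r ^ j)) := (o3 ▸ od _).of_dvd_nat (orderOf_pow_dvd _)
  have cx : x.1 ∈ N(zpowers (x.1 ^ r ^ j)) := cent1_le_norm_zpowers _ (mem_cent1.2 (Commute.self_pow _ _))
  have mz : ∀ w ∈ zpowers x.1, w ≠ 1 → x.1 ^ r ^ j ∈ zpowers w := fun w => mem_zp_pow hr o3
  generalize x.1 ^ r ^ j = y at yN iy yQ oy cx mz
  have B1 := zpowers_le' (s.nV yN)
  have B2 := zpowers_le' (s.n0 yN)
  have eU := s.ea.subB B1
  have le := s.ea.br_le B1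
  have h0 := s.ea.br_inf (og_zp oy) B1 B2
  have aU : a.1 ∈ N(⁅V, zpowers y⁆ ⊔ V₀) := s.ea.norm_br s.cq B1 B2 (s.nV a.2) (s.n0 a.2) (by
    rw [H19.cj_zpowers, zpowers_le]
    convert mul_mem (mem_sup_right iy) (mem_sup_left (inv_mem (mem_zpowers y))) using 1
    group)
  have xU : zpowers x.1 ≤ N(⁅V, zpowers y⁆ ⊔ V₀) :=
    norms_br (zpowers_le' (s.nV x.2)) (zpowers_le' cx) (zpowers_le' (s.n0 x.2))
  have U0 : ¬ ⁅V, zpowers y⁆ ⊔ V₀ ≤ V₀ := fun q =>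
    yQ (cmQ f s ⟨yN, le_Cm' B2 (le_sup_left.trans q) (mem_zpowers y)⟩)
  obtain ⟨c1, c2⟩ := eU.free (norms_br B1 le_normalizer B2 (mem_zpowers y)) (s.n0 yN) aU (s.n0 a.2) oy
    (Cm_anti le (s.cq iy)) (Cm_anti le (s.cq a2)) h0
  have dv := eU.dvd_pred (og_zp (o3 ▸ od _)) xU (zpowers_le' (s.n0 x.2)) fun w hw w1 =>
    (inf_le_inf_left _ (Cm_anti (zpowers_le' (mz w hw w1)))).trans h0
  have za := zpowers_le' (s.n0 a.2)
  have c3 := card_sup_mul_inf (le.trans (s.ea.nsub (s.ea.leC za) inf_le_left))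
  have c4 := card_le (sup_le inf_le_left le : V ⊓ Cm V₀ (zpowers a.1) ⊔ (⁅V, zpowers y⁆ ⊔ V₀) ≤ V)
  rw [← c1] at c2
  rw [inf_comm (V ⊓ _), ← inf_assoc, inf_eq_left.2 le] at c3
  have eC := eU.subC za
  generalize ⁅V, zpowers y⁆ ⊔ V₀ = U at *
  obtain ⟨d, hd⟩ := (IsPGroup.iff_card (p := 2)).1 (ab_pg eC.abq).isPGroup
  have c5 := card_eq_quo eC.le eC.norm
  have c6 := card_eq_quo eU.le eU.norm
  rw [hd] at c5
  have p0 := card_pos V₀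
  have c7 : #(quo V₀ U) = 4 ^ d := by
    rw [c5, c6] at c2
    refine Nat.eq_of_mul_eq_mul_left (Nat.mul_pos p0 p0) ?_
    rw [show 4 = 2 ^ 2 from rfl, ← pow_mul, mul_comm 2 d, pow_mul]
    linarith
  rw [Nat.card_zpowers, o3, ← card_quo eU.norm, c7] at dv
  refine ⟨d, Nat.pos_of_ne_zero fun q => U0 ?_, ?_, dv⟩
  · rw [c7, q, pow_zero, mul_one] at c6
    exact (eq_of_le_of_card_eq eU.le c6.symm).ge
  · have := Nat.mul_le_mul_right #(U ⊓ Cm V₀ (zpowers a.1)) (c4.trans b)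
    rw [c3, mul_assoc, mul_left_comm, c5, c6, c7] at this
    have := Nat.le_of_mul_le_mul_left this (card_pos _)
    rw [mul_left_comm, ← pow_add, show 4 = 2 ^ 2 from rfl, ← pow_mul] at this
    have := (Nat.pow_le_pow_iff_right one_lt_two).1 (Nat.le_of_mul_le_mul_left this p0)
    omega

section
variable {F : Type*} [Field F] [Fintype F] {τ : PSL(2, F)}
open H23.S2

theorem inv_conj (h2 : (2 : F) ≠ 0) (t1 : τ ≠ 1) (t2 : τ * τ = 1) {n : ℕ} (hn : 3 ≤ n)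
    (h : ∃ x s : PSL(2, F), orderOf x = n ∧ s * s = 1 ∧ s * x * s⁻¹ = x⁻¹) :
    ∃ x : PSL(2, F), orderOf x = n ∧ τ * x * τ⁻¹ = x⁻¹ := by
  obtain ⟨x, s, o, s2, i⟩ := h
  obtain ⟨g, rfl⟩ := isConj_iff.1 (isConj_invol h2 (z := s) (fun q => by
    rw [q, one_mul, inv_one, mul_one, eq_inv_iff_mul_eq_one, ← sq, ← orderOf_dvd_iff_pow_eq_one, o] at i
    exact absurd (Nat.le_of_dvd two_pos i) (by omega)) s2 t1 t2)
  refine ⟨g * x * g⁻¹, o ▸ (MulAut.conj g).orderOf_eq x, ?_⟩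
  rw [conj_inv, conj_mul, conj_mul, i, conj_inv]

/-- an involution of `L₂(q)`, `q` odd, inverts elements of every order `n ≥ 3` dividing `(q ± 1)/2` -/
theorem psl_inv (ho : Odd (Fintype.card F)) (t1 : τ ≠ 1) (t2 : τ * τ = 1) {n : ℕ} (hn : 3 ≤ n)
    (h : 2 * n ∣ Fintype.card F - 1 ∨ 2 * n ∣ Fintype.card F + 1) :
    ∃ x : PSL(2, F), orderOf x = n ∧ τ * x * τ⁻¹ = x⁻¹ := by
  refine inv_conj (H27.two_ne_zero_iff_odd.2 ho) t1 t2 hn (H5.psl2_real (.refl _) ?_)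
  rw [Nat.gcd_eq_left (Nat.Odd.sub_odd ho odd_one).two_dvd]
  exact h.imp Nat.dvd_div_of_mul_dvd Nat.dvd_div_of_mul_dvd

/-- and elements of order `p` if `q ≡ 1 mod 4` -/
theorem psl_invp (h4 : Fintype.card F % 4 = 1) (t1 : τ ≠ 1) (t2 : τ * τ = 1) {p : ℕ} (hp : p.Prime)
    (hd : p ∣ Fintype.card F) : ∃ x : PSL(2, F), orderOf x = p ∧ τ * x * τ⁻¹ = x⁻¹ := by
  have ho : Odd (Fintype.card F) := Nat.odd_iff.2 (by omega)
  have h2 : (2 : F) ≠ 0 := H27.two_ne_zero_iff_odd.2 ho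
  have := Fact.mk hp
  have p0 : (p : F) = 0 := (ringChar.spec F p).2 ((Nat.prime_dvd_prime_iff_eq hp (CharP.char_is_prime F _)).1
    ((prime_dvd_char_iff_dvd_card p).2 hd) ▸ dvd_rfl)
  obtain ⟨i, hi⟩ := FiniteField.isSquare_neg_one_iff.2 (show Fintype.card F % 4 ≠ 3 by omega)
  have pw : ∀ n : ℕ, m (1 : F) 1 0 1 (by simp) ^ n = m 1 (n : F) 0 1 (by simp) := fun n => by
    induction n with
    | zero => rw [pow_zero, m_one, m_inj]; simp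
    | succ n ih => rw [pow_succ, ih, m_mul, m_inj]; simp [add_comm]
  refine inv_conj h2 t1 t2 ((hp.two_le).lt_of_ne fun q => (q ▸ ho.of_dvd_nat hd).not_two_dvd_nat dvd_rfl)
    ⟨pi F (m 1 1 0 1 (by simp)), pi F (m i 0 0 (-i) (by grind)), orderOf_eq_prime ?_ ?_, ?_, ?_⟩
  · rw [← map_pow, pw, pi_eq_one, m_one, m_inj]; simp [p0]
  · rw [Ne, pi_eq_one, m_one, m_neg, m_inj, m_inj]; simp
  · rw [← map_mul, pi_eq_one, m_mul, m_one, m_neg, m_inj, m_inj]; grind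
  · rw [← map_inv, ← map_inv, ← map_mul, ← map_mul, pi_eq, m_inv, m_inv, m_mul, m_mul, m_inj]; grind
end

end H28.MS
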