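import Cfsg.Agent.H27.MS2

/-! S5899: the solvable maximal `2`-local subgroup `M = N(Y)` with the factorization property. -/

set_option autoImplicit false
set_option linter.unusedSectionVars false

open Cfsg Subgroup H18 H17.GS H28.S H2.GW
open H19 hiding eq_bot_mono
open H28.NG hiding Hyp Uniq

universe u

variable {G : Type u} [Group G] [Finite G] {a b c d e f g k m n s t u v w x y z : G}
  {A B D E F H I K L M N P Q R S T U V W X Y Z : Subgroup G}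

/-- characteristic `2` type, with solvable automizers of subgroups `2³` -/
structure _root_.H28.NG.Hq (G : Type u) [Group G] : Prop where
  chr : ∀ Q : Subgroup G, Q ≠ ⊥ → PG 2 Q → N(Q) ⊓ C(Oc {2} N(Q)) ≤ Oc {2} N(Q)
  i3 : ∀ U : Subgroup G, Abelem 2 U → #U = 8 → N(U) ≤ C(U) ∨ Sol N(U)

theorem _root_.H28.NG.Hq.chN (h : H28.NG.Hq G) (h1 : R ≠ ⊥) (h2 : PG 2 R) : Ch N(R) :=
  ⟨ne_bot_mono (le_Oc (normalIn_norm R) h2) h1, h.chr R h1 h2⟩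

theorem _root_.H28.NG.Hq.chC (h : H28.NG.Hq G) (h1 : R ≠ ⊥) (h2 : Abelem 2 R) : Ch C(R) := by
  haveI : Fact (Nat.Prime 2) := ⟨Nat.prime_two⟩
  have := h.chr R h1 (ab_pg h2)
  refine ⟨ne_bot_mono (le_Oc ⟨ab_cent h2, cent_le_norm R⟩ (ab_pg h2)) h1, ?_⟩
  rw [Oc2] at this ⊢
  exact H28.IsCharP.of_normal this (cent_le_norm R) (norm_le_norm_cent R)

theorem _root_.H28.NG.Hq.ch1 (h : H28.NG.Hq G) (h1 : v ≠ 1) (h2 : v * v = 1) : Ch C[v] :=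
  cent_zpowers v ▸ h.chC (ne_bot_of_mem (mem_zpowers v) h1) (abelem_zp h2)

structure _root_.H28.NG.Tt (S B Y F : Subgroup G) : Prop extends Mo Y F where
  hyp : H28.NG.Hq G
  syl : Syl 2 S ⊤
  BS : B ≤ S
  wc : ∀ g, cj g B ≤ S → cj g B = B
  YB : Y ≤ B
  NB : N(B) ≤ N(Y)
  max : ∀ R, R ≠ ⊥ → PG 2 R → N(Y) ≤ N(R) → N(R) ≤ N(Y)
  ZY : Ohm1 2 Z(S) ≤ Y
  jj : ∃ I, I ≤ B ∧ (∀ T, C(Y) ≤ T → (∀ t ∈ I, Tv Y t → t ∈ T) → I ≤ T) ∧ Y ⊓ C(I) ≤ C(B)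
  star : ∀ L T, B ≤ T → Syl 2 T L → Ch L → L ≤ L ⊓ C(Kc (Ohm1 2 Z(T)) L) ⊔ L ⊓ N(Y)
  nz : ¬ C(Ohm1 2 Z(S)) ≤ N(Y)
  n4 : #Y ≠ 4

theorem _root_.H28.NG.Tt.J (h : Tt S B Y F) (g : G) : Tt (cj g S) (cj g B) (cj g Y) (cj g F) where
  toMo := h.toMo.J g
  hyp := h.hyp
  syl := h.syl.Jtop g
  BS := cj_mono g h.BS
  wc a k := by
    rw [← cj_le_cj (g := g⁻¹), cj_inv_cj, cj_cj, cj_cj] at k
    rw [← cj_inj (g := g⁻¹), cj_inv_cj, cj_cj, cj_cj, h.wc _ k]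
  YB := cj_mono g h.YB
  NB := cj_norm g Y ▸ cj_norm g B ▸ cj_mono g h.NB
  max R a b c := by
    rw [← cj_norm, cj_le_iff, cj_norm] at c
    have := h.max _ (by simpa) (b.J _) c
    rwa [← cj_norm, ← le_cj_iff, cj_norm] at this
  ZY := cj_OZ g S ▸ cj_mono g h.ZY
  jj := by
    obtain ⟨I, a, b, c⟩ := h.jj
    refine ⟨cj g I, cj_mono g a, fun T p q => cj_le_iff.2 (b _ (cj_le_iff.1 (cj_cent g Y ▸ p)) fun t r s =>
      mem_cj_inv.2 (q _ (conj_mem_cj.2 r) (s.J g))), ?_⟩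
    rw [← cj_cent, ← cj_cent, ← cj_inf]; exact cj_mono g c
  star L T a b c := by
    have := cj_mono g (h.star _ _ (cj_le_iff.1 a) (b.J g⁻¹) (c.J _))
    simpa only [cj_sup, cj_inf, cj_cent, cj_norm, cj_Kc, cj_Ohm1, cj_cj_inv] using this
  nz := by rw [← cj_OZ, ← cj_cent, ← cj_norm, cj_le_cj]; exact h.nz
  n4 := by rw [card_cj]; exact h.n4

section Tt
variable (h : Tt S B Y F)
include h

theorem _root_.H28.NG.Tt.conj (hm : m ∈ N(Y)) : Tt (cj m S) (cj m B) Y F := by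
  simpa only [cj_of_mem_norm hm, h.fs.nF.cj_eq hm] using h.J m

theorem _root_.H28.NG.Tt.Bpg : PG 2 B := h.syl.pi.of_le h.BS

theorem _root_.H28.NG.Tt.wc2 (hT : PG 2 T) (h1 : cj a B ≤ T) (h2 : cj b B ≤ T) : cj a B = cj b B := by
  obtain ⟨g, -, k⟩ := h.syl.scj_le le_top hT
  have e {a} (p : cj a B ≤ T) : cj g (cj a B) = B := by rw [cj_cj]; exact h.wc _ (cj_cj g a B ▸ (cj_mono g p).trans k)
  exact cj_inj.1 ((e h1).trans (e h2).symm)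

theorem _root_.H28.NG.Tt.pgM (hT : PG 2 T) (h1 : B ≤ T) : T ≤ N(Y) := fun _ p =>
  h.NB (mem_norm_iff_cj.2 ((h.wc2 hT (cj_le_of_mem p h1) ((cj_one B).trans_le h1)).trans (cj_one B)))

theorem _root_.H28.NG.Tt.SM : S ≤ N(Y) := h.pgM h.syl.pi h.BS

theorem _root_.H28.NG.Tt.OM (h1 : B ≤ L) : Oc {2} L ≤ N(Y) := by
  obtain ⟨T, a, b⟩ := h.Bpg.exists_syl h1
  exact (Oc_le_hall a).trans (h.pgM a.pi b)

theorem _root_.H28.NG.Tt.Y0 : Y ≠ ⊥ := fun k => h.nz (k ▸ nbot)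

theorem _root_.H28.NG.Tt.mx (h1 : X ≠ ⊥) (h2 : X ≤ Y) (h3 : N(Y) ≤ N(X)) : N(X) ≤ N(Y) :=
  h.max X h1 (h.pg.of_le h2) h3

theorem _root_.H28.NG.Tt.Zc (h1 : X ≠ ⊥) (h2 : X ≤ Y) (h3 : S ≤ N(X)) :
    ∃ w ∈ X, w ≠ 1 ∧ ¬ C[w] ≤ N(Y) := by
  obtain ⟨w, a, b⟩ := exists_ne_one ((h.pg.of_le h2).meet_cent h.syl.pi h3 h1)
  exact ⟨w, a.1, b, mt (cent_le_cent1 (H19.mem_Ohm1 (mem_inf.2 ⟨h.BS (h.YB (h2 a.1)), a.2⟩)
    (sq w ▸ sq_one h.ab (h2 a.1)))).trans h.nz⟩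

theorem _root_.H28.NG.Tt.b1 (hv : v ∈ Y) : ∃ m ∈ N(Y), cj m B ≤ C[v] := by
  obtain ⟨I, a, b, c⟩ := h.jj
  obtain ⟨m, p, q⟩ := h.conj_cent (h.Bpg.of_le a) (a.trans (h.BS.trans h.SM)) b hv
  refine ⟨m⁻¹, inv_mem p, le_cj_iff.1 ?_⟩
  rw [cj_cent1]
  exact le_cent1_iff.2 (c ⟨conj_mem_of_norm p hv, q⟩)

theorem _root_.H28.NG.Tt.tr (h1 : v ∈ Y) (h2 : v ∈ cj g Y) : ∃ c ∈ C[v], cj g Y = cj c Y := by
  obtain ⟨m, a, b⟩ := h.b1 h1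
  obtain ⟨n, a', b'⟩ := h.b1 (mem_cj.1 h2)
  obtain ⟨T, p, q⟩ := (h.Bpg.J m).exists_syl b
  obtain ⟨c, r, s⟩ := p.scj_le (K := cj g (cj n B)) (by
    rw [cj_le_iff, cj_cent1, inv_inv]; exact b') ((h.Bpg.J _).J _)
  rw [cj_cj, cj_cj] at s
  have := h.NB (mem_norm_iff_cj.2 ((cj_mul m⁻¹ _ B).trans (cj_eq_iff.1 (h.wc2 p.pi q s)).symm))
  refine ⟨c⁻¹, inv_mem r, cj_eq_iff.1 ?_⟩
  rw [cj_cj]
  exact cj_of_mem_norm (by simpa [mul_assoc] using mul_mem (mul_mem a this) (inv_mem a'))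

theorem _root_.H28.NG.Tt.eq_of (h1 : v ∈ Y) (h2 : v ∈ cj g Y) (k : C[v] ≤ N(Y)) : g ∈ N(Y) := by
  obtain ⟨c, a, b⟩ := h.tr h1 h2
  exact mem_norm_iff_cj.2 (b.trans (cj_of_mem_norm (k a)))

theorem _root_.H28.NG.Tt.tp (hL : B ≤ L) (c : Ch L) : ∃ Z, (C(Z) ≤ N(Y) → L ≤ N(Y)) ∧
    (∀ f ∈ F ⊓ L, f ∉ C(Y) → ∃ U ≤ Y ⊓ Z, L ≤ N(U) ∧ ¬ U ≤ C[f]) ∧ (L ⊓ N(Y) ≤ C(Y) → Y ≤ Z) := by
  obtain ⟨T, a, b⟩ := h.Bpg.exists_syl hL
  have s := h.star L T b a c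
  have TH := le_inf a.le (h.pgM a.pi b)
  have o {W} (p : W ≤ Y) (q : W ≤ C(T)) : W ≤ Kc (Ohm1 2 Z(T)) L :=
    (abelem_le_Ohm1 (abelem_mono h.ab p) (le_inf (p.trans (h.YB.trans b)) q)).trans le_Kc
  refine ⟨_, fun k => s.trans (sup_le (inf_le_right.trans k) inf_le_right), fun f p q => ?_,
    fun k => o le_rfl (cents_symm (TH.trans k))⟩
  have XF : Kc (zpowers f) (L ⊓ N(Y)) ≤ F := Kc_le_of (zpowers_le' p.1) (inf_le_right.trans h.fs.nF.norm)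
  have n : L ⊓ N(Y) ≤ N(⁅Y, Kc (zpowers f) (L ⊓ N(Y))⁆) := norms_comm inf_le_right Kc_norm
  have l := commg_le_left (XF.trans h.FN)
  have k := Kc_le_of (inf_le_left (b := C(T))) n
  have z := Kc_le_of (o (inf_le_left.trans l) inf_le_right) (inf_le_left.trans Kc_norm : L ⊓ N(Y) ≤ _)
  refine ⟨_, le_inf (k.trans l) z, s.trans (sup_le (inf_le_right.trans (norms_of_cents (cent_mono z))) Kc_norm),
    fun j => (h.pg.of_le l).meet_cent a.pi (TH.trans n) (fun e => q (cents_symm (commg_eq_bot.1 e) (le_Kc (mem_zpowers f)))) (eq_bot_mono le_Kc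
      (eq_bot_mono (le_inf (le_inf (k.trans l) (cents_symm (Kc_cents (zpowers_le' (le_cent1_iff.1 j)) Kc_norm))) k)
        (h.dp XF).inf))⟩

theorem _root_.H28.NG.Tt.BV (o : Om Y F x) : B ≤ N(cm Y x) := fun b p => by
  obtain ⟨I, a, g, c⟩ := h.jj
  exact o.norm_of (h.SM (h.BS p)) (ne_bot_mono (le_inf inf_le_left ((inf_le_inf_right _ o.le).trans
    (c.trans (cent_le_cent1 p)))) ((h.pg.of_le o.le).meet_cent (h.Bpg.of_le a)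
      (g _ (norms_of_cents (cent_mono o.le)) fun _ _ => o.tv) o.V0))

theorem _root_.H28.NG.Tt.omN (o : Om Y F x) : N(cm Y x) ≤ N(Y) := by
  obtain ⟨Z, a, b, -⟩ := h.tp (h.BV o) (h.hyp.chN o.V0 (h.pg.of_le o.le))
  have l {y} (p : Om Y F y) : cm Y y ≤ ⨆ y : {y // Om Y F y}, cm Y y := le_iSup (fun y : {y // Om Y F y} => cm Y y) ⟨y, p⟩
  refine a ((cent_mono (iSup_le fun y : {y // Om Y F y} => ?_)).trans ((cent_le_norm _).trans (h.mx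
    (ne_bot_mono (l o) o.V0) (iSup_le fun y => y.2.le) fun m p => mem_norm_of_cj_le (cj_le_iff.2
      (iSup_le fun y => cj_le_iff.1 ((y.2.cjV p).trans_le (l (y.2.conj p))))))))
  obtain ⟨U, p, q, r⟩ := b y ⟨y.2.mem, o.norm y.2⟩ y.2.nK
  exact (y.2.sub (p.trans inf_le_left) (q (o.norm y.2)) r).trans (p.trans inf_le_right)

theorem _root_.H28.NG.Tt.omL (hL : B ≤ L) (c : Ch L) (o : Om Y F x) (hx : x ∈ L) : L ≤ N(Y) := by
  obtain ⟨Z, a, b, -⟩ := h.tp hL c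
  obtain ⟨U, p, q, r⟩ := b x ⟨o.mem, hx⟩ o.nK
  exact a ((cent_mono ((o.sub (p.trans inf_le_left) (q hx) r).trans (p.trans inf_le_right))).trans
    ((cent_le_norm _).trans (h.omN o)))

theorem _root_.H28.NG.Tt.omC (o : Om Y F x) (hv : v ∈ Y) (v0 : v ≠ 1) (hx : v ∈ C[x]) : C[v] ≤ N(Y) := by
  obtain ⟨m, a, b⟩ := h.b1 hv
  exact (h.conj a).omL b (h.hyp.ch1 v0 (sq_one h.ab hv)) o (mem_cent1_symm.1 hx)

theorem _root_.H28.NG.Tt.omV (o : Om Y F x) (hu : u ∈ cm Y x) (u0 : u ≠ 1) : C[u] ≤ N(Y) := by_contra fun k => by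
  obtain ⟨w, a, b, c⟩ := h.Zc (X := Y ⊓ C[x]) (fun e => h.n4 (by
    rw [← o.dq.card, e, o.card, card_bot])) inf_le_left fun s p => o.normC (h.SM p) (mem_norm_iff_cj.2
      ((o.cjV (h.SM p)).trans (((o.conj (h.SM p)).dich o.le o.card (o.norm (o.conj (h.SM p)))).resolve_left
        fun j => k (h.omC (o.conj (h.SM p)) (o.le hu) u0 (j hu)))))
  exact c (h.omC o a.1 b a.2)

theorem _root_.H28.NG.Tt.tvC (ht : Tv Y t) (hu : u ∈ cm Y t) (u0 : u ≠ 1) : C[u] ≤ N(Y) := by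
  obtain ⟨x, o, -, k⟩ := h.tl ht
  exact h.omV o (k hu) u0

theorem _root_.H28.NG.Tt.hypC (h1 : X ≤ Y) (h2 : #Y ≤ #X * 2) : C(X) ≤ N(Y) := by
  by_cases k : ∃ x, Om Y F x
  · obtain ⟨x, o⟩ := k
    obtain ⟨u, a, b⟩ := exists_ne_one (o.meet h2 h1)
    exact (cent_le_cent1 a.2).trans (h.omV o a.1 b)
  have nt {t} (p : Tv Y t) : False := (h.tl p).elim fun x o => k ⟨x, o.1⟩
  obtain ⟨I, a, b, c⟩ := h.jj
  have X0 : X ≠ ⊥ := fun e => by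
    obtain ⟨w, p, q, r⟩ := h.Zc h.Y0 le_rfl h.SM
    rw [e, card_bot] at h2
    have := ne_bot_iff_one_lt_card.1 h.Y0
    exact r (eq_zpowers_of_prime (by rw [show #Y = 2 by omega]; exact Nat.prime_two) p q ▸ cent1_le_norm_zpowers w)
  obtain ⟨Z, p, -, q⟩ := h.tp ((cents_symm ((le_inf le_rfl (cents_symm (b _ le_rfl fun _ _ j =>
    (nt j).elim))).trans c)).trans (cent_mono h1)) (h.hyp.chC X0 (abelem_mono h.ab h1))
  exact p ((cent_mono (q fun t r => by_contra fun j => nt (tv_of h.pg r.2 j (h2.trans (Nat.mul_le_mul_right _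
    (card_le (le_inf h1 (le_cent1_iff.2 r.1)))))))).trans (cent_le_norm Y))

/-- conjugates of `Y` normalizing each other commute -/
theorem _root_.H28.NG.Tt.comm (h1 : cj g Y ≤ N(Y)) (h2 : Y ≤ N(cj g Y)) : cj g Y ≤ C(Y) := by_contra fun k => by
  obtain ⟨t, a, b⟩ := h.extv h1 (abelem_J h.ab g) ((h.J g).rk' h2 h.ab) k
  obtain ⟨u, p, q⟩ := exists_ne_one (mt cm_eq_bot.1 (mt le_cent1_iff.1 b.nK))
  exact k ((cj_of_mem_norm (h.eq_of (cm_le b.mem p) (cm_le_of_mem a h2 p) (h.tvC b p q))).trans_le (ab_cent h.ab))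

end Tt

theorem _root_.H28.NG.Tt.OC (h : Tt S B Y F) (hv : v ∈ Y) : Oc {2} C[v] ≤ N(Y) := by
  obtain ⟨m, a, b⟩ := h.b1 hv
  exact (h.conj a).OM b

theorem _root_.H28.NG.Tt.n8 (h : Tt S B Y F) (o : Om Y F x) : #Y ≠ 8 := fun k => by
  obtain ⟨w, a, b, c⟩ := h.Zc (X := Y ⊓ C[x]) (fun e => h.n4 (by
    rw [← o.dq.card, e, o.card, card_bot])) inf_le_left fun s p => o.normC (h.SM p) (by
      have q := o.conj (h.SM p)
      obtain ⟨w, r, t⟩ := exists_ne_one (o.meet (by rw [q.card, k]) q.le)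
      exact mem_norm_iff_cj.2 ((o.cjV (h.SM p)).trans (o.eq_of q r.1 r.2 t)))
  exact c (h.omC o a.1 b a.2)

structure _root_.H28.NG.Tx (S B Y F Q E A : Subgroup G) (v x a : G) : Prop extends Tt S B Y F where
  vY : v ∈ Y
  v0 : v ≠ 1
  eQ : Q = Oc {2} C[v]
  fq : FS Q C[v] E
  hA : Hyp A Y
  xE : x ∈ E
  x0 : x ∉ Q
  odd : Odd (orderOf x)
  xA : x ∈ Cm Q A
  aY : a ∈ Y
  a0 : a ∉ A
  inv : a * x * a⁻¹ = x⁻¹

section Tx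
variable (h : Tx S B Y F Q E A v x a)
include h

theorem _root_.H28.NG.Tx.xv : x ∈ C[v] := h.fq.FP h.xE

theorem _root_.H28.NG.Tx.vv : v * v = 1 := sq_one h.ab h.vY

theorem _root_.H28.NG.Tx.QM : Q ≤ N(Y) := h.eQ ▸ h.OC h.vY

theorem _root_.H28.NG.Tx.Qpg : PG 2 Q := h.eQ ▸ Oc_pi _ _

theorem _root_.H28.NG.Tx.Yv : Y ≤ C[v] := ab_cent1 h.ab h.vY

theorem _root_.H28.NG.Tx.Aab : Abelem 2 A := abelem_mono h.ab h.hA.le

theorem _root_.H28.NG.Tx.sq : x * a * x⁻¹ * a⁻¹ = x * x := by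
  rw [show x * a * x⁻¹ * a⁻¹ = x * (a * x * a⁻¹)⁻¹ by group, h.inv, inv_inv]

theorem _root_.H28.NG.Tx.cx (h1 : a ∈ T) (h2 : x * a * x⁻¹ ∈ T) : x ∈ T :=
  mem_of_inv h.odd h1 h2 (by rw [h.inv, inv_mul_cancel]; exact one_mem _)

theorem _root_.H28.NG.Tx.xM : x ∉ N(Y) := fun k => h.x0 (h.fq.of_pg h.pg h.xE (h.cx h.aY (conj_mem_of_norm k h.aY)))

theorem _root_.H28.NG.Tx.BM : cj x A ≤ N(Y) := fun b p => by
  obtain ⟨α, q, rfl⟩ := mem_cj'.1 p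
  simpa using mul_mem (h.QM (h.xA.2 α q)) (le_normalizer (h.hA.le q))

theorem _root_.H28.NG.Tx.symm : Tx (cj x S) (cj x B) (cj x Y) (cj x F) Q E (cj x A) v x⁻¹ (x * a * x⁻¹) :=
  ⟨h.toTt.J x, mem_cent1_conj.1 h.xv ▸ conj_mem_cj.2 h.vY, h.v0, h.eQ, h.fq, h.hA.conj x, inv_mem h.xE,
    mt inv_mem_iff.1 h.x0, by simpa using h.odd, by
      simpa only [cj_Cm, h.fq.nK.cj_eq h.xv, mul_inv_cancel, one_mul] using (conj_mem_cj (g := x)).2 (inv_mem h.xA),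
    conj_mem_cj.2 h.aY, mt conj_mem_cj.1 h.a0, by
      rw [show x * a * x⁻¹ * x⁻¹ * (x * a * x⁻¹)⁻¹ = x * (a * x * a⁻¹)⁻¹ * x⁻¹ by group, h.inv]; group⟩

theorem _root_.H28.NG.Tx.AM : A ≤ N(cj x Y) := by simpa using h.symm.BM

theorem _root_.H28.NG.Tx.DC : Y ⊓ cj x Y ≤ C[x] := fun _ p =>
  mem_cent1_symm.1 (h.cx (ab_cent1 h.ab p.1 h.aY) (ab_cent1 h.symm.ab p.2 h.symm.aY))

theorem _root_.H28.NG.Tx.mA (h1 : w ∈ Y) (h2 : x * w * x⁻¹ * w⁻¹ ∈ Q) : w ∈ A := by_contra fun k => by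
  have := mul_mem (inv_mem h2) (h.xA.2 _ (hyp_mul h.hA h1 h.aY k h.a0))
  refine h.x0 (h.fq.of_sq h.xE (h.sq ▸ ?_))
  convert h.fq.nK.conj_mem (inv_mem (h.Yv h1)) this using 1
  group

theorem _root_.H28.NG.Tx.DA : Y ⊓ cj x Y ≤ A := fun _ p =>
  h.mA p.1 (by rw [mem_cent1_conj'.1 (h.DC p), mul_inv_cancel]; exact one_mem _)

theorem _root_.H28.NG.Tx.YQ : Y ⊓ Q ≤ A := fun _ p =>
  h.mA p.1 (mul_mem (h.fq.nK.conj_mem h.xv p.2) (Q.inv_mem p.2))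

theorem _root_.H28.NG.Tx.DB : Y ⊓ cj x Y ≤ cj x A := by simpa [inf_comm] using h.symm.DA

theorem _root_.H28.NG.Tx.vD : v ∈ Y ⊓ cj x Y := ⟨h.vY, h.symm.vY⟩

theorem _root_.H28.NG.Tx.br : ⁅A, cj x A⁆ ≤ Y ⊓ cj x Y := commg_le_of h.hA.le h.BM h.symm.hA.le h.AM

theorem _root_.H28.NG.Tx.YD : Y ≤ N(Y ⊓ cj x Y) := norms_of_comm h.ab.1 le_rfl inf_le_left

theorem _root_.H28.NG.Tx.BA : cj x A ≤ N(A) := norms_of_commg_le (h.br.trans h.DA)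

theorem _root_.H28.NG.Tx.key (hb : b ∈ cj x A) (h1 : w ∈ Y) (h2 : w ∉ A)
    (k : w * b * w⁻¹ * b⁻¹ ∈ Y ⊓ cj x Y) : b ∈ Y ⊓ cj x Y := by
  have bY := h.symm.hA.le hb
  have n := norms_of_comm h.symm.ab.1 le_rfl (inf_le_right : Y ⊓ cj x Y ≤ _)
  have := (mem_Cm1 (n bY)).1 (inv_mem (h.cx (T := Cm (Y ⊓ cj x Y) (zpowers b)) (hyp_le h.hA h1 h2
    (le_Cm (h.hA.le.trans h.YD) ((commutator_mono le_rfl (zpowers_le' hb)).trans h.br))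
      ((mem_Cm1 (n bY)).2 ⟨h.YD h1, k⟩) h.aY)
    (Cm_of_cent n (zp_cent (ab_cent1 h.symm.ab bY)) h.symm.aY)))
  exact ⟨by simpa [mul_assoc] using mul_mem (Y.inv_mem this.2.1) (h.hA.le (mem_cj.1 hb)), bY⟩

theorem _root_.H28.NG.Tx.Cy (hb : b ∈ cj x A) (b0 : b ∉ Y ⊓ cj x Y) : Y ⊓ C[b] ≤ A := fun _ p => by_contra fun k =>
  b0 (h.key hb p.1 k (by rw [mem_cent1_conj.1 p.2, mul_inv_cancel]; exact one_mem _))

theorem _root_.H28.NG.Tx.BK : cj x A ⊓ C(Y) ≤ Y ⊓ cj x Y := fun _ p => by_contra fun k =>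
  h.a0 (h.Cy p.1 k ⟨h.aY, le_cent1_iff.2 p.2 h.aY⟩)

theorem _root_.H28.NG.Tx.DK : Y ⊓ cj x Y ≤ C(Y) := inf_le_left.trans (ab_cent h.ab)

theorem _root_.H28.NG.Tx.nB : ¬ cj x A ≤ C(Y) := fun k => by
  have := card_le ((le_inf le_rfl k).trans h.BK)
  rw [card_cj] at this
  exact h.xM (h.hypC inf_le_left (h.hA.card.trans_le (Nat.mul_le_mul_right _ this)) (le_cent1_iff.1 h.DC))

theorem _root_.H28.NG.Tx.tp (hf : f ∈ F) (f0 : f ∉ C(Y)) (hw : w ∈ Y ⊓ cj x Y) (w0 : w ≠ 1) (k : w ∈ C[f]) :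
    ∃ U ≤ Y ⊓ cj x Y, f ∈ N(U) ∧ ¬ U ≤ C[f] := by
  obtain ⟨m, p, q⟩ := h.b1 hw.1
  obtain ⟨Z, -, r, -⟩ := (h.conj p).tp q (h.hyp.ch1 w0 (sq_one h.ab hw.1))
  obtain ⟨U, u1, u2, u3⟩ := r f ⟨hf, mem_cent1_symm.1 k⟩ f0
  exact ⟨U, le_inf (u1.trans inf_le_left) ((cj_of_mem_norm (u2 (mem_cent1_symm.1 (h.DC hw)))).ge.trans
    (cj_mono x (u1.trans inf_le_left))), u2 (mem_cent1_symm.1 k), u3⟩

theorem _root_.H28.NG.Tx.c1 (hf : f ∈ F) (f0 : f ∉ C(Y)) (ho : Odd (orderOf f)) (hb : b ∈ cj x A)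
    (k : b * f * b⁻¹ * f ∈ C(Y)) : Y ⊓ cj x Y ⊓ cj f (Y ⊓ cj x Y) = ⊥ := by_contra fun e => by
  obtain ⟨w, p, q⟩ := exists_ne_one e
  have c : Y ⊓ cj x Y ≤ C[b] := inf_le_right.trans (ab_cent1 h.symm.ab (h.symm.hA.le hb))
  obtain ⟨U, u1, u2, u3⟩ := h.tp hf f0 p.1 q (mem_cent1_symm.1 (mem_of_inv ho (mem_cent1_symm.1 (c p.1))
    (mem_cent1_symm.1 (cj_cent1 f b ▸ cj_mono f c p.2)) (cent_le_cent1 p.1.1 k)))
  have := le_cent1_iff.1 (u1.trans c)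
  exact u3 (le_cent1_iff.2 (mem_of_inv ho this (conj_mem_of_norm (norm_le_norm_cent _ u2) this)
    (cent_mono (u1.trans inf_le_left) k)))

theorem _root_.H28.NG.Tx.tvA (hb : b ∈ cj x A) (t : Tv Y b) : Y ⊓ C[b] = A :=
  (t.hyp.max (h.Cy hb fun k => t.nK (h.DK k)) h.hA.le).resolve_right h.hA.ne ▸ rfl

/-- no transvections -/
theorem _root_.H28.NG.Tx.t0 (hb : b ∈ cj x A) (k : b ∈ C(A)) : b ∈ Y ⊓ cj x Y := by_contra fun b0 => by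
  have cA := h.hA.card
  have t := tv_of h.pg (h.BM hb) (fun j => b0 (h.BK ⟨hb, j⟩)) (cA.trans_le (Nat.mul_le_mul_right _
    (card_le (le_inf h.hA.le (le_cent1_iff.2 k)))))
  obtain ⟨y, o, o1, -⟩ := h.tl t
  have c1 := o.dq.card
  have c2 := card_le (sup_le ((le_inf inf_le_left o1).trans (h.tvA hb t).le) h.DA)
  rw [card_sup_of_disjoint (norms_of_comm h.ab.1 inf_le_left inf_le_left) (by_contra fun e => (exists_ne_one e).elim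
    fun w p => h.xM (h.omC o p.1.1.1 p.2 p.1.1.2 (mem_cent1_symm.1 (h.DC p.1.2))))] at c2
  rw [o.card] at c1
  have := card_pos (Y ⊓ C[y])
  have c3 := card_zp h.vv h.v0
  have eD := eq_of_le_of_card_ge (zpowers_le' h.vD) (by nlinarith)
  have c4 := pair_eq h.vv ((h.symm.hA.le.trans h.symm.Yv).trans (cent1_le_norm_zpowers v))
    (le_Cm ((h.hA.le.trans h.Yv).trans (cent1_le_norm_zpowers v)) (eD ▸ h.br))
  have c5 := pg_lt_card (h.symm.pg.of_le ((inf_le_left (b := C(A))).trans h.symm.hA.le)) (lt_of_le_not_ge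
    (le_inf h.DB (h.DK.trans (cent_mono h.hA.le))) fun j => b0 (j ⟨hb, k⟩))
  have c6 := card_le (inf_le_inf_right C(cj x A) h.hA.le)
  have c7 := card_le h.BK
  have c8 := h.rk' h.BM h.symm.Aab
  have pA := card_pos A
  rw [card_cj] at c4 c8
  rw [← eD, c3] at c5 c7
  have c9 := card_le (le_inf h.hA.le (cents_symm (h.gt h.BM h.symm.Aab (by rw [card_cj]; nlinarith)
    (cent_mono h.hA.le) fun s p q => le_cent1_iff.1 ((h.tvA p q).ge.trans inf_le_right))))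
  have : #A ≤ 4 := by nlinarith
  have := h.n4
  have := h.n8 o
  omega

theorem _root_.H28.NG.Tx.AC (hf : f ∈ F) (f0 : f ∉ C(Y)) (ho : Odd (orderOf f)) (hb : b ∈ cj x A)
    (k : b * f * b⁻¹ * f ∈ C(Y)) (hc : c ∈ cj x A) (k' : f * c * f⁻¹ * c⁻¹ ∈ C(Y)) : A ⊓ cj f⁻¹ A ≤ C[c] :=
  fun w p => by
  have q := mem_cj_inv.1 p.2
  have : f * (w * c * w⁻¹ * c⁻¹) * f⁻¹ ∈ (⊥ : Subgroup G) := h.c1 hf f0 ho hb k ▸ ⟨by
    have r := h.br (comm_mem q hc)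
    have e1 := mem_cent1_conj'.1 (le_cent1_iff.2 k' (conj_mem_of_norm (h.BM hc) (Y.inv_mem (h.hA.le q))))
    show _ ∈ Y ⊓ cj x Y
    convert r using 1
    rw [mul_assoc (f * w * f⁻¹), mul_assoc (f * w * f⁻¹), ← e1]
    group, conj_mem_cj.2 (h.br (comm_mem p.1 hc))⟩
  exact mem_cent1_conj.2 (mul_inv_eq_one.1 (conj_eq_one_iff.1 (mem_bot.1 this)))

theorem _root_.H28.NG.Tx.eta : (Y ⊓ cj x Y = zpowers v ∧ #Y = 16) ∧ ∃ f ∈ F, f ∉ C(Y) ∧ Odd (orderOf f) ∧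
    ∃ b ∈ cj x A, b * f * b⁻¹ * f ∈ C(Y) ∧ ∃ c ∈ cj x A, c ∉ C(Y) ∧ f * c * f⁻¹ * c⁻¹ ∈ C(Y) := by
  have ab := h.symm.Aab
  obtain ⟨H, f, h1, h2, h3, h4, h5, h6, h7⟩ := h.fs.dl h.BM ((ea_bot ab).ab.trans bot_le)
    (fun _ p => sq_one ab p ▸ one_mem _) h.nB
  obtain ⟨b, hb, b0⟩ := hyp_ex h1
  have c1 := h1.card
  have c2 := h.hA.card
  rw [card_cj] at c1
  have DH := (le_inf h.DB h.DK).trans h2
  obtain ⟨c, hc, c0⟩ : ∃ c ∈ H, c ∉ C(Y) := SetLike.not_le_iff_exists.1 fun k => by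
    have e := le_antisymm DH ((le_inf h1.le k).trans h.BK)
    refine b0 (DH (h.t0 hb (le_cent1_iff.1 (hyp_le (hyp_of_card h.DA (e ▸ c1)) ?_
      (fun j => b0 (DH (h.key hb h.aY h.a0 j))) (inf_le_right.trans (ab_cent1 h.symm.ab (h.symm.hA.le hb)))
      (cm_cent h.ab (h.BM hb) (sq_one ab hb) (mem_cm h.aY))))))
    convert inv_mem ((hyp_cm h.hA (h.BM hb) (h.BA hb)).2 a h.aY) using 1
    group
  refine ⟨?_, f, h3, h4, h5, b, hb, h7 b hb b0, c, h1.le hc, c0, h6.2 c hc⟩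
  have AC {c} (p : c ∈ H) := h.AC h3 h4 h5 hb (h7 b hb b0) (h1.le p) (h6.2 c p)
  have c3 := (h.hA.conj f⁻¹).card_inf (X := A) (by rw [cj_of_mem_norm (inv_mem (h.FN h3))]; exact h.hA.le)
  have eC {c} (p : c ∈ H) (q : c ∉ C(Y)) : A ⊓ cj f⁻¹ A = Y ⊓ C[c] := by
    have := pg_lt_card (ab_pg h.Aab) (lt_of_le_not_ge (h.Cy (h1.le p) fun j => q (h.DK j)) fun j =>
      q (h.DK (h.t0 (h1.le p) (le_cent1_iff.1 (j.trans inf_le_right)))))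
    exact eq_of_le_of_card_ge (le_inf (inf_le_left.trans h.hA.le) (AC p)) (by omega)
  obtain ⟨H', a1, -, -, a2⟩ := h.q4w (h1.le.trans h.BM) (abelem_mono ab h1.le) hc c0
  have c4 := card_le ((le_inf (a1.le.trans h1.le) (show H' ≤ C(Y) from fun d p => by_contra fun q =>
    a2 (((inf_le_inf_left Y (cent_le_cent1 p)).trans (eC (a1.le p) q).ge).trans
      (cents_symm fun _ r => le_cent1_iff.1 (AC r))))).trans h.BK)
  have c5 := a1.card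
  have l : Y ⊓ cj x Y ≤ Y ⊓ C[c] := le_inf inf_le_left
    (inf_le_right.trans (ab_cent1 h.symm.ab (h.symm.hA.le (h1.le hc))))
  have n : f ∈ N(Y ⊓ C[c]) := by
    simpa only [Cm_bot, cent_zpowers] using h.md.norm_cm (zpowers_le' (h.BM (h1.le hc))) (h.FN h3)
      (cj_zp_le ((inv_mem h6).2 c hc))
  have c6 := card_le (sup_le l (cj_le_of_mem_norm n l))
  rw [card_sup_of_disjoint (norms_of_comm h.ab.1 ((cj_le_of_mem_norm n l).trans inf_le_left) inf_le_left)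
    (h.c1 h3 h4 h5 hb (h7 b hb b0)), card_cj] at c6
  have c7 := pg_lt_card (ab_pg h.Aab) (lt_of_le_not_ge (h.Cy (h1.le hc) fun j => c0 (h.DK j)) fun j =>
      c0 (h.DK (h.t0 (h1.le hc) (le_cent1_iff.1 (j.trans inf_le_right)))))
  have c8 := card_le (zpowers_le' h.vD)
  have c9 := card_zp h.vv h.v0
  have : #(Y ⊓ cj x Y) ≤ 2 := by nlinarith
  exact ⟨(eq_of_le_of_card_ge (zpowers_le' h.vD) (by omega)).symm, by nlinarith⟩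

end Tx

open H29.PU (bm zj JJ_le_bm bm_le nrm_bm) in
open H9 (JJ_le_iff) in
theorem _root_.H28.MS.tt (h : H27.MS.Mn S Y) (hs : Sol N(Y)) (n4 : #Y ≠ 4) : ∃ F, Tt S (bm 2 S) Y F := by
  have SM : S ≤ N(Y) := (nrm_bm le_normalizer).trans h.NB
  have sM := h.syl.of_le SM le_top
  have ZS : Ohm1 2 Z(S) ≤ Z(S) := Ohm1_le _ _
  have ZY : Ohm1 2 Z(S) ≤ Y := le_Kc.trans h.eY.ge
  have YS := h.YB.trans bm_le
  obtain ⟨F, m⟩ := exists_Mo h.ab hs fun N p q => (cents_symm (Kc_cents (cents_symm (by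
    rw [← O2r_sup_syl (sM.inf_normal (K := N) p)]
    exact sup_le ((O2r_le_iff.2 q).trans (cent_mono ZY)) (inf_le_left.trans (cents_symm (ZS.trans inf_le_right)))))
    p.norm)).trans (cent_mono h.eY.le)
  obtain ⟨A, a⟩ := H9.exists_maxAb 2 S
  have YJ := (m.maxAb YS SM a).2
  exact ⟨F, m, ⟨h.hz.chr, h.hz.i3⟩, h.syl, bm_le, fun _ => bm_wc, h.YB, h.NB, h.max, ZY,
    ⟨_, JJ_le_bm, fun T p q => JJ_le_iff.2 fun A a => m.gt (a.le.trans SM) a.ea (m.maxAb YS SM a).1 p fun t r =>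
      q t (a.le_JJ r), (abelem_le_Ohm1 (abelem_mono h.ab inf_le_left) (inf_le_inf_right _ YJ)).trans
        (cents_symm inf_le_right)⟩, h.star, h.nz, n4⟩

theorem _root_.H28.MS.gs : H27.MS.GS.{u} := fun h hs n4 => by
  obtain ⟨F, t⟩ := H28.MS.tt h hs n4
  exact ⟨⟨h, fun _ => t.b1, fun _ => t.rk', fun _ _ => t.tvC, fun _ => t.hypC, fun _ => t.comm⟩, F, t.toMo⟩
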