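import Cfsg.Agent.H2.ND2

/-! S4780: the field `fw` of the Camina property. -/

set_option autoImplicit false
set_option linter.unusedVariables false
set_option linter.unusedSectionVars false

open Subgroup MulAction H19 H20 H6 Cfsg H3.PT H3.GR H3.ND H24.ND
open scoped commutatorElement

namespace H28.NE

universe u
variable {G : Type u} [Group G] [Finite G] {N K : Subgroup G} {p : ℕ} [hN : N.Normal]

theorem stb (h : Nd N K p) (w : Du N) {x : G} (hx : x ∉ N) (e : x • w = w) (y : G) : y • w = w := by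
  have hS : N ≤ N ⊔ zpowers x := le_sup_left
  have hn : (N ⊔ zpowers x).Normal := nt (normal_of_der_le (h.dG.trans hS) le_top).norm
  have h0 : N ⊔ zpowers x ≤ stabilizer G w := sup_le (le_st w) (zpowers_le.2 e)
  obtain ⟨η, h1, h2⟩ := exists_ext_of_cyc (normalIn_top.of_le hS le_top) w.lin.irr
    (fun g hg y => congrFun ((Du.stab w).le (h0 hg)).2 y) rfl
  have d : deg η = 1 := by rw [← deg_Res (H := N), h2, w.lin.deg]
  obtain ⟨χ, a⟩ := exists_ovr le_top h1
  obtain ⟨b, c⟩ := mem_ovr.1 a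
  have k := le_cker_of_above b le_top (irr_chr h1) c nr (der_le _) ((der_le_cker h1).2 d)
  have l := deg_le_of_ab le_top b k
  rcases h.lf χ b ((der_mono hS).trans k) with e1 | e1
  · have h3 : ⁅(⊤ : Subgroup G), N⁆ ≤ N := commutator_le_right _ _
    refine (Du.mem_Fs (X := ⊤)).2 ?_ (mem_top y)
    rw [← h2]
    exact le_cker_Res h3 (le_cker_of_below (irr_chr b) le_top h1 c (h3.trans hS)
      ((commutator_mono le_rfl le_top).trans ((der_le_cker b).2 e1)))
  · rw [e1, relIndex_top_right, relIndex_top_right] at l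
    exact absurd (Subgroup.index_strictAnti (hS.lt_of_ne fun e =>
      hx (e.ge (mem_sup_right (mem_zpowers x))))) (not_lt.2 l)

theorem fn_ns (w : Du N) {n : G} (hn : n ∈ N) (k : ℕ) : (k • w).fn n = w.fn (n ^ k) := by
  induction k with
  | zero =>
    rw [zero_smul, pow_zero, w.lin.one, show (0 : Du N).fn = triv N from Ch.fn_one]
    simp [triv_apply, hn]
  | succ k ih => rw [succ_nsmul, Du.fn_add, Pi.mul_apply, ih, pow_succ, w.lin.map_mul (pow_mem hn k) hn]

theorem fix1 (h : Nd N K p) {g : G} (hg : N ⊔ zpowers g = ⊤) (w : Du N) (e : g • (g • w - w) = g • w - w) :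
    g • w = w := by
  by_contra n
  obtain ⟨a, ha⟩ : ∃ a, a = g • w - w := ⟨_, rfl⟩
  rw [← ha] at e
  have a0 : a ≠ 0 := ha ▸ sub_ne_zero.2 n
  obtain ⟨r, hr, d⟩ := Nat.exists_prime_and_dvd (n := addOrderOf a) (by simpa using a0)
  have := Fact.mk hr
  obtain ⟨j, s, hs, e1⟩ := Nat.exists_eq_pow_mul_and_not_dvd (addOrderOf_pos w).ne' r hr.ne_one
  obtain ⟨v, hv⟩ : ∃ v, v = s • w := ⟨_, rfl⟩
  have h2 : s • a = g • v - v := by rw [ha, hv, smul_sub, smul_comm]
  have h0 : g • s • a = s • a := by rw [smul_comm, e]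
  have k : ∀ k : ℕ, g ^ k • v = v + k • s • a := fun k => by
    induction k with
    | zero => simp
    | succ k ih =>
      rw [pow_succ', mul_smul, ih, smul_add, smul_comm g k, h0, succ_nsmul, eq_add_of_sub_eq h2.symm]
      abel
  have h1 : r ^ j • v = 0 := by rw [hv, smul_smul, ← e1, addOrderOf_nsmul_eq_zero]
  have h3 : s • a ≠ 0 := fun e => hs (d.trans (addOrderOf_dvd_of_nsmul_eq_zero e))
  have h4 : r ^ j • s • a = 0 := by rw [h2, smul_sub, smul_comm, h1, smul_zero, sub_zero]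
  have h5 : g ^ r ^ j ∈ N := by_contra fun e =>
    h3 (by rw [h2, stb h v e (by rw [k, h4, add_zero]) g, sub_self])
  have h6 : ∀ y : G, y ^ r ^ j ∈ N := fun y => by
    obtain ⟨m, hm, _, ⟨i, rfl⟩, rfl⟩ := (mem_sup_of_norm nr).1 (hg.ge (mem_top y))
    rw [← QuotientGroup.eq_one_iff] at h5 hm ⊢
    rw [QuotientGroup.mk_pow] at h5 ⊢
    rw [QuotientGroup.mk_mul, hm, one_mul, QuotientGroup.mk_zpow, ← zpow_natCast, ← zpow_mul, mul_comm, zpow_mul,
      zpow_natCast, h5, one_zpow]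
  have h7 : IsPGroup r (G ⧸ (cker v.fn).normalCore) := fun y => by
    obtain ⟨y, rfl⟩ := QuotientGroup.mk_surjective y
    refine ⟨j + j, ?_⟩
    rw [← QuotientGroup.mk_pow, QuotientGroup.eq_one_iff, pow_add, pow_mul]
    intro b
    have h8 := hN.conj_mem _ (h6 y) b
    rw [← conj_pow, v.lin.mem_cker (pow_mem h8 _), ← fn_ns v h8, h1, show (0 : Du N).fn = triv N from Ch.fn_one]
    simp [triv_apply, h8]
  obtain ⟨i, hi⟩ := IsPGroup.iff_card.1 h7
  have h9 := h.nq r _ hr inferInstance (by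
    rw [relIndex_top_right, Subgroup.index, hi]; exact PiN.prime_pow hr i)
  exact h3 (by
    rw [h2, (Du.mem_Fs (X := ⊤)).2 ((commutator_mono le_rfl le_top).trans (h9.trans (normalCore_le _)))
      (mem_top g), sub_self])

theorem ev (w : Du N) (y : G) {n : G} (hn : n ∈ N) : (y⁻¹ • w - w).fn n = w.fn (y * n * y⁻¹ * n⁻¹) := by
  have h1 := hN.conj_mem n hn y
  have h2 := congrFun (Du.fn_add (y⁻¹ • w - w) w) n
  rw [sub_add_cancel, Du.fn_smul, inv_inv, cfj_apply, Pi.mul_apply] at h2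
  refine mul_right_cancel₀ (w.lin.ne_zero hn) ?_
  rw [← h2, ← w.lin.map_mul (mul_mem h1 (inv_mem hn)) hn, inv_mul_cancel_right]

theorem fw (h : Nd N K p) : ∀ x, x ∉ N → Fpf N (Wd N) x := by
  intro x hx n hn hm
  obtain ⟨g, hg⟩ := h.cyc
  rw [← zpowers_inv] at hg
  have c : ∀ w : Du N, x⁻¹ • g⁻¹ • w = g⁻¹ • x⁻¹ • w := fun w => by
    have := le_st (g⁻¹ • x⁻¹ • w) (h.dG (commutator_mem_commutator (mem_top x⁻¹) (mem_top g⁻¹)))
    rw [mem_stabilizer_iff, smul_smul, smul_smul] at this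
    rw [← this, smul_smul]
    congr 1
    simp [commutatorElement_def]
  let I := Set.range fun w : Du N => g⁻¹ • w - w
  let T : I → I := fun v => ⟨x⁻¹ • v.1 - v.1, by
    obtain ⟨_, w, rfl⟩ := v
    exact ⟨x⁻¹ • w - w, by simp only [smul_sub, c]; abel⟩⟩
  have i : Function.Injective T := by
    rintro ⟨_, v, rfl⟩ ⟨_, w, rfl⟩ e
    have e1 := congrArg Subtype.val e
    have e2 : x⁻¹ • (g⁻¹ • (v - w) - (v - w)) = g⁻¹ • (v - w) - (v - w) := by
      simp only [T, smul_sub] at e1 ⊢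
      rw [← sub_eq_zero] at e1 ⊢
      rw [← e1]; abel
    have := fix1 h hg _ (stb h _ (mt inv_mem_iff.1 hx) e2 g⁻¹)
    refine Subtype.ext ?_
    simp only [smul_sub] at this ⊢
    rw [← sub_eq_zero] at this ⊢
    rw [← this]; abel
  have k : g * n * g⁻¹ * n⁻¹ ∈ ⁅N, N⁆ := by
    have h1 := mul_mem (hN.conj_mem n hn g) (inv_mem hn)
    refine Du.sep le_rfl (der_le N) h1 fun w _ => ?_
    obtain ⟨⟨_, v, rfl⟩, e⟩ := Finite.injective_iff_surjective.1 i ⟨_, w, rfl⟩
    have e1 := congrArg Subtype.val e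
    simp only [T] at e1
    rw [w.lin.mem_cker h1, ← ev w g hn, ← e1, ev _ x hn, ev v g (mem_W.1 hm).1]
    exact (v.lin.mem_cker (der_le N ((mem_W.1 hm).2 g))).1 (v.lin.der_le ((mem_W.1 hm).2 g))
  let f := QuotientGroup.mk' ⁅N, N⁆
  have q : ∀ y, y ∈ (centralizer {f n}).comap f ↔ y * n * y⁻¹ * n⁻¹ ∈ ⁅N, N⁆ := fun y => by
    rw [mem_comap, mem_centralizer_singleton_iff, ← QuotientGroup.eq_one_iff]
    change _ ↔ f _ = 1
    rw [map_mul, map_mul, map_mul, map_inv, map_inv, mul_inv_eq_one, mul_inv_eq_iff_eq_mul]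
  refine mem_W.2 ⟨hn, fun y => (q y).1 (hg.ge.trans (sup_le (fun m hm => (q m).2 ?_) ?_) (mem_top y))⟩
  · exact commutator_mem_commutator hm hn
  · rw [zpowers_inv]; exact zpowers_le.2 ((q g).2 k)

theorem cam : CAM.{u} := fun _ h => H2.ND.ca h (fw h)

end H28.NE
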