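import Cfsg.Agent.H28.NH5

/-!
N-groups, step 1: the case `|Y| = 16` is impossible.
-/

set_option autoImplicit false
set_option linter.unusedSectionVars false

open Cfsg Subgroup H18 H17.GS H28.S H2.GW
open H19 hiding eq_bot_mono
open H28.NG hiding Hyp Uniq

universe u

variable {G : Type u} [Group G] [Finite G] {a b c d e f g k m n s t u v w x y z : G}
  {A B D E F H I K L M N P Q R S T U V W X Y Z : Subgroup G}

theorem _root_.H28.NG.Mo.nC (h : Mo Y F) (hc : c ∈ N(Y)) (hg : g ∈ N(Y)) (k : g * c * g⁻¹ * c⁻¹ ∈ C(Y)) :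
    g ∈ N(Y ⊓ C[c]) := by
  simpa only [Cm_bot, cent_zpowers] using h.md.norm_cm (zpowers_le' hc) hg (cj_zp_le (by
    convert inv_mem (h.fs.nK.conj_mem (inv_mem hg) k) using 1; group))

theorem _root_.H28.NG.Cx.nA (h : Cx S B Y F Q E A v x a) (hc : c ∈ cj x A) (c0 : c ∉ C(Y)) : ¬ A ≤ C[c] :=
  fun k => c0 (h.DK (h.t0 hc (le_cent1_iff.1 k)))

theorem _root_.H28.NG.Cx.cN (h : Cx S B Y F Q E A v x a) (hc : c ∈ cj x A) (c0 : c ∉ C(Y)) : #(Y ⊓ C[c]) = 4 := by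
  have := (hyp_cent h.vv (le_Cm (h.hA.le.trans (h.Yv.trans h.nZ))
    ((commutator_mono le_rfl (zpowers_le' hc)).trans (h.br.trans h.eD.le))) (h.nA hc c0)).card
  rw [le_antisymm (inf_le_inf_right _ h.hA.le) (le_inf (h.Cy hc fun j => c0 (h.DK j)) inf_le_right), h.cA] at this
  omega

theorem _root_.H28.NG.Cx.vN (h : Cx S B Y F Q E A v x a) (hc : c ∈ cj x A) : v ∈ Y ⊓ C[c] :=
  ⟨h.vY, mem_cent1_symm.1 (h.symm.Yv (h.symm.hA.le hc))⟩

theorem _root_.H28.NG.Cx.stab (h : Cx S B Y F Q E A v x a) (hg : g ∈ F) (k : g ∈ C[v]) : g ∈ C(Y) :=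
  by_contra fun j => by
  obtain ⟨U, a, b, c⟩ := h.tp hg j h.vD h.v0 (mem_cent1_symm.1 k)
  exact c (le_cent1_iff.2 (cent_of_two ((card_le (a.trans h.eD.le)).trans h.cZ.le) b))

structure _root_.H28.NG.Ce (S B Y F Q E A : Subgroup G) (v x a f b c : G) : Prop
    extends Cx S B Y F Q E A v x a where
  fF : f ∈ F
  f0 : f ∉ C(Y)
  fo : Odd (orderOf f)
  hb : b ∈ cj x A
  bf : b * f * b⁻¹ * f ∈ C(Y)
  hc : c ∈ cj x A
  c0 : c ∉ C(Y)
  cf : f * c * f⁻¹ * c⁻¹ ∈ C(Y)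

section Ce
variable (h : Ce S B Y F Q E A v x a f b c)
include h

theorem _root_.H28.NG.Ce.fM : f ∈ N(Y) := h.FN h.fF

theorem _root_.H28.NG.Ce.fN : f ∈ N(Y ⊓ C[c]) := h.nC (h.BM h.hc) h.fM h.cf

theorem _root_.H28.NG.Ce.fv : f ∉ C[v] := mt (h.stab h.fF) h.f0

theorem _root_.H28.NG.Ce.NA : Y ⊓ C[c] ≤ A := h.Cy h.hc fun j => h.c0 (h.DK j)

theorem _root_.H28.NG.Ce.Nab : Abelem 2 (Y ⊓ C[c]) := abelem_mono h.ab inf_le_left

theorem _root_.H28.NG.Ce.orb : f * (f * v * f⁻¹) * f⁻¹ = v * (f * v * f⁻¹) ∧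
    ∀ w ∈ Y ⊓ C[c], w ≠ 1 → ∃ r ∈ zpowers f, r * v * r⁻¹ = w :=
  tr3a h.Nab (h.cN h.hc h.c0) h.fN h.fo (h.vN h.hc) h.fv

theorem _root_.H28.NG.Ce.sr (hs : ∀ w ∈ Y, w ≠ 1 → ∃ m ∈ N(Y), m * v * m⁻¹ = w) : False := by
  have fs := h.fs
  have st {w g} (p : w ∈ Y) (q : w ≠ 1) (r : g ∈ F) (s : g ∈ C[w]) : g ∈ C(Y) := by
    obtain ⟨m, m1, rfl⟩ := hs w p q
    simpa [mul_assoc] using fs.nK.conj_mem m1 (h.stab (fs.nF.conj_mem (inv_mem m1) r)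
      (mem_cj_inv.1 (by rwa [inv_inv, cj_cent1])))
  have cM := h.BM h.hc
  have XF : zpowers f ⊔ C(Y) ≤ F := sup_le (zpowers_le' h.fF) fs.le
  have cX {g} (p : g ∈ F) (q : g * c * g⁻¹ * c⁻¹ ∈ C(Y)) : g ∈ zpowers f ⊔ C(Y) := by
    obtain ⟨r, r1, r2⟩ := h.orb.2 _ (conj_mem_of_norm (h.nC cM (h.FN p) q) (h.vN h.hc)) (mt conj_eq_one_iff.1 h.v0)
    simpa using mul_mem_sup r1 (h.stab (mul_mem (inv_mem (zpowers_le' h.fF r1)) p)
      (mem_cent1_conj.2 (by rw [← conj_conj', ← r2]; group)))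
  have fn := fs.Fn h.fF
  have o3 : orderOf (qm C(Y) f) = 3 := orderOf_of_pow Nat.prime_three (by
    rw [← qm_pow fn, qm_eq_one (pow_mem fn 3)]
    refine h.stab (pow_mem h.fF 3) (mem_cent1_conj.2 ?_)
    have := sq_one h.ab (conj_mem_of_norm h.fM h.vY)
    rw [show f ^ 3 * v * (f ^ 3)⁻¹ = f * (f * (f * v * f⁻¹) * f⁻¹) * f⁻¹ by rw [pow_three']; group, h.orb.1,
      show f * (v * (f * v * f⁻¹)) * f⁻¹ = f * v * f⁻¹ * (f * (f * v * f⁻¹) * f⁻¹) by group, h.orb.1,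
      ab_comm h.ab h.vY (conj_mem_of_norm h.fM h.vY), ← mul_assoc, this, one_mul]) (mt (qm_eq_one fn).1 h.f0)
  have key {d} (p : d ∈ cj x A) (q : d * f * d⁻¹ * f ∈ C(Y)) {g} (r : g ∈ F ⊓ N(zpowers f ⊔ C(Y))) :
      d * g * d⁻¹ * g ∈ C(Y) := by
    have dM := h.BM p
    have ni (s : d * f * d⁻¹ * f⁻¹ ∈ C(Y)) : False := h.f0 (fs.of_sq h.fF (by
      convert mul_mem (inv_mem s) q using 1; group))
    have d0 : d ∉ C(Y) := fun s => ni (by simpa [mul_assoc] using mul_mem s (fs.nK.conj_mem h.fM (inv_mem s)))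
    refine fs.inv_of' dM (sq_one h.symm.Aab p ▸ one_mem _) d0 inf_le_left (norms_inf (zpowers_le' (fs.nF.norm dM))
      (norms_norm (zpowers_le' (mem_norm_of_cj_le (by
        rw [cj_sup, fs.nK.cj_eq dM]; exact sup_le (cj_zp_le' q) le_sup_right)))) (mem_zpowers d))
      (fun g r s => by_contra fun g0 => ?_) r
    obtain ⟨y, y1, y2, k, k1, e⟩ := fs.exists_odd r.1
    have yr := zpowers_le' r y1
    have yM := h.FN yr.1
    have yn := fs.Fn yr.1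
    have cd : y ∈ Cm C(Y) (zpowers d) := zpowers_le' ((mem_Cm1 (fs.nK.norm dM)).2 ⟨fs.Fn r.1, s⟩) y1
    have cm : y * f * y⁻¹ * f⁻¹ ∈ C(Y) := (quo_cents_iff (zpowers_le' yn) (zpowers_le' fn)).1 (cents_symm
      (le_of_prime_of_inf_ne_bot (by rw [quo_zp fn, Nat.card_zpowers, o3]; exact Nat.prime_three)
        (nil_meet_cent fs.nilq (quo_mono _ (zpowers_le' h.fF)) (quo_mono _ (zpowers_le' yr.1))
          (quo_sup_right (zpowers_le' fn) ▸ quo_norms (zpowers_le' yr.2))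
          (mt (quo_eq_bot_iff (zpowers_le' fn)).1 fun j => h.f0 (j (mem_zpowers f))))))
      (comm_mem (mem_zpowers y) (mem_zpowers f))
    have e1 := h.orb.1
    have e2 := (tr3a (abelem_mono h.ab inf_le_left) (h.cN p d0) (h.nC dM yM (cd.2 d (mem_zpowers d))) y2 (h.vN p)
      fun j => g0 (e ▸ mul_mem k1 (h.stab yr.1 j))).1
    have fc {z} (j : z⁻¹ * f ∈ C(Y)) (z1 : z ∈ zpowers y) : False := ni (by
      have := mul_mem (zpowers_le' cd z1) (Cm_self (zpowers_le' (fs.nK.norm dM)) j)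
      rw [mul_inv_cancel_left] at this
      convert inv_mem (this.2 d (mem_zpowers d)) using 1; group)
    have v1 := conj_mem_of_norm h.fM h.vY
    have v2 := conj_mem_of_norm yM h.vY
    have w1 := mul_mem v1 (mul_mem h.vY v2)
    by_cases w0 : f * v * f⁻¹ * (v * (y * v * y⁻¹)) = 1
    · refine fc (h.stab (mul_mem (inv_mem (mul_mem yr.1 yr.1)) h.fF) (mem_cent1_conj.2 ?_))
        (mul_mem (mem_zpowers y) (mem_zpowers y))
      rw [← conj_conj', eq_inv_of_mul_eq_one_left w0, inv_eq h.ab (mul_mem h.vY v2), ← e2]; group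
    refine fc (st w1 w0 (mul_mem (inv_mem yr.1) h.fF) (mem_cent1_conj.2 ?_)) (mem_zpowers y)
    have v3 := conj_mem_of_norm h.fM v2
    have e3 : y * (f * v * f⁻¹) * y⁻¹ = f * (y * v * y⁻¹) * f⁻¹ := by
      rw [← mem_cent1_conj.1 (cent_le_cent1 v3 cm)]; group
    have a2 : y * (f * v * f⁻¹ * (v * (y * v * y⁻¹))) * y⁻¹ = v * (f * (y * v * y⁻¹) * f⁻¹) := by
      rw [show y * (f * v * f⁻¹ * (v * (y * v * y⁻¹))) * y⁻¹ = y * (f * v * f⁻¹) * y⁻¹ * (y * v * y⁻¹ *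
        (y * (y * v * y⁻¹) * y⁻¹)) by group, e2, e3, ab_comm h.ab h.vY v2, ← mul_assoc (y * v * y⁻¹), sq_one h.ab v2,
        one_mul, ab_comm h.ab h.vY v3]
    rw [← conj_conj', show f * (f * v * f⁻¹ * (v * (y * v * y⁻¹))) * f⁻¹ = f * (f * v * f⁻¹) * f⁻¹ * (f * v * f⁻¹) *
      (f * (y * v * y⁻¹) * f⁻¹) by group, e1, mul_assoc v, sq_one h.ab v1, mul_one, ← a2]
    group
  obtain ⟨g, g1, g0⟩ := SetLike.not_le_iff_exists.1 (mt (fs.nil _ le_sup_right XF) fun e => h.c0 (fs.of_sq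
    (fs.cent c cM (e ▸ Cm_sup (zpowers_le' fn) le_normalizer (zpowers_le' (mem_Cm_symm (W := zpowers c)
      ((mem_Cm1 (fs.nK.norm cM)).2 ⟨fn, h.cf⟩) (mem_zpowers c) (fs.nK.norm cM)))
      (zpowers_le' (Cm_of_norm (fs.nK.norm cM) le_rfl)) (mem_zpowers c))) (sq_one h.symm.Aab h.hc ▸ one_mem _)))
  have bM := h.BM h.hb
  have gM := h.FN g1.1
  refine g0 (cX g1.1 ?_)
  have k1 := key h.hb h.bf g1
  have k2 := key (mul_mem h.hb h.hc) (by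
    convert mul_mem (fs.nK.conj_mem bM (inv_mem h.cf)) h.bf using 1; group) g1
  convert fs.nK.conj_mem (inv_mem bM) (mul_mem k1 (inv_mem k2)) using 1; group

theorem _root_.H28.NG.Ce.zeta (g1 : g ∈ C[v]) (ho : Odd (orderOf g)) (g2 : g * x * g⁻¹ * x⁻¹ ∈ Q)
    (g3 : g * a * g⁻¹ * a⁻¹ ∈ Q) : g ∈ C(A) := by_contra fun g0 => by
  have l {g} (p : g ∈ C[v]) (q : g * a * g⁻¹ * a⁻¹ ∈ Q) : cj g Y ≤ N(Y) := cj_le_iff.2 (hyp_le h.hA h.aY h.a0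
    (cj_le_iff.1 ((cj_le_of_mem_norm (h.fq.nK.norm p) h.AQ).trans h.QM)) (mem_cj_inv.2 (by
      simpa using mul_mem (h.QM q) (le_normalizer h.aY))))
  have c1 := h.comm (l g1 g3) (by
    rw [← cj_norm, le_cj_iff]
    exact l (inv_mem g1) (by convert inv_mem (h.fq.nK.conj_mem (inv_mem g1) g3) using 1; group))
  have gA : g ∈ N(A) := mem_norm_of_cj_le ((le_inf (cj_le_of_mem_norm (h.nW' g1 g2) le_sup_left)
    ((cj_mono g h.hA.le).trans (c1.trans (cent_mono h.hA.le)))).trans h.WA.le)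
  have gM : g ∈ N(Y) := h.max _ (h.hyp.chC h.Y0 h.ab).ne (Oc_pi _ _) (norms_Oc _ (norm_le_norm_cent Y))
    (norm_le_norm_Oc _ _ (le_antisymm h.CA (cent_mono h.hA.le) ▸ norm_le_norm_cent A gA))
  have cj {w r} (p : r ∈ N(Y)) (q : ∃ m ∈ N(Y), m * v * m⁻¹ = r⁻¹ * w * r) : ∃ m ∈ N(Y), m * v * m⁻¹ = w :=
    q.elim fun m q => ⟨r * m, mul_mem p q.1, by rw [← conj_conj', q.2]; group⟩
  have oN {w} (p : w ∈ Y ⊓ C[c]) (q : w ≠ 1) : ∃ m ∈ N(Y), m * v * m⁻¹ = w :=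
    (h.orb.2 w p q).imp fun r j => ⟨zpowers_le' h.fM j.1, j.2⟩
  have ne {w r : G} (q : w ≠ 1) : r⁻¹ * w * r ≠ 1 := by simpa using mt (conj_eq_one_iff (a := r⁻¹)).1 q
  have ZN := zpowers_le' (h.vN h.hc)
  have oA {w} (p : w ∈ A) (q : w ≠ 1) : ∃ m ∈ N(Y), m * v * m⁻¹ = w := by
    by_cases k : w ∈ zpowers v
    · exact oN (ZN k) q
    have n := conj_mem_of_norm h.fN (h.vN h.hc)
    obtain ⟨r, r1, r2⟩ := (ea_of h.Aab h.ZA).tr3 (by rw [h.cA, h.cZ]) gA (h.nZ g1) ho (mt (cent_of_stable ho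
      (pg_zpowers h.vv) (cent_zpowers v ▸ g1)) g0) (h.NA n) (fun j => ((mem_zp h.vv).1 j).elim
        (mt conj_eq_one_iff.1 h.v0) (mt mem_cent1_conj.2 h.fv)) p k
    refine cj (zpowers_le' gM r1) (oN ?_ (ne q))
    convert mul_mem n (ZN (conj_mem_of_norm' (zpowers_le' (h.nZ g1) r1) r2)) using 1; group
  refine h.sr fun w p q => ?_
  by_cases k : w ∈ Y ⊓ C[c]
  · exact oN k q
  obtain ⟨α, a1, a2⟩ := SetLike.not_le_iff_exists.1 (h.nA h.hc h.c0)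
  obtain ⟨r, r1, r2⟩ := (ea_of h.ab inf_le_left).tr3 (by rw [h.cN h.hc h.c0, h.eta.1.2]) h.fM h.fN h.fo
    (fun j => h.nA h.hc h.c0 ((le_inf le_rfl (cj_of_mem_norm (inv_mem (norm_of_Cm (zpowers_le' j) h.NA h.hA.le
      (mem_zpowers f)))).ge).trans (h.AC h.fF h.f0 h.fo h.hb h.bf h.hc h.cf))) (h.hA.le a1) (fun j => a2 j.2) p k
  refine cj (zpowers_le' h.fM r1) (oA ?_ (ne q))
  convert mul_mem a1 (h.NA (conj_mem_of_norm' (zpowers_le' h.fN r1) r2)) using 1; group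

theorem _root_.H28.NG.Ce.KW (hk : k ∈ C(Y)) : k ∈ N(A ⊔ cj x A) := by
  have fq := h.fq
  have av := h.Yv h.aY
  have aa := sq_one h.ab h.aY
  obtain ⟨z, z1, z0, z2⟩ := fq.center (N := cm E a ⊔ Q) ⟨sup_le (cm_le (fq.nF.norm av)) fq.le,
    norms_sup (cm_norm E a) fq.Fn⟩ fun j => h.x0 (fq.of_sq h.xE (j (mem_sup_left (h.sq ▸ mem_cm h.xE))))
  have zE := sup_le (cm_le (fq.nF.norm av)) fq.le z1
  have nC := norms_Cm fq.nK.norm fq.nF.norm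
  by_cases i : z * a * z⁻¹ * a⁻¹ ∈ Q
  · exfalso
    obtain ⟨y, y1, y2, q, q1, e⟩ := fq.exists_odd zE
    have yE := zpowers_le' zE y1
    have ya := zpowers_le' ((mem_Cm1 (fq.nK.norm av)).2 ⟨z2.1, i⟩) y1
    have yc := zpowers_le' z2 y1
    have l : Kc A E ≤ Q := Kc_le_of h.AQ fq.Fn
    have nT : E ≤ N(Cm (Kc A E) Q) := norms_Cm Kc_norm fq.Fn
    have c1 : y ∈ C(Kc A E) := le_cent1_iff.1 (Kc_le_of_cj fun g p => by
      have gy := Cm_self fq.Fn ((inv_mem yc).2 g p)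
      rw [cj_le_iff, cj_cent1, le_cent1_iff]
      refine h.zeta (fq.FP (fq.nF.conj_mem (inv_mem (fq.FP p)) yE)) (orderOf_conj' _ y ▸ y2)
        ((conj_mem_of_norm (nC (inv_mem (fq.FP p))) yc).2 x h.xE) (And.right (?_ : _ ∈ Cm Q (zpowers a)) a (mem_zpowers a))
      convert mul_mem (Cm_self (zpowers_le' (fq.nK.norm av)) ((mem_Cm_symm yc (inv_mem p)
        (inv_mem (fq.Fn p))).2 y (mem_zpowers y))) ya using 1
      group)
    have aT : a ∈ Cm (Kc A E) Q := Cm_mono le_Kc (norm_of_Cm (zpowers_le' h.aW) le_Kc l) (zpowers_le' h.aW)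
      (mem_zpowers a)
    have c2 := mem_O2r (sup_le_sup_right (cm_le_of_mem aT nT) Q (zpowers_le' z1 y1)) y2
    rw [O2r_sup h.Qpg (fq.le.trans nT)] at c2
    have ch := (h.hyp.ch1 h.v0 h.vv).le
    rw [← h.eQ] at ch
    exact z0 (e ▸ mul_mem q1 (ch ⟨fq.FP yE, cent_of_stable y2 (h.Qpg.of_le l) c1 (O2r_le _ c2)⟩))
  have kv : k ∈ C[v] := cent_le_cent1 h.vY hk
  have iC : z * a * z⁻¹ * a⁻¹ ∈ Cm Q E := by
    simpa [mul_assoc] using mul_mem z2 (conj_mem_of_norm (nC av) (inv_mem z2))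
  have xC : x ∈ Cm Q E := by
    rcases h.four (fq.cent _ (fq.FP (cm_le (fq.nF.norm av) (mem_cm zE))) iC) (by
      rw [inv_eq_of_mul_eq_one_left aa, show a * (z * a * z⁻¹ * a) * a * (z * a * z⁻¹ * a) =
        a * (z * a * z⁻¹ * (a * a) * z * a * z⁻¹) * a by group, aa, show a * (z * a * z⁻¹ * 1 * z * a * z⁻¹) * a =
        a * (z * (a * a) * z⁻¹) * a by group, aa]
      simpa [aa] using one_mem Q) (iC.2 x h.xE) with j | j | j
    exacts [(i j).elim, inv_mem_iff.1 ((mul_mem_cancel_right iC).1 (Cm_self fq.Fn j)),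
      (mul_mem_cancel_right iC).1 (Cm_self fq.Fn j)]
  have gE := fq.nF.conj_mem kv h.xE
  refine h.nW kv (mem_norm_of_cj_le ?_)
  rw [cj_sup, fq.nK.cj_eq kv, cj_zpowers]
  refine sup_le (zpowers_le' ?_) le_sup_right
  have x1 : x ∈ zpowers x ⊔ Q := mem_sup_left (mem_zpowers x)
  rcases h.four gE (by
    rw [conj_conj', mem_cent.1 hk a h.aY, ← conj_conj', h.inv]; simp) (by
      convert inv_mem (xC.2 _ gE) using 1; group) with j | j | j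
  exacts [mem_sup_right j, (mul_mem_cancel_left (inv_mem x1)).1 (mem_sup_right j),
    (mul_mem_cancel_left x1).1 (mem_sup_right j)]

theorem _root_.H28.NG.Ce.BC : cj x A ≤ Cm Y C(Y) := fun d p => ⟨h.BM p, fun k q => h.hA.le (h.WA.le
  ⟨by simpa [mul_assoc] using mul_mem (mem_sup_right p) (conj_mem_of_norm (h.KW q) (inv_mem (mem_sup_right p))),
    cent_mono h.hA.le (mul_mem (h.fs.nK.conj_mem (h.BM p) q) (inv_mem q))⟩)⟩

theorem _root_.H28.NG.Ce.fin (hf : f ∈ Cm Y C(Y)) : False := by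
  have cY := h.symm.hA.le h.hc
  have cc := sq_one h.symm.ab cY
  have cM := h.BM h.hc
  have ZN := zpowers_le' (h.vN h.hc)
  have l : Y ⊓ C[c] ⊔ zpowers c ≤ A ⊔ cj x A := sup_le_sup h.NA (zpowers_le' h.hc)
  have ab := abelem_sup_zp h.Nab cc inf_le_right
  have fc : f * c * f⁻¹ * c⁻¹ ∈ Y := And.right (mem_of_sq (T := Cm Y (zpowers c)) h.fo ((mem_Cm1 cM).2
    ⟨mul_mem h.fM h.fM, by
      convert mul_mem (hf.2 _ h.cf) (inv_mem ((h.BC h.hc).2 _ h.cf)) using 1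
      refine Eq.trans ?_ (show f * f * c * f⁻¹ * c⁻¹ * f⁻¹ * (c * c) * f * c * (c * c)⁻¹ * f⁻¹ * c⁻¹ = _ by simp [mul_assoc])
      rw [cc]; group⟩)) c (mem_zpowers c)
  have fU : f ∈ N(Y ⊓ C[c] ⊔ zpowers c) := norm_sup_zp ((cj_of_mem_norm h.fN).trans_le le_sup_left) (by
    simpa using mul_mem_sup (show _ ∈ Y ⊓ C[c] from ⟨fc, comm_of_sq (sq_one h.ab fc) cc (by
      simpa using conj_sq cc f)⟩) (mem_zpowers c))
  obtain ⟨n, e⟩ : ∃ n, f * v * f⁻¹ = n := ⟨_, rfl⟩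
  have hn : n ∈ Y ⊓ C[c] := e ▸ conj_mem_of_norm h.fN (h.vN h.hc)
  have n0 : n ∉ zpowers v := fun j => ((mem_zp h.vv).1 (e.symm ▸ j : f * v * f⁻¹ ∈ zpowers v)).elim
    (mt conj_eq_one_iff.1 h.v0) (mt mem_cent1_conj.2 h.fv)
  have gen {T} (p : v ∈ T) (q : n ∈ T) : Y ⊓ C[c] ≤ T :=
    hyp_le (hyp_of_card ZN (by rw [h.cZ, h.cN h.hc h.c0])) hn n0 (zpowers_le' p) q
  have nA := h.NA hn
  have nB := (conj_mem_cj (g := x)).2 nA
  have W1 : n ∈ A ⊔ cj x A := mem_sup_left nA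
  have W2 : x * n * x⁻¹ ∈ A ⊔ cj x A := mem_sup_right nB
  have W3 := conj_mem_of_norm h.xW.1 W2
  have t3 : n * (x * n * x⁻¹) * (x * (x * n * x⁻¹) * x⁻¹) ∈ zpowers v := by
    have W4 := mul_mem (mul_mem W1 W2) W3
    refine h.Wx (((h.es.ea.cent_eq (og_zp h.odd) (zpowers_le' h.xW.1) (zpowers_le' (h.nZ h.xv))
      (zp_cent (zpowers_le' h.xv))).trans (by rw [cent_zpowers])).le ⟨W4, mem_Cm_symm (W := zpowers _)
        ((mem_Cm1 (h.es.ea.norm W4)).2 ⟨h.nZ h.xv, ?_⟩) (mem_zpowers _) (h.es.ea.norm W4)⟩)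
    convert h.es.ea.ab (comm_mem (inv_mem W1) W4) using 1
    rw [show x * (n * (x * n * x⁻¹) * (x * (x * n * x⁻¹) * x⁻¹)) * x⁻¹ =
      x * n * x⁻¹ * (x * (x * n * x⁻¹) * x⁻¹) * (x * x * x * n * (x * x * x)⁻¹) by group, h.x3]
    group
  have bY := h.symm.hA.le nB
  have bb := sq_one h.symm.ab bY
  have b1 := mem_cent1_self (x * n * x⁻¹)
  have e2 : a * (x * n * x⁻¹) * a⁻¹ = x * (x * n * x⁻¹) * x⁻¹ := by
    rw [show a * (x * n * x⁻¹) * a⁻¹ = a * x * a⁻¹ * (a * n * a⁻¹) * (a * x * a⁻¹)⁻¹ by group, h.inv,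
      mem_cent1_conj.1 (ab_cent1 h.ab hn.1 h.aY), show x * (x * n * x⁻¹) * x⁻¹ =
        x⁻¹ * (x * x * x) * n * (x * x * x)⁻¹ * x by group, h.x3]
    group
  have nb : n ∈ C[x * n * x⁻¹] := (mul_mem_cancel_right b1).1 ((mul_mem_cancel_right (e2 ▸ (mul_mem_cancel_right
    (inv_mem b1)).1 (cm_cent h.ab (h.BM nB) bb (mem_cm h.aY)))).1
      (zpowers_le' (ab_cent1 h.symm.ab bY h.symm.vY) t3))
  have nA' : n ∈ cj x⁻¹ (cj x A) := by simpa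
  have gen' {T w} (r : w ∈ cj x Y ⊓ C[n]) (s : w ∉ zpowers v) (p : v ∈ T) (q : w ∈ T) : cj x Y ⊓ C[n] ≤ T :=
    hyp_le (hyp_of_card (zpowers_le' (h.symm.vN nA')) (by
      rw [h.cZ, h.symm.cN nA' fun j => n0 (h.symm.eD.le (h.symm.BK ⟨nA', j⟩))])) r s (zpowers_le' p) q
  have r1 : c ∈ cj x Y ⊓ C[n] := ⟨cY, mem_cent1_symm.1 hn.2⟩
  have r2 : x * n * x⁻¹ ∈ cj x Y ⊓ C[n] := ⟨bY, mem_cent1_symm.1 nb⟩
  have s1 : c ∉ zpowers v := fun j => h.c0 (h.DK (h.eD.ge j))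
  have s2 : x * n * x⁻¹ ∉ zpowers v := fun j => n0 (conj_mem_cj.1 ((cj_of_mem_norm (h.nZ h.xv)).ge j))
  set U := Y ⊓ C[c] ⊔ zpowers c
  have vU : v ∈ U := mem_sup_left (h.vN h.hc)
  have nU : n ∈ U := mem_sup_left hn
  have bU := gen' r1 s1 vU (mem_sup_right (mem_zpowers c)) r2
  have vx {T} (p : v ∈ T) : v ∈ cj x⁻¹ T := mem_cj_inv.2 ((mem_cent1_conj.1 h.xv).symm ▸ p)
  have xU : x ∈ N(U) := norm_sup_zp (cj_le_iff.2 (gen (vx vU) (mem_cj_inv.2 bU))) (mem_cj_inv.1 (gen' r2 s2 (vx vU)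
    (mem_cj_inv.2 ((mul_mem_cancel_left (mul_mem nU bU)).1 (zpowers_le' vU t3))) r1))
  have WU : A ⊔ cj x A ≤ N(U) := norms_of_commg_le (((commutator_mono l le_rfl).trans h.es.ea.ab).trans
    (zpowers_le' vU))
  have YU : Y ≤ N(U) := fun y p => norm_sup_zp ((cj_of_mem_norm (norms_of_comm h.ab.1 le_rfl inf_le_left p)).trans_le
    le_sup_left) (by
      simpa using mul_mem_sup (le_inf (cm_le cM) (cm_cent h.ab cM cc) (mem_cm p)) (mem_zpowers c))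
  obtain ⟨F', m⟩ := exists_Mo ab (h.hyp.sol _ (ne_bot_of_mem vU h.v0) (ab_pg ab)) fun N p q => by
    have nN : N(U) ≤ N(U ⊓ C(N)) := norms_inf le_rfl (norms_cent p.norm)
    obtain ⟨u, u1, u2⟩ := exists_ne_one (((ab_pg ab).infl _).meet_cent h.es.ea.pgV (WU.trans nN)
      (meet_cent_rel (ab_pg ab) (ne_bot_of_mem vU h.v0) p.le q))
    have v1 : v ∈ U ⊓ C(N) := ((mem_zp h.vv).1 (h.es.cen ⟨l u1.1.1, u1.2⟩)).resolve_left u2 ▸ u1.1
    have n1 : n ∈ U ⊓ C(N) := e ▸ conj_mem_of_norm (nN fU) v1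
    exact cents_symm ((sup_le (gen v1 n1) (zpowers_le' (gen' r2 s2 v1 (conj_mem_of_norm (nN xU) n1) r1))).trans
      inf_le_right)
  have c1 := m.rk' YU h.ab
  have c2 := card_le (le_inf le_sup_left (inf_le_left.trans (ab_cent h.ab)) : Y ⊓ C[c] ≤ U ⊓ C(Y))
  have c3 := card_le (inf_le_inf_left Y (cent_le_cent1 (mem_sup_right (mem_zpowers c) : c ∈ U)))
  have c4 := Nat.le_of_dvd (Nat.mul_pos (card_pos _) (card_pos _))
    (card_sup_dvd (norms_of_comm ab.1 (le_sup_right : _ ≤ U) (le_sup_left : _ ≤ U)))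
  rw [h.cN h.hc h.c0] at c2 c3 c4
  rw [card_zp cc fun j => s1 (j ▸ one_mem _)] at c4
  rw [h.eta.1.2] at c1
  nlinarith

end Ce

theorem _root_.H28.NG.Cx.false (h : Cx S B Y F Q E A v x a) : False := by
  obtain ⟨-, f, f1, f0, fo, b, hb, bf, c, hc, c0, cf⟩ := h.eta
  have e : Ce S B Y F Q E A v x a f b c := ⟨h, f1, f0, fo, hb, bf, hc, c0, cf⟩
  obtain ⟨y, y1, y2, y3, y4⟩ := h.fs.exi (h.BM hb) (sq_one h.symm.Aab hb) f1 bf
  have n := h.fs.nK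
  refine Ce.fin (f := y) ⟨h, (mul_mem_cancel_left (inv_mem f1)).1 (h.fs.le y4), fun j => f0 (inv_mem_iff.1
    ((mul_mem_cancel_right j).1 y4)), y2, hb, by rw [y3, inv_mul_cancel]; exact one_mem _, hc, c0, ?_⟩
    (zpowers_le' (mul_mem (conj_mem_of_norm (norms_Cm le_rfl n.norm e.fM) (e.BC hb)) (inv_mem (e.BC hb))) y1)
  convert mul_mem (n.conj_mem e.fM (mul_mem y4 (n.conj_mem (h.BM hc) (inv_mem y4)))) cf using 1
  group

theorem _root_.H28.NG.St.false (h : St S B Y F) : False := by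
  obtain ⟨v, v1, v0, k⟩ := h.case2
  have vv := sq_one h.ab v1
  obtain ⟨E, e⟩ := exists_FS (Oc_normal {2} C[v]) ((h.hyp.ch1 v0 vv).sol h.hyp) fun N a b c =>
    le_Oc a (PiN.of_relIndex' b (Oc_pi _ _) c)
  have Yv := ab_cent1 h.ab v1
  obtain ⟨A, x, a1, -, x1, x0, -, xA, q⟩ := e.dl Yv ((ea_bot h.ab).ab.trans bot_le)
    (fun _ p => sq_one h.ab p ▸ one_mem _) k
  obtain ⟨a, aY, a0⟩ := hyp_ex a1
  obtain ⟨y, y1, y2, y3, y4⟩ := e.exi (Yv aY) (sq_one h.ab aY) x1 (q a aY a0)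
  exact Cx.false ⟨h, v1, v0, rfl, e, a1, (mul_mem_cancel_left (inv_mem x1)).1 (e.le y4), fun j => x0 (inv_mem_iff.1
    ((mul_mem_cancel_right j).1 y4)), y2, (mul_mem_cancel_left (inv_mem xA)).1
      (Cm_self ((a1.le.trans Yv).trans e.nK.norm) y4), aY, a0, y3⟩
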