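/-
S1730, the endgame `ON`: the section `L₃(4)` (after `H19.JJ`).
-/
import Cfsg.Agent.H28.ON1

set_option autoImplicit false
set_option linter.unusedSectionVars false
set_option linter.style.haveILetI false

open Cfsg Subgroup H17.GS H17.TS
open H19 hiding eq_bot_mono
open H25.RT (EA V4 F4 R3 Fu inv2 csq cne l4 r4 V4_le mem_ext)
open H17.FX (ex_sup ex_zp cent_bd)
open H24.E8 (relIndex_le_of_fun surj_of_fun two_mul_le')
namespace H28.ON

universe u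
variable {G : Type u} [Group G] [Finite G] {a b c d e f g h k n p q r s t u v w x y z ρ : G}
  {A B D E H J K L M N O P Q R S T U V W X Y Z A' : Subgroup G}
local notation "𝐪" => Fintype.card

/-- a group with Sylow 2-subgroup of type `L₃(4)` -/
structure Sc (W Q E : Subgroup G) (ρ y : G) : Prop where
  sW : Syl 2 W ⊤
  cW : #W = 64
  QW : Q ≤ W
  cQ : #Q = 16
  ab : Q ≤ C(Q)
  EQ : E ≤ Q
  cE : #E = 4
  eE : EA E
  EZ : E ≤ C(W)
  sq : ∀ w ∈ W, w * w ∈ E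
  sv : ∀ e ∈ E, ∃ x ∈ Q, x * x = e
  cq : ∀ w ∈ W, w ∉ Q → ∀ x ∈ Q, x ∈ C[w] → x ∈ E
  ρW : ρ ∈ N(W)
  ρQ : ρ ∈ N(Q)
  ρE : ∀ e ∈ E, e ∈ C[ρ] → e = 1
  irr : ∀ D, Q ≤ D → D ≤ W → ρ ∈ N(D) → D = Q ∨ D = W
  yW : y ∈ W
  y0 : y ∉ Q
  yy : y * y = 1

section
variable (o : Sc W Q E ρ y)
include o
theorem scEW : E ≤ W := o.EQ.trans o.QW
theorem sccm (hx : x ∈ W) (hz : z ∈ W) : x * z * x⁻¹ * z⁻¹ ∈ E := H24.E8.comm_mem o.sq hx hz
theorem scn (l : E ≤ X) (l' : X ≤ W) : W ≤ N(X) := fun _ hw => ncm l fun _ hx => sccm o hw (l' hx)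
theorem scom (hx : x ∈ Q) (e : x * x = 1) : x ∈ E := by_contra fun x0 => by
  have k := ex_sup o.eE (ex_zp e) (cents_mono o.ab o.EQ (zpowers_le' hx))
  have l : E ⊔ zpowers x ≤ Q := sup_le o.EQ (zpowers_le' hx)
  have h1 := H24.E8.le_relIndex_of_fun (K := E ⊔ zpowers x) (fun x => x * x) o.sv fun u hu v hv c => by
    have e := cm' o.ab hu (l c)
    calc u * u = u * u * (u⁻¹ * v * (u⁻¹ * v)) := by rw [k _ c, mul_one]
      _ = u * (u * (u⁻¹ * v)) * (u⁻¹ * v) := by group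
      _ = v * v := by rw [e]; group
  have h2 := card_mul_relIndex l
  have h3 := H24.E8.two_mul_le' (le_sup_left : E ≤ E ⊔ zpowers x) tL x0
  rw [o.cE] at h1 h3
  have := Nat.mul_le_mul h3 h1
  rw [h2, o.cQ] at this; omega
theorem scnE (h1 : g ∈ N(Q)) : g ∈ N(E) := mno fun e he => by
  obtain ⟨x, hx, rfl⟩ := o.sv e he
  rw [← conj_mul]; exact o.sq _ (o.QW (conj_mem_of_norm h1 hx))
theorem scf (hx : x ∈ W) (c : x ∈ C[ρ]) : x = 1 := by
  have e := o.ρE _ (o.sq x hx) (mul_mem c c)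
  refine o.ρE x (scom o (by_contra fun x0 => ?_) e) c
  have n := scn o o.EQ o.QW hx
  have := cardz n (e ▸ one_mem _)
  rcases o.irr (Q ⊔ zpowers x) le_sup_left (sup_le o.QW (zpowers_le' hx))
    (mns o.ρQ (cent1_le_norm_zpowers x (mem_cent1_symm.1 c))) with k | k
  · exact x0 (k ▸ tL)
  · rw [k, o.cW, o.cQ] at this; omega
theorem scr : ∃ r ∈ N(W), r ∈ N(Q) ∧ (∀ x ∈ W, x ∈ C[r] → x = 1) ∧ r * r * r ∈ C(W) := by
  obtain ⟨h1, h2, h3⟩ := constt_spec {2} ρ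
  generalize constt {2} ρ = s at *
  obtain ⟨r, rfl⟩ : ∃ r, ρ = s * r := ⟨s⁻¹ * ρ, by group⟩
  rw [inv_mul_cancel_left] at h3
  have m : r ∈ zpowers (s * r) := by simpa using mul_mem (inv_mem h1) (mem_zpowers _)
  have nW := zpowers_le' o.ρW m
  have nQ := zpowers_le' o.ρQ m
  have nE := scnE o nQ
  have f : ∀ x ∈ W, x ∈ C[r] → x = 1 := fun x hx c => by_contra fun x1 => by
    obtain ⟨w, ⟨⟨h4, h5⟩, h6⟩, w1⟩ := exists_ne_one ((o.sW.pi.infl C[r]).meet_cent (piG_zpowers.2 h2) (zpowers_le' (mni (zpowers_le' o.ρW h1)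
      (cent_zpowers r ▸ norm_le_norm_cent _ (cent1_le_norm_zpowers r (mem_cent1.2
        (mul_comm_of_comm (comm_zpowers _) h1 m)))))) (ne_bot_of_mem ⟨hx, c⟩ x1))
    exact w1 (scf o h4 (mem_cent1_symm.1 (mul_mem (mem_cent1_symm.1 (cent_zpowers s ▸ h6)) (mem_cent1_symm.1 h5))))
  refine ⟨r, nW, nQ, f, ?_⟩
  have od : OG (zpowers (r * r * r)) := piG_zpowers.2 (h3.e_of_mem_zpowers
    (mul_mem (mul_mem (mem_zpowers r) (mem_zpowers r)) (mem_zpowers r)))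
  have n3 : ∀ {X : Subgroup G}, r ∈ N(X) → r * r * r ∈ N(X) := fun h => mul_mem (mul_mem h h) h
  have cE : r * r * r ∈ C(E) := mem_cent.2 fun e he => by_contra fun k => by
    have e1 : e ≠ 1 := fun c => k (by simp [c])
    have ne : ∀ {u : G}, u ∈ E → u ≠ 1 → r * u * r⁻¹ ≠ u ∧ r * r * u * (r * r)⁻¹ ≠ u := fun hu u1 =>
      ⟨fun c => u1 (f _ (scEW o hu) (mem_cent1.2 (comm_of_cj c).symm)), fun c => u1 (f _ (scEW o hu)
        (mem_cent1_symm.1 (osq h3 (mem_cent1.2 (comm_of_cj c)))))⟩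
    have a1 := conj_mem_of_norm nE he
    have a2 := conj_mem_of_norm (mul_mem nE nE) he
    have a3 := conj_mem_of_norm (n3 nE) he
    have b1 := ne a1 (cne e1 r)
    have b2 := (ne a2 (cne e1 _)).1
    rw [conj_conj', conj_conj'] at b1
    rw [conj_conj', ← mul_assoc] at b2
    have b3 : r * r * r * e * (r * r * r)⁻¹ ≠ e := fun c => k (comm_of_cj c).symm
    obtain ⟨b4, b5⟩ := ne he e1
    have q := fun w => four (w := w) o.eE o.cE he a1 e1 (cne e1 r) b4.symm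
    rcases q _ a3 with c | c | c | c
    exacts [cne e1 _ c, b3 c, b1.2 c,
      b2 (c.trans (((q _ a2).resolve_left (cne e1 _)).resolve_left b5 |>.resolve_left b1.1).symm)]
  generalize r * r * r = t at *
  have cQ : zpowers t ≤ C(Q) := cents_of_stable (o.eE.pg.coprime od) (zpowers_le' cE) (commg_le_iff.2 fun x hx u hu => by
    have n := zpowers_le' (n3 nQ) hu
    have c := cm' o.ab hx (conj_mem_of_norm n (inv_mem hx))
    refine scom o (comm_mem_l hx n) ?_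
    calc _ = x * (u * x⁻¹ * u⁻¹ * x) * (u * x⁻¹ * u⁻¹) := by group
      _ = x * x * (u * (x * x)⁻¹ * u⁻¹) := by rw [← c]; group
      _ = 1 := by rw [cj_comm' (cm (zpowers_le' cE hu) (inv_mem (o.sq x (o.QW hx)))).symm, mul_inv_cancel])
  refine zpowers_le.1 (cents_of_stable ((o.sW.pi.of_le o.QW).coprime od) cQ (commg_le_iff.2 fun w hw u hu => by_contra fun k => ?_))
  obtain ⟨x, hx, x0⟩ := SetLike.exists_of_lt (lt_of_le_of_ne o.EQ fun e => absurd (o.cE ▸ e ▸ o.cQ) (by decide))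
  refine x0 (o.cq _ (comm_mem_l hw (zpowers_le' (n3 nW) hu)) k x hx (mem_cent1.2 ?_))
  have c1 := cm (cQ hu) hx
  have c2 := cm (cQ hu) (H19.conj_mem_of_norm' (scn o o.EQ o.QW hw) hx)
  calc x * (w * u * w⁻¹ * u⁻¹) = w * (w⁻¹ * x * w * u) * w⁻¹ * u⁻¹ := by group
    _ = w * u * w⁻¹ * (x * u⁻¹) := by rw [c2]; group
    _ = _ := by rw [show x * u⁻¹ = u⁻¹ * x from (Commute.inv_right c1).eq]; group
end

/-- an elementary abelian subgroup of order 16 -/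
structure Fr (W Q E A : Subgroup G) : Prop where
  e : EA A
  EA : E ≤ A
  AW : A ≤ W
  AQ : ∀ x ∈ A, x ∈ Q → x ∈ E
  su : ∀ w ∈ W, ∃ x ∈ A, x⁻¹ * w ∈ Q
  c : #A = 16


section
variable (o : Sc W Q E ρ y)
include o
theorem scF (hx : x ∈ W) (x0 : x ∉ Q) (xx : x * x = 1) : ∃ A, Fr W Q E A ∧ x ∈ A := by
  obtain ⟨r, nW, nQ, f, c⟩ := scr o
  have h1 := fpf3 nW f c hx
  have h2 := fpf3c nW f c hx
  have n0 : ∀ {x : G}, x ∉ Q → r * x * r⁻¹ ∉ Q := fun h k => h (by simpa [mul_assoc] using H19.conj_mem_of_norm' nQ k)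
  have hw := conj_mem_of_norm nW hx
  have w0 := n0 x0
  have k0 : x * (r * x * r⁻¹) ∉ Q := fun k => n0 w0 (by rw [eq_inv_of_mul_eq_one_right h1]; exact inv_mem k)
  have k : F4 x (r * x * r⁻¹) := ⟨xx, csq xx r, h2, fun e => x0 (e ▸ one_mem _), fun e => w0 (e ▸ one_mem _),
    fun e => k0 (by rw [← e, xx]; exact one_mem _)⟩
  generalize r * x * r⁻¹ = w at *
  have l : V4 x w ≤ W := V4_le hx hw
  have d : Q ⊓ V4 x w = ⊥ := eq_bot_iff.2 fun v ⟨h3, h4⟩ => by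
    rcases k.mem.1 h4 with rfl | rfl | rfl | rfl
    exacts [one_mem _, (x0 h3).elim, (w0 h3).elim, (k0 h3).elim]
  have nQ := l.trans (scn o o.EQ o.QW)
  have nE := l.trans (scn o le_rfl (scEW o))
  have s : Q ⊔ V4 x w = W := eq_of_le_of_card_eq (sup_le o.QW l) (by rw [card_sup_of_disjoint nQ d, k.card, o.cQ, o.cW])
  refine ⟨E ⊔ V4 x w, ⟨ex_sup o.eE k.ea (cents_mono o.EZ le_rfl l), le_sup_left, sup_le (scEW o) l, fun v h3 h4 => ?_,
    fun v hv => ?_, ?_⟩, mem_sup_right l4⟩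
  · have : v ∈ (E ⊔ V4 x w) ⊓ Q := ⟨h3, h4⟩
    rwa [sup_inf_modl nE o.EQ, inf_comm, d, sup_bot_eq] at this
  · obtain ⟨a, ha, b, hb, rfl⟩ := (mem_sup_of_norm' nQ).1 (sup_comm Q _ ▸ s ▸ hv : v ∈ V4 x w ⊔ Q)
    exact ⟨a, mem_sup_right ha, by simpa using hb⟩
  · rw [card_sup_of_disjoint nE (eq_bot_iff.2 ((inf_le_inf_right _ o.EQ).trans d.le)), k.card, o.cE]
theorem scC (f : Fr W Q E A) (hx : x ∈ A) (x0 : x ∉ E) (hw : w ∈ W) (c : w ∈ C[x]) : w ∈ A := by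
  obtain ⟨v, hv, k⟩ := f.su w hw
  simpa using mul_mem hv (f.EA (o.cq x (f.AW hx) (fun e => x0 (f.AQ x hx e)) _ k
    (mul_mem (inv_mem (mem_cent1.2 (f.e.comm hv hx))) c)))
theorem scI (f : Fr W Q E A) : E.relIndex A = 4 := by
  have := card_mul_relIndex f.EA
  rw [o.cE, f.c] at this; omega
theorem scT : ∃ A A', Fr W Q E A ∧ Fr W Q E A' ∧ A ⊓ A' = E := by
  obtain ⟨A, f, -⟩ := scF o o.yW o.y0 o.yy
  obtain ⟨x, hx, x0⟩ := SetLike.exists_of_lt (lt_of_le_of_ne o.EQ fun e => absurd (o.cE ▸ e ▸ o.cQ) (by decide))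
  obtain ⟨v, hv, e⟩ := surj_of_fun (K := E) (fun v => v * x * v⁻¹ * x⁻¹) (fun v hv => sccm o (f.AW hv) (o.QW hx))
    (fun u hu v hv e => by_contra fun k => x0 (o.cq _ (f.AW (mul_mem (inv_mem hu) hv))
      (fun c => k (f.AQ _ (mul_mem (inv_mem hu) hv) c)) x hx (mem_cent1.2 (by
        calc x * (u⁻¹ * v) = u⁻¹ * (u * x * u⁻¹ * x⁻¹) * x * v := by group
          _ = _ := by rw [e]; group))))
    (by rw [scI o f, o.cE]) _ (inv_mem (o.sq x (o.QW hx)))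
  have v0 : v ∉ Q := fun k => x0 (scom o hx (by
    rw [cj_comm' (cm' o.ab k hx), mul_inv_cancel] at e; exact inv_eq_one.1 e.symm))
  obtain ⟨A', f', m⟩ := scF o (mul_mem (o.QW hx) (f.AW hv)) (fun k => v0 (by simpa using Q.mul_mem (Q.inv_mem hx) k)) (by
    calc x * v * (x * v) = x * (v * x * v⁻¹ * x⁻¹) * x * (v * v) := by group
      _ = 1 := by rw [e, f.e v hv]; group)
  refine ⟨A, A', f, f', le_antisymm (fun w ⟨h1, h2⟩ => by_contra fun k => x0 (f.AQ x ?_ hx)) (le_inf f.EA f'.EA)⟩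
  simpa using A.mul_mem (scC o f h1 k (f'.AW m) (mem_cent1.2 (f'.e.comm m h2))) (A.inv_mem hv)
theorem scTW (f : Fr W Q E A) (f' : Fr W Q E A') (i : A ⊓ A' = E) : GG.TW A A' ∧ GG.Dv A A' ⊥ ∧ A ⊔ A' = W := by
  have k : ∀ {A A' : Subgroup G}, Fr W Q E A → Fr W Q E A' → A ⊓ A' = E → ¬ A ≤ A' := fun f f' i l => by
    have := card_le ((le_inf le_rfl l).trans i.le)
    rw [f.c, o.cE] at this; omega
  have iv : ∀ a ∈ A, ∀ b ∈ A', a * b = b * a → a ∈ A' ∨ b ∈ A := fun a ha b hb c => or_iff_not_imp_left.2 fun a0 =>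
    scC o f ha (fun e => a0 (f'.EA e)) (f'.AW hb) (mem_cent1.2 c.symm)
  have n := f'.AW.trans (scn o f.EA f.AW)
  refine ⟨⟨eab f.e, eab f'.e, n, f.AW.trans (scn o f'.EA f'.AW), iv, k f f' i, k f' f (inf_comm A A' ▸ i)⟩,
    ⟨fun a ha a0 b hb b0 c => (iv a ha b hb (comm_of_cj (mul_inv_eq_one.1 c))).elim a0 b0, fun b hb b0 z hz => ?_,
      fun a ha a0 z hz => ?_⟩, eq_of_le_of_card_eq (sup_le f.AW f'.AW) ?_⟩
  · obtain ⟨v, hv, e⟩ := surj_of_fun (K := E) (fun v => v * b * v⁻¹ * b⁻¹) (fun v hv => sccm o (f.AW hv) (f'.AW hb))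
      (fun u hu v hv e => i ▸ mem_inf.2 ⟨mul_mem (inv_mem hu) hv, (iv _ (mul_mem (inv_mem hu) hv) b hb (by
        calc u⁻¹ * v * b = u⁻¹ * (v * b * v⁻¹ * b⁻¹) * b * v := by group
          _ = _ := by rw [← e]; group)).resolve_right b0⟩) (by rw [scI o f, o.cE]) z (i ▸ hz)
    exact ⟨v, hv, mul_inv_eq_one.2 e⟩
  · obtain ⟨v, hv, e⟩ := surj_of_fun (K := E) (fun v => a * v * a⁻¹ * v⁻¹) (fun v hv => sccm o (f.AW ha) (f'.AW hv))
      (fun u hu v hv e => i ▸ mem_inf.2 ⟨(iv a ha _ (mul_mem (inv_mem hu) hv) (mem_cent1.1 (th_inj e))).resolve_left a0,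
        mul_mem (inv_mem hu) hv⟩) (by rw [scI o f', o.cE]) z (i ▸ hz)
    exact ⟨v, hv, mul_inv_eq_one.2 e⟩
  · have := card_sup_mul_inf n
    rw [i, o.cE, f.c, f'.c] at this
    rw [o.cW]; omega
end

section
variable {Γ : Type u} [Group Γ] [Finite Γ] {f : G →* Γ} (hk : ∀ x ∈ W, f x = 1 → x = 1)
include hk
theorem mp_inj (hx : x ∈ W) (hy : y ∈ W) (e : f x = f y) : x = y :=
  mul_inv_eq_one.1 (hk _ (mul_mem hx (inv_mem hy)) (by rw [map_mul, map_inv, e, mul_inv_cancel]))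
theorem mp_mem (l : A ≤ W) (hx : x ∈ W) : f x ∈ A.map f ↔ x ∈ A :=
  ⟨fun ⟨_, h, e⟩ => mp_inj hk (l h) hx e ▸ h, mem_map_of_mem f⟩
theorem mp_card (l : A ≤ W) : #(A.map f) = #A :=
  (Nat.card_congr (.ofBijective (f.subgroupMap A) ⟨fun x y e => Subtype.ext (mp_inj hk (l x.2) (l y.2) (congrArg Subtype.val e)),
    f.subgroupMap_surjective A⟩)).symm
theorem mp_inf (l : A ≤ W) (l' : B ≤ W) : A.map f ⊓ B.map f = (A ⊓ B).map f :=
  le_antisymm (fun _ ⟨⟨x, h, e⟩, h'⟩ => ⟨x, ⟨h, (mp_mem hk l' (l h)).1 (e ▸ h')⟩, e⟩) (map_inf_le ..)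
theorem mp_tw (l : A ≤ W) (l' : B ≤ W) (w : GG.TW A B) (d : GG.Dv A B ⊥) :
    GG.TW (A.map f) (B.map f) ∧ GG.Dv (A.map f) (B.map f) ⊥ := by
  have ab : ∀ {A : Subgroup G}, Abelem 2 A → Abelem 2 (A.map f) := fun h => eab (by
    rintro _ ⟨x, hx, rfl⟩; rw [← map_mul, ← pow_two, h.2 x hx, map_one])
  have n : ∀ {A B : Subgroup G}, B ≤ N(A) → B.map f ≤ N(A.map f) := fun h => (map_mono h).trans (le_normalizer_map f)
  have nl : ∀ {A B : Subgroup G}, A ≤ W → B ≤ W → ¬ A ≤ B → ¬ A.map f ≤ B.map f := fun l l' h c =>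
    h fun x hx => (mp_mem hk l' (l hx)).1 (c (mem_map_of_mem f hx))
  refine ⟨⟨ab w.ea, ab w.eb, n w.na, n w.nb, ?_, nl l l' w.ab, nl l' l w.ba⟩, ?_, ?_, ?_⟩
  · rintro _ ⟨a, ha, rfl⟩ _ ⟨b, hb, rfl⟩ c
    exact (w.inv a ha b hb (mp_inj hk (mul_mem (l ha) (l' hb)) (mul_mem (l' hb) (l ha)) (by simpa using c))).imp
      (mem_map_of_mem f) (mem_map_of_mem f)
  · rintro _ ⟨a, ha, rfl⟩ a0 _ ⟨b, hb, rfl⟩ b0 c
    exact d.ne a ha (mt (mem_map_of_mem f) a0) b hb (mt (mem_map_of_mem f) b0)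
      (hk _ (comm_mem_l (l ha) (le_normalizer (l' hb))) (by simpa using c))
  · rintro _ ⟨b, hb, rfl⟩ b0 z hz
    rw [mp_inf hk l l'] at hz
    obtain ⟨z, hz, rfl⟩ := hz
    obtain ⟨a, ha, e⟩ := d.exA b hb (mt (mem_map_of_mem f) b0) z hz
    exact ⟨_, mem_map_of_mem f ha, by simpa using congrArg f (mem_bot.1 e)⟩
  · rintro _ ⟨a, ha, rfl⟩ a0 z hz
    rw [mp_inf hk l l'] at hz
    obtain ⟨z, hz, rfl⟩ := hz
    obtain ⟨b, hb, e⟩ := d.exB a ha (mt (mem_map_of_mem f) a0) z hz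
    exact ⟨_, mem_map_of_mem f hb, by simpa using congrArg f (mem_bot.1 e)⟩
end

theorem sec {X : Type u} [Group X] [Finite X] {W Q E : Subgroup X} {ρ y : X} (o : Sc W Q E ρ y)
    (no : ∀ A, Fr W Q E A → ¬ ⊤ ≤ N(A ⊔ O((⊤ : Subgroup X)))) :
    ∃ L : Subgroup X, ⊤ ≤ N(L) ∧ O((⊤ : Subgroup X)) ≤ L ∧ W ≤ L ∧
    (∀ x, (∀ l ∈ L, x * l * x⁻¹ * l⁻¹ ∈ O((⊤ : Subgroup X))) → x ∈ O((⊤ : Subgroup X))) ∧
    ∃ (F : Type) (_ : Field F) (_ : Fintype F) (π : L →* Matrix.ProjectiveSpecialLinearGroup (Fin 3) F),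
      𝐪 F = 4 ∧ Function.Surjective π ∧ ∀ l : L, π l = 1 ↔ l.1 ∈ O((⊤ : Subgroup X)) := by
  obtain ⟨A, A', f1, f2, i⟩ := scT o
  obtain ⟨w, d, s⟩ := scTW o f1 f2 i
  let f := QuotientGroup.mk' (oddCore X)
  have fs : Function.Surjective f := QuotientGroup.mk'_surjective _
  have fk : ∀ x, f x = 1 ↔ x ∈ O((⊤ : Subgroup X)) := fun x => by
    rw [H1.Oc_top']; exact QuotientGroup.eq_one_iff x
  have k : ∀ x ∈ W, f x = 1 → x = 1 := fun x hx h => OG.eq_one' (O_og ⊤) o.sW.pi ((fk x).1 h) hx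
  obtain ⟨w, d⟩ := mp_tw k f1.AW f2.AW w d
  have hO : O((⊤ : Subgroup (X ⧸ oddCore X))) = ⊥ := H1.Oc_top'.trans H1.pPrimeCore_quotient_pPrimeCore
  have hS : Syl 2 (A.map f ⊔ A'.map f) ⊤ := by
    simpa [← Subgroup.map_sup, s, ← MonoidHom.range_eq_map, MonoidHom.range_eq_top_of_surjective f fs] using o.sW.map f
  have ix : ∀ {A1 : Subgroup X}, Fr W Q E A1 → (A.map f ⊓ A'.map f).relIndex (A1.map f) = 4 := fun f3 => by
    have := card_mul_relIndex (map_mono (f := f) f3.EA)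
    rw [mp_card k (scEW o), mp_card k f3.AW, o.cE, f3.c] at this
    rw [mp_inf k f1.AW f2.AW, i]; omega
  have nB : ∀ {L : Subgroup (X ⧸ oddCore X)}, ⊤ ≤ N(L) → ⊤ ≤ N(L.comap f) := fun h x _ =>
    le_normalizer_comap f (h (mem_top _))
  have no : ∀ {A1 : Subgroup X}, Fr W Q E A1 → ¬ ⊤ ≤ N(A1.map f) := fun {A1} f3 h => no A1 f3 (by
    have := nB h
    rwa [comap_map_eq, show f.ker = O((⊤ : Subgroup X)) from Subgroup.ext fk] at this)
  rcases w.cases hS with h | h | h | m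
  · exact absurd ((ix f1).symm.trans h.1) (by decide)
  · exact (no f1 (w.normal_of_syl hS d (ix f2).ge (by rw [mp_card k f1.AW, f1.c]; decide) hO h)).elim
  · exact (no f2 (w.symm.normal_of_syl (sup_comm (A.map f) _ ▸ hS) (d.symm w) (inf_comm (A.map f) _ ▸ (ix f1).ge)
      (by rw [mp_card k f2.AW, f2.c]; decide) hO h)).elim
  obtain ⟨F, _, _, h1, ⟨φ⟩⟩ := m.psl d hO rfl
  have c := (m.gd' d hO).cent_Kc hO
  have l : W ≤ (Kc (A.map f ⊔ A'.map f) ⊤).comap f := by rw [← map_le_iff_le_comap, ← s, Subgroup.map_sup]; exact le_Kc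
  have n : ⊤ ≤ N(Kc (A.map f ⊔ A'.map f) ⊤) := Kc_norm
  generalize Kc (A.map f ⊔ A'.map f) ⊤ = L at *
  refine ⟨L.comap f, nB n, fun x hx => mem_comap.2 ((fk x).2 hx ▸ one_mem L), l, fun x h => (fk x).1
    (c (mem_cent.2 fun v hv => ?_)), F, inferInstance, inferInstance, φ.toMonoidHom.comp (f.subgroupComap L), h1.trans (ix f1),
    φ.surjective.comp (f.subgroupComap_surjective_of_surjective L fs), fun x => ?_⟩
  · obtain ⟨v, rfl⟩ := fs v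
    have := (fk _).2 (h v hv)
    rw [map_mul, map_mul, map_mul, map_inv, map_inv] at this
    exact (comm_of_cj (mul_inv_eq_one.1 this)).symm
  · exact (map_eq_one_iff _ φ.injective).trans (Subtype.ext_iff.trans (fk x))

end H28.ON
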