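import Cfsg.Agent.H28.PA2

/-! The Sylow subgroup, its Thompson subgroup and the centralizer of a factor. -/

set_option autoImplicit false
set_option linter.unusedSectionVars false

open Cfsg Subgroup
namespace H28.PA
open H9.TC H0 H0.PM H16 H19 H10.X H2.L3
open scoped commutatorElement

universe u
variable {G : Type u} [Group G] [Finite G] {A B J K M P Q R S U W Y Q₁ Q₂ R₁ R₂ : Subgroup G}
  {a a' b b' c d g j k m n q r t u w y x z r₁ r₂ a₁ b₁ c₁ a₂ b₂ c₂ : G}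

local notation "𝔷" => zpowers z
local notation "𝔔" => Q₁ ⊔ Q₂
local notation "𝔖" => Q₁ ⊔ Q₂ ⊔ zpowers x
local notation "𝔄" => (Q₁ ⊔ Q₂) ⊓ FX (zpowers z) x
local notation "𝔍" => (Q₁ ⊔ Q₂) ⊓ FX (zpowers z) x ⊔ zpowers x
local notation "𝔖₁" => Q₂ ⊔ zpowers x

namespace Cf
variable (h : Cf Q₁ Q₂ R₁ R₂ z x r₁ r₂)
include h

theorem symm : Cf Q₂ Q₁ R₂ R₁ z x r₂ r₁ :=
  ⟨h.s2, h.s1, cents_symm h.RR, sup_comm Q₁ Q₂ ▸ h.QN, sup_comm Q₁ Q₂ ▸ h.syl, sup_comm Q₁ Q₂ ▸ h.nw⟩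

theorem z3 : z ^ 3 = 1 := h.s1.z3
theorem z1 : z ≠ 1 := h.s1.z1
theorem n12 : Q₂ ≤ N(Q₁) := norms_of_cents h.s2.cm
theorem dec (hq : q ∈ 𝔔) : ∃ a ∈ Q₁, ∃ b ∈ Q₂, q = a * b := (mem_sup_of_norm h.n12).1 hq
theorem cm12 (ha : a ∈ Q₁) (hb : b ∈ Q₂) : a * b = b * a := mem_cent.1 (h.s2.cm hb) a ha
theorem inf : Q₁ ⊓ Q₂ = 𝔷 := le_antisymm h.s1.inf (le_inf h.s1.e3.ZQ h.s2.e3.ZQ)
theorem xQ : x ∈ N(𝔔) := h.QN h.s1.xZ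
theorem ZQ : 𝔷 ≤ 𝔔 := h.s1.e3.ZQ.trans le_sup_left

theorem cQ : #(𝔔) = 243 := by
  have := card_sup_mul_inf h.n12
  rw [h.inf, card_zp h.z3 h.z1, h.s1.c27, h.s2.c27] at this; omega

theorem Q3 (hq : q ∈ 𝔔) : q ^ 3 = 1 := by
  obtain ⟨a, ha, b, hb, rfl⟩ := h.dec hq
  rw [(show Commute a b from h.cm12 ha hb).mul_pow, h.s1.Q3 ha, h.s2.Q3 hb, one_mul]

theorem Qc (a : G) (ha : a ∈ 𝔔) (b : G) (hb : b ∈ 𝔔) : ⁅a, b⁆ ∈ 𝔷 := by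
  have k : ∀ a ∈ Q₁, 𝔔 ≤ FX 𝔷 a := fun a ha => sup_le (fun b hb => ⟨h.s1.QZ hb, h.s1.Qc a ha b hb⟩)
    fun b hb => FX_of_comm (h.s2.QZ hb) (h.cm12 ha hb)
  have k' : ∀ a ∈ Q₂, 𝔔 ≤ FX 𝔷 a := fun a ha => sup_le (fun b hb => FX_of_comm (h.s1.QZ hb) (h.cm12 hb ha).symm)
    fun b hb => ⟨h.s2.QZ hb, h.s2.Qc a ha b hb⟩
  exact ((sup_le (fun b hb => FX_symm (h.s1.QZ hb) (k b hb ha)) (fun b hb => FX_symm (h.s2.QZ hb) (k' b hb ha)) :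
    𝔔 ≤ FX 𝔷 a) hb).2

theorem QZ : 𝔔 ≤ N(𝔷) := sup_le h.s1.QZ h.s2.QZ

theorem nQ : ¬ 𝔔 ≤ FX 𝔷 x := fun e => h.s1.nt (le_sup_left.trans e)

theorem xn : x ∉ 𝔔 := fun m => h.nQ fun q hq => ⟨h.QZ hq, h.Qc x m q hq⟩

theorem fxq (hw : w ∈ 𝔔) (hg : g ∈ N(𝔷)) (hq : q ∈ 𝔔) : q ∈ FX 𝔷 (w * g) ↔ q ∈ FX 𝔷 g := by
  have k : ∀ {w g}, w ∈ 𝔔 → g ∈ N(𝔷) → q ∈ FX 𝔷 g → q ∈ FX 𝔷 (w * g) := fun {w g} hw hg e =>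
    FX_symm (h.QZ hq) (mul_mem (⟨h.QZ hw, h.Qc q hq w hw⟩ : w ∈ FX 𝔷 q) (FX_symm hg e))
  exact ⟨fun e => by simpa using k (inv_mem hw) (mul_mem (h.QZ hw) hg) e, k hw hg⟩

theorem fxi (hg : g ∈ N(𝔷)) (e : q ∈ FX 𝔷 g⁻¹) : q ∈ FX 𝔷 g := by
  simpa using FX_symm e.1 (inv_mem (FX_symm (inv_mem hg) e))

theorem FXS (hg : g ∈ 𝔖) (n : g ∉ 𝔔) : 𝔔 ⊓ FX 𝔷 g = 𝔄 := by
  have xZ := h.s1.xZ
  rcases mem_sup3 (h.ZQ h.s1.x3) h.xQ hg with m | m | m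
  · exact (n m).elim
  · rw [show g = g * x⁻¹ * x by group]
    exact ext fun q => and_congr_right fun hq => h.fxq m xZ hq
  · rw [show g = g * x * x⁻¹ by group]
    exact ext fun q => and_congr_right fun hq => (h.fxq m (inv_mem xZ) hq).trans
      ⟨h.fxi xZ, fun e => h.fxi (inv_mem xZ) (by rwa [inv_inv])⟩

theorem e5 : E5 𝔔 𝔖 z := ⟨h.z3, h.z1, mem_sup_left h.s1.zQ, sup_le h.s1.QC h.s2.QC, h.QN, h.cQ, h.Qc,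
  (cent_sup _ _).le.trans h.s1.CQ, le_sup_left, by rw [card_sup3 (h.ZQ h.s1.x3) h.xn h.xQ, h.cQ], h.syl,
  fun g hg e => by_contra fun n => h.nQ ((le_inf le_rfl e).trans ((h.FXS hg n).le.trans inf_le_right))⟩

theorem A_eq {a₁ b₁ c₁ a₂ b₂ c₂ : G} (B₁ : Bs Q₁ z x r₁ a₁ b₁ c₁) (B₂ : Bs Q₂ z x r₂ a₂ b₂ c₂) :
    𝔄 = 𝔷 ⊔ zpowers a₁ ⊔ zpowers a₂ := by
  refine le_antisymm (fun q hq => ?_) (sup_le (B₁.fx.ge.trans (inf_le_inf_right _ le_sup_left))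
    (le_sup_right.trans (B₂.fx.ge.trans (inf_le_inf_right _ le_sup_right))))
  obtain ⟨a, ha, b, hb, rfl⟩ := h.dec hq.1
  have h1 : ⁅x, a⁆ ∈ Q₁ := mul_mem (conj_mem_of_norm h.s1.xN ha) (inv_mem ha)
  have h2 : ⁅x, b⁆ ∈ Q₂ := mul_mem (conj_mem_of_norm h.s2.xN hb) (inv_mem hb)
  have e : ⁅x, a * b⁆ = ⁅x, a⁆ * ⁅x, b⁆ := by
    rw [← conj_of_comm (h.cm12 ha h2)]; simp only [commutatorElement_def]; group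
  have m := hq.2.2
  rw [e] at m
  have m1 : ⁅x, a⁆ ∈ 𝔷 := h.inf.le ⟨h1, (mul_mem_cancel_right h2).1 (h.s2.e3.ZQ m)⟩
  have := B₂.fx.le ⟨hb, h.s2.QZ hb, (mul_mem_cancel_left m1).1 m⟩
  exact mul_mem (mem_sup_left (B₁.fx.le ⟨ha, h.s1.QZ ha, m1⟩)) (SetLike.le_def.1 (sup_le_sup_right le_sup_left _) this)

theorem ZA : 𝔷 ≤ 𝔄 := le_inf h.ZQ (le_FX h.s1.xZ)

theorem A_prop : #(𝔄) = 27 ∧ Ab (𝔄) ∧ x ∈ C(𝔄) ∧ 𝔔 ≤ FX (𝔄) x := by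
  obtain ⟨a₁, b₁, c₁, B₁⟩ := h.s1.bs
  obtain ⟨a₂, b₂, c₂, B₂⟩ := h.s2.bs
  have l : 𝔷 ⊔ zpowers a₁ ≤ Q₁ := sup_le h.s1.e3.ZQ (zpowers_le.2 B₁.aQ)
  have c : zpowers a₂ ≤ C(𝔷 ⊔ zpowers a₁) := zpowers_le.2 (cent_mono l (h.s2.cm B₂.aQ))
  have n := h.e5.nm h.ZA inf_le_left
  refine ⟨?_, ?_, ?_, sup_le (fun q hq => ⟨n (mem_sup_left hq), ?_⟩) fun q hq => ⟨n (mem_sup_right hq), ?_⟩⟩ <;>
    rw [h.A_eq B₁ B₂]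
  · rw [card_sup_zp (h.s2.Q3 B₂.aQ) (fun m => B₂.na h.s2 (h.inf.le ⟨l m, B₂.aQ⟩))
      (cent_le_norm _ (c (mem_zpowers _))), h.s1.e3.c9 B₁.aQ (B₁.na h.s1)]
  · exact comm_sup (comm_sup (comm_zpowers _) (comm_zpowers _) (cents_symm (zpowers_le.2 (by
      rw [cent_zpowers]; exact h.s1.QC B₁.aQ)))) (comm_zpowers _) (cents_symm c)
  · rw [cent_sup, cent_sup, cent_zpowers, cent_zpowers, cent_zpowers]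
    exact ⟨⟨mem_cent1.2 h.s1.xz, mem_cent1.2 B₁.xa⟩, mem_cent1.2 B₂.xa⟩
  · exact mem_sup_left (B₁.cx h.s1 hq).2
  · exact SetLike.le_def.1 (sup_le_sup_right le_sup_left _) (B₂.cx h.s2 hq).2

theorem cA : #(𝔄) = 27 := h.A_prop.1
theorem abA : Ab (𝔄) := h.A_prop.2.1
theorem xA : x ∈ C(𝔄) := h.A_prop.2.2.1
theorem nA : 𝔔 ≤ N(𝔄) := h.e5.nm h.ZA inf_le_left

/-- a `3`-element outside `Q` has abelian fixed space -/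
theorem L3 (hg : g ∈ C[z]) (p : PiE {3} g) (ha : a ∈ 𝔔) (hb : b ∈ 𝔔) (e1 : a ∈ FX 𝔷 g) (e2 : b ∈ FX 𝔷 g)
    (n : a * b ≠ b * a) : g ∈ 𝔔 := by
  obtain ⟨c, hc, m⟩ := h.e5.toS hg p
  have cN := h.e5.CN hc
  have cz := cent1_le_norm_zpowers z hc
  by_contra hn
  have e := h.FXS m fun m => hn (by simpa [mul_assoc] using conj_mem_of_norm' cN m)
  have := mul_comm_of_comm h.abA (e.le ⟨conj_mem_of_norm cN ha, FX_conj cz e1⟩)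
    (e.le ⟨conj_mem_of_norm cN hb, FX_conj cz e2⟩)
  rw [conj_mul, conj_mul, mul_left_inj, mul_right_inj] at this
  exact n this

theorem cQA (hq : q ∈ 𝔔) (e : q ∈ C(𝔄)) : q ∈ 𝔄 := by
  by_contra n
  have h1 := card_sup_zp (h.Q3 hq) n (cent_le_norm _ e)
  have h2 := h.e5.ab27 (A := 𝔄 ⊔ zpowers q) (sup_le inf_le_left (zpowers_le.2 hq))
    (comm_sup h.abA (comm_zpowers q) (cents_symm (zpowers_le.2 e)))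
  rw [h.cA] at h1; omega

theorem xnA : x ∉ 𝔄 := fun m => h.xn m.1
theorem cJ : #(𝔍) = 81 := by rw [card_sup3 (h.ZA h.s1.x3) h.xnA (cent_le_norm _ h.xA), h.cA]
theorem abJ : Ab (𝔍) := comm_sup h.abA (comm_zpowers x) (cents_symm (zpowers_le.2 h.xA))
theorem JS : 𝔍 ≤ 𝔖 := sup_le_sup_right inf_le_left _
theorem Jp : PG 3 (𝔍) := pg_card (k := 4) p3 h.cJ
theorem JC : 𝔍 ≤ C[z] := h.JS.trans h.syl.le
theorem zJ : z ∈ 𝔍 := mem_sup_left (h.ZA (mem_zpowers z))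
theorem xJ : x ∈ 𝔍 := mem_sup_right (mem_zpowers x)
theorem cmJ (ha : a ∈ 𝔍) (hb : b ∈ 𝔍) : a * b = b * a := mul_comm_of_comm h.abJ ha hb
theorem QJ (hq : q ∈ 𝔔) (hj : q ∈ 𝔍) : q ∈ 𝔄 := h.cQA hq (cents_of_comm h.abJ le_rfl le_sup_left hj)

theorem CA : C(𝔄) = 𝔍 := by
  have E := h.e5
  have le : 𝔍 ≤ C(𝔄) := cents_of_comm h.abJ le_rfl le_sup_left
  have hz : C(𝔄) ≤ C[z] := cent_le_cent1 (h.ZA (mem_zpowers z))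
  have h1 : ∀ g ∈ C(𝔄), g ^ 3 ∈ 𝔷 := fun g hg => E.CQ (mem_cent.2 fun q hq => by
    have hw : q⁻¹ * (g * q * g⁻¹) ∈ 𝔔 := mul_mem (inv_mem hq) (conj_mem_of_norm (E.CN (hz hg)) hq)
    have hw' : q⁻¹ * (g * q * g⁻¹) ∈ 𝔄 := h.cQA hw (mem_cent.2 fun w hw => by
      have e1 := mem_cent.1 hg w hw
      have e2 : g * ⁅q, w⁆ * g⁻¹ = ⁅q, w⁆ := conj_of_comm (cm_zp (mem_cent1.1 (hz hg)) (h.Qc q hq w hw.1))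
      have e3 : g * q * g⁻¹ * w * (g * q * g⁻¹)⁻¹ = q * w * q⁻¹ := by
        calc _ = g * ⁅q, g⁻¹ * w * g⁆ * g⁻¹ * w := by simp only [commutatorElement_def]; group
          _ = _ := by rw [mul_assoc g⁻¹, e1, inv_mul_cancel_left, e2, commutatorElement_def]; group
      calc _ = q⁻¹ * (q * w * q⁻¹) * (g * q * g⁻¹) := by group
        _ = _ := by rw [← e3]; group)
    exact unip3 (by group) (conj_of_comm (mem_cent.1 hg _ hw').symm) (h.Q3 hw))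
  have h2 := E.b3' hz (PiN.of_elt fun g hg => E.pe (h1 g hg))
  have h3 := card_le (show 𝔔 ⊓ C(𝔄) ≤ 𝔄 from fun q hq => h.cQA hq.1 hq.2)
  rw [h.cA] at h3
  exact (eq_of_le_of_card_ge le (by rw [h.cJ]; omega)).symm

theorem CJ : C(𝔍) ≤ 𝔍 := (cent_mono le_sup_left).trans h.CA.le
theorem QNJ : 𝔔 ≤ N(𝔍) := h.CA ▸ norms_cent h.nA

theorem wk : Wk (𝔍) (𝔖) ⊤ := ⟨h.JS, h.abJ, fun A hA ab c => by
  have E := h.e5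
  rw [h.cJ] at c
  have h1 := E.b3' (hA.trans h.syl.le) (h.syl.pi.of_le hA)
  obtain ⟨g, hg, n⟩ : ∃ g ∈ A, g ∉ 𝔔 := by
    by_contra hc
    have := E.ab27 (fun g hg => by_contra fun n => hc ⟨g, hg, n⟩) ab
    omega
  have e : 𝔔 ⊓ A = 𝔄 := eq_of_le_of_card_ge (fun q hq => (h.FXS (hA hg) n).le
    ⟨hq.1, FX_of_comm (h.QZ hq.1) (mul_comm_of_comm ab hg hq.2)⟩) (by rw [h.cA]; omega)
  exact eq_of_le_of_card_ge (by rw [← h.CA, ← e]; exact cents_of_comm ab le_rfl inf_le_right) (h.cJ ▸ c),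
  h.e5.sylG⟩

theorem QC2 : 𝔔 ⊓ C(Q₂) = Q₁ := le_antisymm (fun q hq => by
  obtain ⟨a, ha, b, hb, rfl⟩ := h.dec hq.1
  exact mul_mem ha (h.s1.e3.ZQ (h.s2.ctr ⟨hb, (mul_mem_cancel_left (h.s1.cm ha)).1 hq.2⟩)))
  (le_inf le_sup_left h.s1.cm)

theorem Q2K : Q₂ ≤ C[r₁] := le_cent1_iff.2 (h.s1.RC h.s1.rR)
theorem R2K : R₂ ≤ C[r₁] := le_cent1_iff.2 (h.RR h.s1.rR)
theorem R1K : R₁ ≤ C[r₁] := fun _ hu => mem_cent1.2 (h.s1.q8.cm hu)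
theorem xK : x ∈ C[r₁] := mem_cent1.2 h.s1.xr
theorem zK : z ∈ C[r₁] := h.Q2K h.s2.zQ

theorem Q1r (hq : q ∈ Q₁) (e : q ∈ C[r₁]) : q ∈ 𝔷 :=
  h.s1.rfx hq (by rw [conj_of_comm (mem_cent1.1 e).symm, mul_inv_cancel]; exact one_mem _)

theorem QCr : 𝔔 ⊓ C[r₁] = Q₂ := le_antisymm (fun q hq => by
  obtain ⟨a, ha, b, hb, rfl⟩ := h.dec hq.1
  exact mul_mem (h.s2.e3.ZQ (h.Q1r ha ((mul_mem_cancel_right (h.Q2K hb)).1 hq.2))) hb)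
  (le_inf le_sup_right h.Q2K)

theorem KN : C[r₁] ⊓ N(𝔷) ≤ N(Q₂) := h.QCr ▸ norms_inf (inf_le_right.trans h.QN) (norms_of_le inf_le_left)
theorem C2z : C(Q₂) ≤ C[z] := cent_le_cent1 h.s2.zQ
theorem C2N : C(Q₂) ≤ N(Q₁) := h.QC2 ▸ norms_inf (h.C2z.trans h.e5.CN) (norms_of_le le_rfl)

theorem C23 (hg : g ∈ C(Q₂)) (p : PiE {3} g) : g ∈ Q₁ := by
  obtain ⟨a, b, c, B⟩ := h.s2.bs
  refine h.QC2.le ⟨h.L3 (h.C2z hg) p (mem_sup_right B.aQ) (mem_sup_right B.bQ)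
    (FX_of_comm (h.s2.QZ B.aQ) (mem_cent.1 hg a B.aQ).symm) (FX_of_comm (h.s2.QZ B.bQ) (mem_cent.1 hg b B.bQ).symm)
    fun e => B.nb h.s2 ((h.s2.e3.cent B.aQ (B.na h.s2)).le ⟨B.bQ, mem_cent1.2 e.symm⟩), hg⟩

theorem cD (ha : a ∈ Q₁) (n : a ∉ 𝔷) : #(C[a] ⊓ C(Q₂)) ≤ 9 := by
  rw [← h.s1.e3.c9 ha n, ← h.s1.e3.cent ha n]
  refine card_le fun g hg => ⟨h.C23 hg.2 (pe_of_p' fun t ht p => ?_), hg.1⟩
  have := zpowers_le.2 hg ht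
  refine (pe3 (cube_zp h.z3 (h.s1.CQ ⟨h.s1.e3.semi (h.C2N this.2) (mem_cent1.1 (h.C2z this.2)) p ha n ?_,
    this.2⟩))).e_eq_one p
  rw [conj_of_comm (mem_cent1.1 this.1), mul_inv_cancel]; exact one_mem _

theorem o24 (ha : a ∈ Q₁) (n : a ∉ 𝔷) : ∀ k ∈ C(Q₂), k * a * k⁻¹ ∈ (Q₁ : Set G) \ 𝔷 := fun k hk =>
  ⟨conj_mem_of_norm (h.C2N hk) ha, fun m => n (by
    simpa [mul_assoc] using conj_mem_of_norm' (cent1_le_norm_zpowers z (h.C2z hk)) m)⟩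

theorem c24 : ((Q₁ : Set G) \ 𝔷).ncard = 24 := by rw [ncard_diff h.s1.e3.ZQ, h.s1.c27, card_zp h.z3 h.z1]

theorem c216 : #(Q₁ ⊔ R₁) = 216 := by
  rw [card_sup_of_disjoint h.s1.RN (h.s1.e3.pg.inf_eq_bot h.s1.R3), h.s1.c27, h.s1.c8]

theorem CQ2 : C(Q₂) = Q₁ ⊔ R₁ := by
  obtain ⟨a, ha, n⟩ := h.s1.e3.exists_nz
  refine (eq_of_le_of_card_ge (sup_le h.s1.cm h.s1.RC) ?_).symm
  rw [h.c216, ← card_inf_mul_relIndex C[a]]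
  exact Nat.mul_le_mul (h.cD ha n) ((orb_le (h.o24 ha n)).trans h.c24.le)

theorem tr1 (ha : a ∈ Q₁) (n : a ∉ 𝔷) (ha' : a' ∈ Q₁) (n' : a' ∉ 𝔷) : ∃ k ∈ Q₁ ⊔ R₁, k * a * k⁻¹ = a' := by
  rw [← h.CQ2]
  refine orb_surj (h.o24 ha n) ?_ ⟨ha', n'⟩
  have := card_inf_mul_relIndex C[a] C(Q₂)
  have k := h.cD ha n
  rw [h.c24]
  rw [show #C(Q₂) = 216 by rw [h.CQ2, h.c216]] at this
  nlinarith

theorem C2K (hg : g ∈ C(Q₂)) (e : g ∈ C[r₁]) : ∃ c ∈ 𝔷, ∃ u ∈ R₁, g = c * u := by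
  obtain ⟨q, hq, u, hu, rfl⟩ := (mem_sup_of_norm h.s1.RN).1 (h.CQ2.le hg)
  exact ⟨q, h.Q1r hq ((mul_mem_cancel_right (h.R1K hu)).1 e), u, hu, rfl⟩

/-- signalizers centralizing `z` -/
theorem sigW (hW : PiG {3}ᶜ W) (h1 : W ≤ C[r₁]) (h2 : W ≤ C[z]) (ha : a ∈ Q₂) (n : a ∉ 𝔷) (hn : a ∈ N(W)) :
    W ≤ R₁ := fun g hg => by
  have gN := h.KN ⟨h1 hg, cent1_le_norm_zpowers z (h2 hg)⟩
  obtain ⟨c, hc, u, hu, rfl⟩ := h.C2K (h.s2.e3.semi gN (mem_cent1.1 (h2 hg)) (hW.elt hg) ha n (by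
    rw [cm_of_norm h.s2.e3.pg hW hg gN ha hn]; simp)) (h1 hg)
  have k : Commute c u := (cm_zp (mem_cent1.1 (h.s1.Rz hu)) hc).symm
  have := (hW.elt hg).e_mul (h.s1.R3.elt (inv_mem hu)) (k.mul_left (.refl u)).inv_right.eq
  rw [mul_inv_cancel_right] at this
  rwa [(pe3 (cube_zp h.z3 hc)).e_eq_one this, one_mul]

theorem NR (h1 : g ∈ C[r₁]) (h2 : g ∈ N(𝔷)) : g ∈ N(R₁) := by
  obtain ⟨a, ha, n⟩ := h.s2.e3.exists_nz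
  have : cj g R₁ ≤ C(Q₂) := by rw [← cj_of_mem_norm (h.KN ⟨h1, h2⟩), ← cj_cent]; exact cj_mono g h.s1.RC
  exact mem_norm_of_cj_le (h.sigW (h.s1.R3.J g) (cj_le_of_mem h1 h.R1K) (this.trans h.C2z) ha n
    (cent_le_norm _ (cents_symm this ha)))

theorem RR' : R₁ ⊓ R₂ = ⊥ := eq_bot_iff.2 fun u hu =>
  not_mem3 h.s1.R3 (cube_zp h.z3 (h.s1.CQ ⟨h.s2.RC hu.2, h.s1.RC hu.1⟩)) hu.1

theorem pure (hq : q ∈ Q₂) (e : Cz z q) : q ∈ 𝔷 :=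
  e.elim (h.s1.wc h.e5 hq) fun e => inv_mem_iff.1 (h.s1.wc h.e5 (inv_mem hq) (by simpa using isConj_inv' e))

theorem mix (ha : a ∈ Q₁) (n : a ∉ 𝔷) (hb : b ∈ Q₂) (n' : b ∉ 𝔷) : IsConj z (a * b) := by
  obtain ⟨y, m, c, ny⟩ := h.nw
  obtain ⟨a', ha', b', hb', rfl⟩ := h.dec m
  obtain ⟨k, hk, e⟩ := h.tr1 ha' (fun k => ny (h.pure (mul_mem (h.s2.e3.ZQ k) hb') (.inl c))) ha n
  obtain ⟨l, hl, e'⟩ := h.symm.tr1 hb' (fun k => ny (h.symm.pure (mul_mem ha' (h.s1.e3.ZQ k)) (.inl c))) hb n'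
  refine c.trans (isConj_of (g := k * l) ?_)
  rw [cjm, ← conj_mul (b := l), e', conj_of_comm (mem_cent.1 (h.symm.CQ2.ge hl) _ ha').symm, ← conj_mul, e,
    conj_of_comm (mem_cent.1 (h.CQ2.ge hk) _ hb).symm]

theorem dJ (hj : j ∈ 𝔍) : ∃ a ∈ 𝔄, ∃ b ∈ zpowers x, j ^ 3 = b ^ 3 := by
  obtain ⟨a, ha, b, hb, rfl⟩ := (mem_sup_of_norm (zpowers_le.2 (cent_le_norm _ h.xA))).1 hj
  exact ⟨a, ha, b, hb, by
    rw [(show Commute a b from h.cmJ (mem_sup_left ha) (mem_sup_right hb)).mul_pow, h.Q3 ha.1, one_mul]⟩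

theorem x3 : x ^ 3 = 1 := by
  by_contra ne
  obtain ⟨a₁, b₁, c₁, B₁⟩ := h.s1.bs
  obtain ⟨a₂, b₂, c₂, B₂⟩ := h.s2.bs
  obtain ⟨g, e⟩ := isConj_iff.1 (h.mix B₁.aQ (B₁.na h.s1) B₂.aQ (B₂.na h.s2))
  have eA := h.A_eq B₁ B₂
  obtain ⟨n, hn, e'⟩ := h.wk.fus h.zJ (mem_top g) (e ▸ mem_sup_left (eA.ge (mul_mem
    (mem_sup_left (mem_sup_right (mem_zpowers a₁))) (mem_sup_right (mem_zpowers a₂)))))
  obtain ⟨-, -, b, ⟨i, rfl⟩, e3⟩ := h.dJ (conj_mem_of_norm hn.2 h.xJ)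
  have m : n * z * n⁻¹ ∈ 𝔷 := by
    refine zpowers_le.2 ?_ (cjz n ((zp_eq h.z3 h.s1.x3 ne).ge (mem_zpowers z)))
    rw [← conj_pow, e3, ← zpow_natCast, ← zpow_mul, mul_comm, zpow_mul, zpow_natCast]
    exact zpow_mem h.s1.x3 i
  rw [e', e] at m
  exact B₁.na h.s1 (h.inf.le ⟨B₁.aQ, (mul_mem_cancel_right B₂.aQ).1 (h.s2.e3.ZQ m)⟩)

theorem J3 (hj : j ∈ 𝔍) : j ^ 3 = 1 := have ⟨_, _, _, hb, e⟩ := h.dJ hj; e.trans (cube_zp h.x3 hb)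

theorem c81 : #(𝔖₁) = 81 := by
  rw [card_sup_zp h.x3 (fun m => h.xn (mem_sup_right m)) h.s2.xN, h.s2.c27]

theorem S1K : 𝔖₁ ≤ C[r₁] := sup_le h.Q2K (zpowers_le.2 h.xK)
theorem S1S : 𝔖₁ ≤ 𝔖 := sup_le_sup_right le_sup_right _
theorem S1z : 𝔖₁ ≤ C[z] := h.S1S.trans h.syl.le
theorem S1p : PG 3 (𝔖₁) := pg_card (k := 4) p3 h.c81

theorem ZS1 : Z(𝔖₁) = 𝔷 := le_antisymm (fun g hg => by
  have e := cent_mono le_sup_left hg.2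
  exact h.inf.le ⟨h.C23 e (h.S1p.elt hg.1), h.QCr.le ⟨mem_sup_left (h.C23 e (h.S1p.elt hg.1)), h.S1K hg.1⟩⟩)
  (zpowers_le.2 ⟨mem_sup_left h.s2.zQ, le_cent1_iff.1 h.S1z⟩)

theorem sylK : Syl 3 (𝔖₁) C[r₁] := sylZ h.z3 (syl_of_max (le_inf h.S1K h.S1z) h.S1p fun P l p le => by
    have h1 := h.e5.b3' (l.trans inf_le_right) p
    have h2 := card_le ((inf_le_inf_left 𝔔 (l.trans inf_le_left)).trans h.QCr.le)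
    rw [h.s2.c27] at h2
    exact (eq_of_le_of_card_ge le (by rw [h.c81]; omega)).symm)
  (h.ZS1 ▸ norm_le_norm_center _)

theorem r1J : r₁ ∈ N(𝔍) := by
  have rz := cent1_le_norm_zpowers z (h.s1.Rz h.s1.rR)
  rw [← h.CA]
  exact norm_le_norm_cent _ (nm_of fun q hq => ⟨conj_mem_of_norm (h.QN rz) hq.1, FX_cm rz h.s1.xr.symm hq.2⟩)

theorem shift (hd : d ∈ 𝔷) : Cf Q₁ Q₂ R₁ R₂ z (x * d) r₁ r₂ :=
  { h with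
    s1 := h.s1.shift hd
    s2 := h.s2.shift hd
    syl := by
      rw [h.e5.sup_eq (mul_mem (mem_sup_right (mem_zpowers x)) (mem_sup_left (h.ZQ hd)))
        fun m => h.xn ((mul_mem_cancel_right (h.ZQ hd)).1 m)]
      exact h.syl }

theorem zinv : Cf Q₁ Q₂ R₁ R₂ z⁻¹ x r₁ r₂ :=
  have e : C[z⁻¹] = C[z] := by rw [← cent_zpowers, zpowers_inv, cent_zpowers]
  ⟨h.s1.zinv, h.s2.zinv, h.RR, zpowers_inv (g := z) ▸ h.QN, e ▸ h.syl,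
    have ⟨_, h1, h2, h3⟩ := h.nw
    ⟨_, inv_mem h1, isConj_inv' h2, by rwa [zpowers_inv, inv_mem_iff]⟩⟩

end Cf

end H28.PA
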