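import Cfsg.Agent.H28.SP2

/-! The qrc-lemma: offenders for minimal parabolic groups. -/

set_option autoImplicit false
set_option linter.unusedVariables false
set_option linter.unusedSectionVars false

namespace H28.QR
open H9 hiding zj
open Cfsg Subgroup H28 H29 H29.PU H29.BB H28.GC
open scoped commutatorElement

universe u
variable {X : Type u} [Group X] [Finite X] {A B C D D₀ D₁ E H L M N P R S T U V W W₀ : Subgroup X}

/-- no quadratic `2F`-offender -/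
def NQ (S V : Subgroup X) : Prop :=
  ∀ B ≤ S, ⁅⁅V, B⁆, B⁆ = ⊥ → ¬ B ≤ 𝐂 V → (𝐂 V).relIndex B ^ 2 < (𝐂 B).relIndex V

theorem NQ.conj (h : NQ S V) (g : X) : NQ (cj g S) (cj g V) := fun B hB hb hc => by
  have := h (cj g⁻¹ B) (cj_le_iff.2 (by rwa [inv_inv])) (by
    rwa [← cj_eq_bot (g := g), cj_commutator, cj_commutator, cj_cj_inv]) (by rwa [cj_le_iff, inv_inv, cj_centralizer])
  rwa [← relIndex_cj g, ← relIndex_cj g (𝐂 (cj g⁻¹ B)), cj_centralizer, cj_centralizer, cj_cj_inv] at this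

theorem NQ.mono (h : NQ S V) (hT : T ≤ S) : NQ T V := fun B hB => h B (hB.trans hT)

theorem NQ.le_cen (h : NQ S V) (hB : B ≤ S) (q : ⁅⁅V, B⁆, B⁆ = ⊥) (i : (𝐂 B).relIndex V ≤ (𝐂 V).relIndex B) :
    B ≤ 𝐂 V := by_contra fun e => ((h B hB q e).trans_le i).not_ge (Nat.le_self_pow two_ne_zero _)

theorem NQ.iSup {ι : Type*} {W : ι → Subgroup X} (h : ∀ i, NQ D (W i)) : NQ D (⨆ i, W i) := by
  intro B
  induction B using WellFoundedLT.induction with
  | ind B ih =>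
  intro hB hb h0
  obtain ⟨i, hi⟩ : ∃ i, ¬ B ≤ 𝐂 (W i) := not_forall.1 fun e =>
    h0 (le_centralizer_comm.1 (iSup_le fun i => le_centralizer_comm.1 (e i)))
  have c : 𝐂 (⨆ i, W i) ≤ 𝐂 (W i) := centralizer_anti (le_iSup W i)
  have a : (𝐂 (⨆ i, W i)).relIndex (B ⊓ 𝐂 (W i)) ^ 2 ≤ (𝐂 (B ⊓ 𝐂 (W i))).relIndex (⨆ i, W i) := by
    by_cases e : B ⊓ 𝐂 (W i) ≤ 𝐂 (⨆ i, W i)
    · rw [relIndex_eq_one.2 e, one_pow]; exact relIndex_pos _ _
    · exact (ih _ (inf_lt_left.2 hi) (inf_le_left.trans hB) (eq_bot_iff.2 (hb ▸ commutator_mono (commutator_mono le_rfl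
        inf_le_left) inf_le_left)) e).le
  have b := h i B hB (eq_bot_iff.2 (hb ▸ commutator_mono (commutator_mono (le_iSup W i) le_rfl) le_rfl)) hi
  rw [relIndex_eq_mul c, mul_pow, relIndex_eq_mul (centralizer_anti (inf_le_left : B ⊓ 𝐂 (W i) ≤ B)), mul_comm]
  exact Nat.mul_lt_mul_of_lt_of_le (b.trans_le (relIndex_mono_right _
    (le_inf (le_iSup W i) (le_centralizer_comm.1 inf_le_right)))) a (relIndex_pos _ _)

theorem NQ.nclIn (h : NQ S W) (hD : D ≤ S) (hn : L ≤ 𝐍 D) : NQ D (nclIn W L) :=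
  NQ.iSup fun g => (h.conj g).mono (by rw [← cj_eq_self (hn g.2)]; exact cj_mono _ hD)

theorem NQ.JJ_le (h : NQ S V) (hV : IsElementaryAbelian 2 V) (l : V ≤ S) (n : S ≤ 𝐍 V) : JJ 2 S ≤ 𝐂 V :=
  JJ_le_iff.2 fun A hA => by_contra fun e => by
    obtain ⟨B, hB, -, k, q⟩ := hA.exists_quadratic l hV (hA.le.trans n) (mt commutator_eq_bot_iff'.1 e)
    exact k (commutator_eq_bot_iff'.2 (h.le_cen hB.le q (MaxAb.relIndex_le hB l hV)))

theorem NQ.cj_le (h : NQ P V) (hV : IsElementaryAbelian 2 V) (l : V ≤ P) (n : P ≤ 𝐍 V) {g : X} (hg : g ∈ 𝐍 P) :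
    cj g V ≤ 𝐂 V := by
  have e := cj_eq_self hg
  have l' := cj_le_of_mem_normalizer l hg
  have n' : P ≤ 𝐍 (cj g V) := by rw [← e, ← cj_normalizer]; exact cj_mono g n
  rcases le_total ((𝐂 V).relIndex (cj g V)) ((𝐂 (cj g V)).relIndex V) with i | i
  · exact le_centralizer_comm.1 ((e ▸ h.conj g).le_cen l (H28.commutator_eq_bot_iff.2 ((commutator_le_of_le_normalizer'
      (l'.trans n)).trans (ea_le_centralizer hV))) i)
  · exact h.le_cen l' (H28.commutator_eq_bot_iff.2 ((commutator_le_of_le_normalizer' (l.trans n')).trans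
      (ea_le_centralizer (ea_cj hV g)))) i

theorem NQ.ea (h : NQ P V) (hV : IsElementaryAbelian 2 V) (l : V ≤ P) (n : P ≤ 𝐍 V) (hn : L ≤ 𝐍 P) :
    IsElementaryAbelian 2 (H28.nclIn V L) := ea_iSup (fun g => ea_cj hV _) fun g k => by
  rw [← cj_centralizer, le_cj_iff, cj_cj]
  exact h.cj_le hV l n (hn (mul_mem (inv_mem k.2) g.2))

theorem ri_le (h : C ⊓ A ≤ B) : B.relIndex A ≤ C.relIndex A := by
  rw [← inf_relIndex_right C]; exact relIndex_anti_left h A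

theorem exists_layer (hP : IsPGroup 2 P) (l : P ≤ L) (nP : L ≤ 𝐍 P) (n0 : L ≤ 𝐍 W₀) (W : Subgroup X) :
    W₀ ≤ W → W ≤ P → L ≤ 𝐍 W → ¬ ⁅W, O² L⁆ ≤ W₀ → ∃ W1 W2 : Subgroup X, W₀ ≤ W2 ∧ W2 ≤ W1 ∧ W1 ≤ W ∧ L ≤ 𝐍 W1 ∧
      L ≤ 𝐍 W2 ∧ ⁅W1, P⁆ ≤ W2 ∧ ¬ ⁅W1, O² L⁆ ≤ W2 := by
  induction W using WellFoundedLT.induction with
  | ind W ih =>
  intro h0 hW n k
  have l2 : W₀ ⊔ ⁅W, P⁆ ≤ W := sup_le h0 (commutator_le_of_le_normalizer (l.trans n))
  have n2 := le_normalizer_sup n0 (le_normalizer_commutator n nP)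
  have lE := pResidualOf_le 2 L
  have c := commutator_le_of_le_normalizer (lE.trans n)
  by_cases e : ⁅W, O² L⁆ ≤ W₀ ⊔ ⁅W, P⁆
  · obtain ⟨W1, W2, a, b, c, d⟩ := ih _ (lt_of_le_not_ge l2 fun f => k (c.trans (commutator_lt_mod (hP.to_le hW) hP
      (l.trans n) (hW.trans (l.trans n0)) (l.trans n0) f))) le_sup_left (l2.trans hW) n2 fun f =>
        k (commutator_pResidualOf_le' (lE.trans n0) (hP.to_le (c.trans hW)) ((commutator_mono e le_rfl).trans f))
    exact ⟨W1, W2, a, b, c.trans l2, d⟩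
  · exact ⟨W, _, le_sup_left, l2, le_rfl, n, n2, le_sup_right, e⟩

theorem pair (hc : ⁅B, V⁆ ≤ D) (cB : B ≤ 𝐂 D) (cV : V ≤ 𝐂 D) (l : D₀ ≤ D)
    (h2 : ∀ a ∈ D, ∀ b ∈ D, a ∉ D₀ → b ∉ D₀ → a * b ∈ D₀) : (cmod B D₀).relIndex V ≤ (cmod V D₀).relIndex B := by
  classical
  let χ : X → ℚ := fun x => if x ∈ D₀ then 1 else -1
  have m : ∀ a ∈ D, ∀ b ∈ D, χ (a * b) = χ a * χ b := fun a ha b hb => by
    by_cases e : a ∈ D₀ <;> by_cases f : b ∈ D₀ <;> simp [χ, e, f, mul_mem_cancel_left, mul_mem_cancel_right, h2 a ha b hb]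
  have o : ∀ a, χ a = 1 ↔ a ∈ D₀ := fun a => by by_cases e : a ∈ D₀ <;> norm_num [χ, e]
  have z : ∀ a, χ a ≠ 0 := fun a => by by_cases e : a ∈ D₀ <;> norm_num [χ, e]
  have c : ∀ u ∈ B, ∀ v ∈ V, ⁅u, v⁆ ∈ D := fun u hu v hv => hc (commutator_mem_commutator hu hv)
  let φ : V → B →* ℚ := fun v => ⟨⟨fun u => χ ⁅u.1, v.1⁆, by simp [χ]⟩, fun a b => by
    simp only [coe_mul]
    rw [comm_mul_left, ← mem_centralizer'.1 (cB a.2) _ (c _ b.2 _ v.2), mul_inv_cancel_right, m _ (c _ b.2 _ v.2) _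
      (c _ a.2 _ v.2), mul_comm]⟩
  let K := (cmod V D₀).subgroupOf B
  haveI := Fintype.ofFinite (Set.range φ)
  haveI := Fintype.ofFinite (B ⧸ K)
  have i := ((LinearIndependent.of_comp (v := fun (f : Set.range φ) (q : B ⧸ K) => f.1 q.out)
    (LinearMap.funLeft ℚ ℚ (QuotientGroup.mk : B → B ⧸ K)) (by
      convert (linearIndependent_monoidHom B ℚ).comp (Subtype.val : Set.range φ → _) Subtype.val_injective using 1
      swap; · rfl
      funext ⟨_, v, rfl⟩ u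
      obtain ⟨k, hk⟩ := QuotientGroup.mk_out_eq_mul K u
      change φ v _ = φ v u
      rw [hk, map_mul, show φ v k = 1 from (o _).2 (commutatorElement_mem_comm.1 (k.2.2 _ v.2)), mul_one]))).fintype_card_le_finrank
  rw [Module.finrank_fintype_fun_eq_card, ← Nat.card_eq_fintype_card, ← Nat.card_eq_fintype_card] at i
  refine (relIndex_le_card (fun v => (⟨φ v, v, rfl⟩ : Set.range φ)) fun a b e => ?_).trans i
  have hv := mul_mem (inv_mem a.2) b.2
  refine ⟨le_normalizer_of_le_centralizer (cV.trans (centralizer_anti l)) hv, fun u hu => (o _).1 (mul_left_cancel₀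
    (z ⁅u, a.1⁆) ?_)⟩
  rw [← m _ (c _ hu _ a.2) _ (c _ hu _ hv), mul_one, ← mul_inv_cancel_right ⁅u, a.1⁻¹ * b⁆ a.1,
    mem_centralizer'.1 (cV a.2) _ (c _ hu _ hv), ← comm_mul_right, mul_inv_cancel_left]
  exact (DFunLike.congr_fun (congrArg Subtype.val e) ⟨u, hu⟩).symm

theorem exists_hyp (hD : IsElementaryAbelian 2 D) (h : D₁ < D) : ∃ D₀, D₁ ≤ D₀ ∧ D₀ < D ∧
    ∀ a ∈ D, ∀ b ∈ D, a ∉ D₀ → b ∉ D₀ → a * b ∈ D₀ := by
  obtain ⟨D₀, l, m⟩ := Finite.exists_le_maximal (p := (· < D)) h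
  refine ⟨D₀, l, m.prop, fun a ha b hb na nb => ?_⟩
  have c := ea_le_centralizer hD
  have := (sup_le (zpowers_le.2 ha) m.prop.le).eq_or_lt.resolve_right fun e =>
    na (m.le_of_ge e le_sup_right (mem_sup_left (mem_zpowers a)))
  obtain ⟨_, ⟨k, rfl⟩, d, hd, rfl⟩ := (mem_sup_of_le_normalizer (le_normalizer_of_le_centralizer ((zpowers_le.2 ha).trans
    (c.trans (centralizer_anti m.prop.le))))).1 (this.ge hb)
  have s : a ^ (2 : ℤ) = 1 := by exact_mod_cast hD.2 a ha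
  obtain ⟨j, rfl | rfl⟩ := Int.even_or_odd' k
  · exact (nb (by simpa [zpow_mul, s] using hd)).elim
  · simpa [zpow_add, zpow_mul, s, ← mul_assoc, ← zpow_two] using hd

/-- elements whose square lies in `D` -/
def sqIn (h : ⁅W, W⁆ ≤ D) : Subgroup X where
  carrier := {w | w ∈ W ∧ w ^ 2 ∈ D}
  one_mem' := ⟨one_mem _, by simp⟩
  inv_mem' h := ⟨inv_mem h.1, by simpa using h.2⟩
  mul_mem' {a b} ha hb := ⟨mul_mem ha.1 hb.1, by
    rw [show (a * b) ^ 2 = ⁅a * b * a⁻¹, a⁆ * a ^ 2 * b ^ 2 by simp only [pow_two]; group]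
    exact mul_mem (mul_mem (h (commutator_mem_commutator (mul_mem (mul_mem ha.1 hb.1) (inv_mem ha.1)) ha.1)) ha.2) hb.2⟩

/-- minimal parabolic groups -/
structure MP (S L M : Subgroup X) : Prop where
  syl : IsSylowIn 2 S L
  um : UniqMax S L M
  nn : ¬ L ≤ 𝐍 S

namespace MP
variable (h : MP S L M)
include h

theorem res_le (l : N ≤ L) (n : L ≤ 𝐍 N) (hA : A ≤ S) (hN : A ≤ N) (k : ¬ A ≤ O₂ L) : O² L ≤ N :=
  h.um.pResidualOf_le h.syl.isPGroup l (fun e => k ((le_inf hA hN).trans (h.um.inf_le_pCoreOf h.syl e n))) n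

theorem nov (h0 : W₀ ≤ W) (hW : W ≤ O₂ L) (n : L ≤ 𝐍 W) (n0 : L ≤ 𝐍 W₀) (sq : ∀ w ∈ W, w ^ 2 ∈ W₀)
    (k : ¬ ⁅W, O² L⁆ ≤ W₀) (hA : IsElementaryAbelian 2 A) (l : A ≤ S) : (O₂ L).relIndex A ≤ (cmod A W₀).relIndex W := by
  have lP := pCoreOf_le 2 L
  obtain ⟨W1, W2, a, b, c, n1, n2, d, e⟩ := exists_layer (isPGroup_pCoreOf 2 L) lP (le_normalizer_pCoreOf 2 L) n0 W h0 hW n k
  obtain ⟨D⟩ := exists_secRep (p := 2) (c.trans (hW.trans lP)) b n1 n2 ((commutator_mono le_rfl (c.trans hW)).trans d)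
    fun v hv => a (sq v (c hv))
  have lA := l.trans h.syl.le
  exact (ri_le fun x hx => D.ker_le_Q h.syl h.um e ⟨l hx.2, hx.1⟩).trans (((SecRep.le_off_iff lA).1
    ((D.mx h.syl h.um h.nn d e).max _ (SecRep.ea_im lA hA))).trans ((ri_le (C := cmod A W₀) (B := cmod A W2) fun x hx => ⟨n2 (lP (hW (c hx.2))),
      fun u hu => a (hx.1.2 u hu)⟩).trans (relIndex_mono_right _ c)))

theorem two (hD : IsElementaryAbelian 2 D) (l : D ≤ O₂ L) (n : L ≤ 𝐍 D) (l1 : D₁ ≤ D) (n1 : L ≤ 𝐍 D₁)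
    (k : ¬ ⁅D, O² L⁆ ≤ D₁) (k1 : ¬ D₁ ≤ 𝐂 (O² L)) (hA : IsElementaryAbelian 2 A) (lA : A ≤ S) :
    (O₂ L).relIndex A ^ 2 ≤ (𝐂 A).relIndex D := by
  have a := h.nov l1 l n n1 (fun w hw => hD.2 w hw ▸ one_mem _) k hA lA
  have b := h.nov bot_le (l1.trans l) n1 (le_top.trans normalizer_bot.ge) (fun w hw => hD.2 w (l1 hw) ▸ one_mem _)
    (fun e => k1 (H28.commutator_eq_bot_iff.1 (le_bot_iff.1 e))) hA lA
  have nD : D ≤ 𝐍 D₁ := l.trans ((pCoreOf_le 2 L).trans n1)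
  rw [cmod_bot] at b
  rw [← inf_relIndex_right (𝐂 A), relIndex_eq_mul ((inf_comm _ _).le.trans ((inf_le_inf_right _ nD).trans
    (inf_centralizer_le_cmod (U := A) (V := D₁)))), pow_two]
  exact Nat.mul_le_mul (b.trans ((ri_le (inf_le_left.trans inf_le_left)).trans (relIndex_mono_right _ (le_inf l1
    (le_cmod le_normalizer (commutator_le_of_le_normalizer' (lA.trans (h.syl.le.trans n1)))))))) a

theorem nrm (a : O² L ≤ 𝐍 W) (b : S ≤ 𝐍 W) : L ≤ 𝐍 W := h.syl.pResidualOf_sup.ge.trans (sup_le a b)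

theorem qrc (hV : IsElementaryAbelian 2 V) (l : V ≤ O₂ L) (n : S ≤ 𝐍 V) (q : NQ S V) (hA : MaxAb 2 S A)
    (k : ¬ A ≤ O₂ L) : L ≤ 𝐍 (O₂ L ⊓ 𝐂 V : Subgroup X) := by
  have lS := h.syl.pCoreOf_le
  have lP := pCoreOf_le 2 L
  have nP := le_normalizer_pCoreOf 2 L
  have lE := pResidualOf_le 2 L
  have nE := le_normalizer_pResidualOf 2 L
  have eD := (q.mono lS).ea hV l (lS.trans n) nP
  have qD := q.nclIn lS nP
  have lD := nclIn_le l nP
  have nD := le_normalizer_nclIn V L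
  have vD := le_nclIn V L
  have mD := @nclIn_le _ _ V L
  generalize H28.nclIn V L = D at eD qD lD nD vD mD
  obtain ⟨A, hA, k, c⟩ : ∃ A, MaxAb 2 S A ∧ ¬ A ≤ O₂ L ∧ ⁅⁅D, A⁆, A⁆ = ⊥ := by
    by_cases e : ⁅D, A⁆ = ⊥
    · exact ⟨A, hA, k, by rw [e, commutator_bot_left]⟩
    obtain ⟨B, a, -, b, c⟩ := hA.exists_quadratic (lD.trans lS) eD (hA.le.trans (h.syl.le.trans nD)) e
    exact ⟨B, a, fun f => b (commutator_eq_bot_iff'.2 (qD.le_cen f c (MaxAb.relIndex_le a (lD.trans lS) eD))), c⟩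
  have d : (𝐂 A).relIndex D < (O₂ L).relIndex A ^ 2 := by
    have a : 1 < (O₂ L).relIndex A := (relIndex_pos _ _).nat_succ_le.lt_of_ne' (mt relIndex_eq_one.1 k)
    have b := (MaxAb.relIndex_le hA (lD.trans lS) eD).trans (H28.relIndex_le_mul _ (O₂ L) _)
    by_cases e : A ⊓ O₂ L ≤ 𝐂 D
    · rw [relIndex_eq_one.2 e] at b; nlinarith
    have := (qD _ inf_le_right (eq_bot_iff.2 (c ▸ commutator_mono (commutator_mono le_rfl inf_le_left) inf_le_left))
      e).trans_le (relIndex_anti_left (centralizer_anti inf_le_left) _)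
    nlinarith [lt_of_mul_lt_mul_left (((pow_two _).ge.trans_lt this).trans_le b) (Nat.zero_le _), relIndex_pos (𝐂 A) D]
  have t : ∀ D₁ ≤ D, L ≤ 𝐍 D₁ → ¬ ⁅D, O² L⁆ ≤ D₁ → D₁ ≤ 𝐂 (O² L) := fun D₁ a b c => by_contra fun e =>
    d.not_ge (h.two eD lD nD a b c e (abE_iff_ea.1 hA.abE) hA.le)
  have dP := commutator_le_of_le_normalizer (lP.trans nD)
  have nDP := le_normalizer_commutator nD nP
  by_cases e : ⁅D, O² L⁆ ≤ ⁅D, O₂ L⁆
  · have := vD.antisymm (commutator_lt_mod (ea_isPGroup eD) (isPGroup_pCoreOf 2 L) (lP.trans nD) (lD.trans (lS.trans n))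
      (lS.trans n) (mD le_sup_left (h.nrm (H29.le_normalizer_of_commutator_le ((commutator_mono (sup_le vD dP) le_rfl).trans
        (e.trans le_sup_right))) (le_normalizer_sup n (h.syl.le.trans nDP)))))
    exact le_normalizer_inf nP (le_normalizer_centralizer (this ▸ nD))
  replace e := t _ dP nDP e
  have bb := commutator_commutator_pResidualOf' (isPGroup_pCoreOf 2 L) nP
  have bP := commutator_le_of_le_normalizer (lE.trans nP)
  have bE := commutator_le_of_le_normalizer' (lP.trans nE)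
  have nB := le_normalizer_commutator nP nE
  by_cases f : ⁅O₂ L, O² L⁆ ≤ 𝐂 D
  · exact h.nrm (H29.le_normalizer_of_commutator_le ((commutator_mono inf_le_left le_rfl).trans (le_inf bP
      (f.trans (centralizer_anti vD))))) (le_normalizer_inf (h.syl.le.trans nP) (le_normalizer_centralizer n))
  generalize ⁅O₂ L, O² L⁆ = B at bb bP bE nB f
  have l1 := (commutator_mono le_rfl bP).trans dP
  have c1 := (commutator_mono le_rfl bP).trans e
  have n1 := le_normalizer_commutator nD nB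
  have lS1 := l1.trans (lD.trans lS)
  obtain ⟨D₀, a, b, m⟩ := exists_hyp (ea_of_le eD l1) (lt_of_le_not_ge (commutator_le_of_le_normalizer (h.syl.le.trans n1))
    fun e => f (commutator_eq_bot_iff'.1 (eq_bot_of_le_commutator_of_nilpotent (isNilpotent_of_isPGroup h.syl.isPGroup)
      lS1 le_rfl e)))
  have n0 := h.nrm (le_normalizer_of_le_centralizer (le_centralizer_comm.1 (b.le.trans c1)))
    (H29.le_normalizer_of_commutator_le ((commutator_mono b.le le_rfl).trans a))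
  have i := t (D ⊓ cmod B D₀) inf_le_left (le_normalizer_inf nD (le_normalizer_cmod nB n0)) fun e => b.not_ge (by
    have := three_mod (lE.trans n0) (bP.trans (lP.trans n0)) (lD.trans (lP.trans n0)) (by
      rw [comm_comm B, H28.commutator_eq_bot_iff.2 c1]; exact bot_le) (commutator_le_of_le_cmod' (e.trans inf_le_right))
    rwa [comm_comm (O² L), bb, comm_comm] at this)
  have cB := c1.trans (centralizer_anti bE)
  exact (f (qD.le_cen bP (H28.commutator_eq_bot_iff.2 cB) ((ri_le ((inf_comm _ _).le.trans (i.trans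
    (centralizer_anti bE)))).trans ((pair (comm_comm _ _).le (le_centralizer_comm.1 cB) ((ea_le_centralizer eD).trans
      (centralizer_anti l1)) b.le m).trans (ri_le ((inf_comm _ _).le.trans ((inf_le_inf_right _ (bP.trans (lP.trans n0))).trans
        inf_centralizer_le_cmod))))))).elim

theorem cubic (u : UniqMax (R ⊔ O₂ L) L M) (vR : V ≤ R) (rS : R ≤ S) (c : R ≤ 𝐂 V) (n : O₂ L ≤ 𝐍 V) (ch : IsCharP 2 L)
    (hV : IsElementaryAbelian 2 V) (k : ¬ V ≤ O₂ L) : ∃ B ≤ O₂ L, ¬ B ≤ 𝐂 V ∧ (∀ b ∈ B, b ^ 2 ∈ 𝐂 V) ∧ ⁅B, B⁆ ≤ 𝐂 V ∧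
      ⁅⁅⁅V, B⁆, B⁆, B⁆ = ⊥ ∧ (𝐂 B).relIndex V ≤ (𝐂 V).relIndex B ^ 2 := by
  have lP := pCoreOf_le 2 L
  have nP := le_normalizer_pCoreOf 2 L
  have vS := vR.trans rS
  have vL := vS.trans h.syl.le
  have rL := rS.trans h.syl.le
  have eK := h.res_le (nclIn_le_self vL) (le_normalizer_nclIn V L) vS (le_nclIn V L) k
  obtain ⟨g, hg, kg⟩ : ∃ g ∈ L, ¬ cj g V ≤ M := by_contra fun e => h.um.not_pResidualOf_le h.syl
    (eK.trans (nclIn_le_iff.2 fun g hg => by_contra fun f => e ⟨g, hg, f⟩))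
  have uL := cj_le_of_mem vL hg
  have nU : O₂ L ≤ 𝐍 (cj g V) := by rw [← cj_eq_self (nP hg), ← cj_normalizer]; exact cj_mono g n
  have cU := ea_le_centralizer (ea_cj hV g)
  have gen : ∀ W, R ≤ 𝐍 W → O₂ L ≤ 𝐍 W → cj g V ≤ 𝐍 W → L ≤ 𝐍 W := fun W a b c => (u.eq_of_not_le (le_inf (sup_le rL lP)
    (sup_le a b)) inf_le_left fun e => kg ((le_inf uL c).trans e)).ge.trans inf_le_right
  have pV : ⁅O₂ L, V⁆ ≤ V ⊓ O₂ L := le_inf (commutator_le_of_le_normalizer' n) (commutator_le_of_le_normalizer (vL.trans nP))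
  have nZ := gen (V ⊓ O₂ L ⊓ 𝐂 (cj g V)) (le_normalizer_of_le_centralizer (c.trans (centralizer_anti
    (inf_le_left.trans inf_le_left)))) (le_normalizer_inf (le_normalizer_inf n le_normalizer) (le_normalizer_centralizer nU))
    (le_normalizer_of_le_centralizer (le_centralizer_comm.1 inf_le_right))
  have zU : V ⊓ O₂ L ⊓ 𝐂 (cj g V) ≤ cj g V := (cj_eq_self (nZ hg)).ge.trans (cj_mono g (inf_le_left.trans inf_le_left))
  have z3 : V ⊓ O₂ L ⊓ 𝐂 (cj g V) ≤ O₂ L ⊓ 𝐂 (nclIn V L) := le_inf (inf_le_left.trans inf_le_right)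
    (le_centralizer_nclIn ((inf_le_left.trans inf_le_left).trans (ea_le_centralizer hV)) nZ)
  have n3 := le_normalizer_inf nP (le_normalizer_centralizer (le_normalizer_nclIn V L))
  have c3 : O₂ L ⊓ 𝐂 (nclIn V L) ≤ 𝐂 V := inf_le_right.trans (centralizer_anti (le_nclIn V L))
  have e3 : O₂ L ⊓ 𝐂 (nclIn V L) ≤ 𝐂 (O² L) := inf_le_right.trans (centralizer_anti eK)
  have p3 : O₂ L ⊓ 𝐂 (nclIn V L) ≤ O₂ L := inf_le_left
  generalize O₂ L ⊓ 𝐂 (nclIn V L) = D at z3 n3 c3 e3 p3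
  obtain ⟨W, hW⟩ : ∃ W, W = nclIn (V ⊓ O₂ L) L ⊔ D := ⟨_, rfl⟩
  have wP : W ≤ O₂ L := hW ▸ sup_le (nclIn_le inf_le_right nP) p3
  have nW : L ≤ 𝐍 W := hW ▸ le_normalizer_sup (le_normalizer_nclIn _ L) n3
  have aW : V ⊓ O₂ L ≤ W := hW ▸ le_sup_of_le_left (le_nclIn _ L)
  have dW : D ≤ W := hW ▸ le_sup_right
  have n1 := le_normalizer_inf (lP.trans nW) (le_normalizer_centralizer n)
  have n2 := le_normalizer_inf (lP.trans nW) (le_normalizer_centralizer nU)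
  have lW : W ⊓ 𝐂 V ⊔ W ⊓ 𝐂 (cj g V) ≤ W := sup_le inf_le_left inf_le_left
  have eW : W ≤ W ⊓ 𝐂 V ⊔ W ⊓ 𝐂 (cj g V) := hW.le.trans (sup_le (nclIn_le (le_sup_of_le_left (le_inf aW
    (inf_le_left.trans (ea_le_centralizer hV)))) (gen _ (H29.le_normalizer_of_commutator_le ((commutator_mono lW le_rfl).trans
      (le_sup_of_le_left (le_inf (commutator_le_of_le_normalizer (rL.trans nW)) ((commutator_mono (wP.trans n) c).trans
        (commutator_le_of_le_normalizer' (le_normalizer_centralizer le_rfl))))))) (le_normalizer_sup n1 n2)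
      (H29.le_normalizer_of_commutator_le ((commutator_mono lW le_rfl).trans (le_sup_of_le_right (le_inf
        (commutator_le_of_le_normalizer (uL.trans nW)) ((commutator_le_of_le_normalizer' (wP.trans nU)).trans cU)))))))
    (le_sup_of_le_left (le_inf dW c3)))
  have ab : ⁅V ⊓ O₂ L, W ⊓ 𝐂 (cj g V)⁆ ≤ V ⊓ O₂ L ⊓ 𝐂 (cj g V) := le_inf (commutator_le_of_le_normalizer
    ((inf_le_left.trans wP).trans (le_normalizer_inf n le_normalizer)))
    ((commutator_le_of_le_normalizer' (inf_le_right.trans n2)).trans inf_le_right)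
  have nD := wP.trans (lP.trans n3)
  have ww : ⁅W, W⁆ ≤ D := commutator_le_of_le_cmod (hW.le.trans (sup_le (nclIn_le (le_cmod' (aW.trans nD)
    ((commutator_mono le_rfl eW).trans (commutator_sup_le' (inf_le_left.trans nD) (inf_le_left.trans nD) (by
      rw [commutator_eq_bot_iff'.2 (inf_le_right.trans (centralizer_anti inf_le_left))]; exact bot_le) (ab.trans z3))))
      (le_normalizer_cmod nW n3)) (le_cmod' le_normalizer (commutator_le_of_le_normalizer nD))))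
  have sq : ∀ w ∈ W, w ^ 2 ∈ D := fun w hw => ((hW.le.trans (sup_le (nclIn_le_iff.2 fun y hy x hx => ⟨cj_le_of_mem_normalizer
    aW (nW hy) hx, (ea_cj hV y).2 x (cj_mono y inf_le_left hx) ▸ one_mem _⟩) fun x hx => ⟨dW hx, pow_mem hx 2⟩) :
      W ≤ sqIn ww) hw).2
  have i := (h.nov dW wP nW n3 sq (fun e => h.nn (h.nrm (by
    rw [ch.pResidualOf_eq_bot le_rfl (pResidualOf_le_centralizer_of_commutator_le ((isPGroup_pCoreOf 2 L).to_le wP)
      (commutator_le_of_le_cmod ((h.res_le inf_le_left (le_normalizer_inf le_normalizer (le_normalizer_cmod nP nW)) vS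
        (le_inf vL (le_cmod (vL.trans nW) (pV.trans aW))) k).trans inf_le_right))
      (pResidualOf_le_centralizer_of_commutator_le ((isPGroup_pCoreOf 2 L).to_le p3) e (le_centralizer_comm.1 e3)))]
    exact bot_le) le_normalizer)) hV vS).trans (ri_le ((inf_comm _ _).le.trans ((inf_le_inf_right _ nD).trans
      inf_centralizer_le_cmod)))
  have m : (𝐂 V).relIndex (W ⊓ 𝐂 (cj g V)) = (𝐂 V).relIndex W := by
    have nV := le_normalizer_centralizer (wP.trans n)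
    rw [← H1.relIndex_sup_of_le_normalizer (inf_le_left.trans nV), ← H1.relIndex_sup_of_le_normalizer nV]
    exact congrArg _ ((sup_le_sup_right inf_le_left _).antisymm (sup_le (eW.trans (sup_le (le_sup_of_le_right inf_le_right)
      le_sup_left)) le_sup_right))
  refine ⟨W ⊓ 𝐂 (cj g V), inf_le_left.trans wP, fun e => k (relIndex_eq_one.1 ((relIndex_pos _ _).nat_succ_le.antisymm'
    (i.trans (m.symm.trans (relIndex_eq_one.2 e)).le))), fun b hb => c3 (sq b hb.1), (commutator_mono inf_le_left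
      inf_le_left).trans (ww.trans c3), commutator_eq_bot_iff'.2 (inf_le_right.trans (centralizer_anti
        ((commutator_mono ((commutator_mono le_rfl (inf_le_left.trans wP)).trans ((comm_comm _ _).le.trans pV)) le_rfl).trans
          (ab.trans zU)))), (H28.relIndex_le_mul _ (O₂ L) _).trans ?_⟩
  rw [m, pow_two]
  refine Nat.mul_le_mul ((ri_le ((inf_comm _ _).le.trans (zU.trans (le_centralizer_comm.1 inf_le_right)))).trans
    ((relIndex_mono_right _ aW).trans (le_of_eq ?_))) i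
  rw [← relIndex_cj g (𝐂 V), cj_centralizer, cj_eq_self (nW hg)]

end MP
end H28.QR
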