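import Cfsg.Agent.H28.QR1

/-! Normal subgroups of the maximal parabolic containing an offender. -/

set_option autoImplicit false
set_option linter.unusedVariables false
set_option linter.unusedSectionVars false

namespace H28.QR
open H9 hiding zj
open Cfsg Subgroup H28 H29 H29.PU H29.BB H28.GC H29.Rp Equiv
open scoped commutatorElement

theorem swap_gen {ι : Type*} [Finite ι] [DecidableEq ι] {K : Subgroup (Perm ι)} (h : ∀ a b, a ≠ b → swap a b ∈ K)
    (σ : Perm ι) : σ ∈ K := by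
  induction σ using Perm.swap_induction_on with
  | one => exact one_mem _
  | swap_mul τ a b e ih => exact mul_mem (h a b e) ih

theorem alt_le {ι : Type*} [Fintype ι] [DecidableEq ι] : alternatingGroup ι ≤ ⁅(⊤ : Subgroup (Perm ι)), O² ⊤⁆ := by
  rw [← Perm.closure_three_cycles_eq_alternating, closure_le]
  intro z hz
  obtain ⟨s, e⟩ := isConj_iff.1 (Perm.isConj_iff_cycleType_eq.2 (Perm.cycleType_inv z).symm)
  have := commutator_mem_commutator (mem_top s) (mem_pResidualOf (p := 2) (mem_top z) (by rw [hz.orderOf]; norm_num))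
  rwa [commutatorElement_def, e, ← mul_inv_rev, ← pow_two, inv_eq_of_mul_eq_one_right (by
    rw [← pow_succ, ← pow_orderOf_eq_one z, hz.orderOf] : z ^ 2 * z = 1)] at this

variable {P U : Type*} [Group P] [AddCommGroup U] [Module (ZMod 2) U] {ρ : Representation (ZMod 2) P U}
  {A B E N T M : Subgroup P} [Finite U] [Finite P]

theorem glob (h : Hyp ρ T M) (b : Pre ρ B E) (n : T ≤ 𝐍 N) (k : IsSylowIn 2 (T ⊓ E) E → T ⊓ O² E ≤ N) :
    T ⊓ O² ⊤ ≤ N := by
  have nK : ⊤ ≤ 𝐍 (nclIn B ⊤) := le_normalizer_nclIn B ⊤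
  haveI := normal_iff_top_le.2 nK
  have lE : E ≤ nclIn B ⊤ := b.ncl.ge.trans (nclIn_mono le_rfl le_top)
  have nE : nclIn B ⊤ ≤ 𝐍 E := nclIn_le_iff.2 fun g _ => b.rt_le_normalizer (b.rt.cj g)
  have s1 := h.syl.inf_normal' le_top nK
  have s2 := s1.inf_normal' lE nE
  rw [inf_assoc, inf_of_le_right lE] at s2
  have c : ∀ g, ∃ t ∈ T, cj g E = cj t E := fun g => by
    obtain ⟨t, ht, x, hx, rfl⟩ := (mem_sup_of_le_normalizer (le_top.trans nK)).1 (((sup_comm _ _).trans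
      (h.sup_eq_top b.rt.isPGroup b.rt.ne (le_nclIn B ⊤))).ge (mem_top g))
    exact ⟨t, ht, by rw [← cj_cj, cj_eq_self (nE hx)]⟩
  obtain ⟨Y, -, m⟩ := Finite.exists_le_maximal (p := fun Y => Y ≤ nclIn B ⊤ ∧ nclIn B ⊤ ≤ 𝐍 Y ∧ T ⊓ nclIn B ⊤ ⊓ Y ≤ N)
    (a := ⊥) ⟨bot_le, le_top.trans normalizer_bot.ge, inf_le_right.trans bot_le⟩
  have l : nclIn (O² E) ⊤ ≤ Y := nclIn_le_iff.2 fun g _ => by
    obtain ⟨t, ht, e⟩ := c g
    have e' := cj_eq_self (nK (mem_top t))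
    have a : cj g (O² E) ≤ nclIn B ⊤ := cj_le_of_mem_normalizer ((pResidualOf_le _ _).trans lE) (nK (mem_top g))
    have a' : nclIn B ⊤ ≤ 𝐍 (cj g (O² E)) := by
      rw [← cj_normalizer, ← cj_eq_self (nK (mem_top g))]; exact cj_mono g (le_normalizer_pResidualOf' nE)
    refine le_sup_right.trans (m.le_of_ge ⟨sup_le m.prop.1 a, le_normalizer_sup m.prop.2.1 a', ?_⟩ le_sup_left)
    rw [s1.inf_sup_of_normal m.prop.1 m.prop.2.1 (.of_normal a a')]
    refine sup_le m.prop.2.2 ((inf_le_inf_right _ inf_le_left).trans ?_)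
    rw [cj_pResidualOf, e, ← cj_pResidualOf, ← cj_eq_self_of_mem ht, ← cj_inf]
    exact cj_le_of_mem_normalizer (k s2) (n ht)
  have l2 := (h.um.pResidualOf_le h.syl.isPGroup le_top (fun e => h.um.not_le ((h.sup_eq_top b.rt.isPGroup b.rt.ne
    (le_nclIn B ⊤)).ge.trans (sup_le (nclIn_le_iff.2 fun g _ => (c g).elim fun t ht => (cj_mono g b.le).trans
      (ht.2.le.trans (cj_le_of_mem (s2.pResidualOf_sup.ge.trans (sup_le ((le_nclIn _ ⊤).trans e)
        (inf_le_left.trans h.um.le))) (h.um.le ht.1)))) h.um.le))) (le_normalizer_nclIn (O² E) ⊤)).trans l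
  exact (le_inf (inf_le_inf_left _ (l2.trans m.prop.1)) (inf_le_right.trans l2)).trans m.prop.2.2

theorem lemF (h : Hyp ρ T M) (hA : IsElementaryAbelian 2 A) (h0 : A ≠ ⊥) (ho : # U ≤ # A * # (fix ρ A)) (lT : A ≤ T)
    (lN : A ≤ N) (n : M ≤ 𝐍 N) : T ⊓ O² ⊤ ≤ ⁅N, O² ⊤ ⊓ M⁆ := by
  obtain ⟨B, lB, hB, -⟩ := h.exists_rt hA h0 ho
  have bT := lB.trans lT
  have bN := lB.trans lN
  have nF := le_normalizer_commutator (h.um.le.trans n) (le_normalizer_inf (le_top.trans (le_normalizer_pResidualOf 2 ⊤))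
    (le_normalizer_of_le h.um.le))
  rcases h.two_lt_or with hq | ⟨-, hq⟩
  · obtain ⟨E, b, F, _, _, h1, ⟨D⟩⟩ := h.base_sl2 hB (hq B hB)
    refine glob h b.toPre nF fun s => ?_
    have s1 := D.isSylowIn hB b.le h1
    have e := s1.max _ s.isPGroup (le_inf bT b.le) inf_le_right
    have m : E ⊓ 𝐍 B ≤ M := (le_normalizer_of_cj_le fun g (hg : g ∈ E ⊓ 𝐍 B) => cj_JR_le fun C hC l => (b.dich C hC).elim
      (fun c => (cj_eq_self (le_normalizer_of_le_centralizer (le_centralizer_comm.1 c) hg.1)).le.trans l)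
      fun ⟨y, hy, c⟩ => (cj_le_of_mem_normalizer ((le_inf l (c ▸ cj_le_of_mem b.le hy)).trans e.le) hg.2).trans bT).trans
        (h.normalizer_JR hB bT)
    rw [← inf_of_le_right (pResidualOf_le 2 E), ← inf_assoc, e, H3.inf_pResidualOf_eq_of_abelian s1 hB.comm,
      ← (s1.mono (le_inf b.le le_normalizer) inf_le_left).pResidualOf_sup]
    have l : O² (E ⊓ 𝐍 B) ≤ O² ⊤ ⊓ M := le_inf (pResidualOf_mono le_top) ((pResidualOf_le _ _).trans m)
    exact commutator_sup_le' (l.trans (le_normalizer_commutator_right _ _)) (bT.trans nF) (commutator_mono bN l)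
      (by rw [H28.commutator_eq_bot_iff.2 hB.comm]; exact bot_le)
  have hR : ∀ C, Rt ρ C → ∃ t w, C = zpowers t ∧ Tv ρ t w := fun C hC => hC.exists_tv (hq C hC)
  obtain ⟨s, w, rfl, hs⟩ := hR B hB
  obtain ⟨S, _, _, f, a, b, k, D, hab, rfl, -, hk, hm⟩ := h.exists_frD hR hs
  refine glob h (D.pre hab hR) nF fun s => ?_
  obtain ⟨o, ho⟩ := exists_fixed_point hm (h.syl.isPGroup.comap_of_injective f D.inj)
  let φ := f.comp (Perm.ofSubtype (p := (· ≠ o)))
  have j : Function.Injective φ := D.inj.comp Perm.ofSubtype_injective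
  have r : ∀ τ, f τ ∈ T → ∃ σ, φ σ = f τ := fun τ hτ => ⟨_, congrArg f (Perm.ofSubtype_subtypePerm (p := (· ≠ o))
    (fun x => by rw [Ne, ← ho τ hτ, τ.injective.eq_iff, ho τ hτ]) fun x hx e => hx (e ▸ ho τ hτ))⟩
  have sw : ∀ c d, φ (swap c d) = f (swap c.1 d.1) := fun c d => congrArg f (Perm.ofSubtype_swap_eq c d)
  have s1 : IsSylowIn 2 (T.comap φ) ⊤ := ⟨le_top, h.syl.isPGroup.comap_of_injective φ j, fun Q q l _ => l.antisymm'
    (map_le_iff_le_comap.1 ((s.max _ (q.map φ) (by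
      rintro _ ⟨ht, τ, rfl⟩
      obtain ⟨σ, e⟩ := r τ ht
      exact ⟨σ, l (show φ σ ∈ T from e ▸ ht), e⟩) (by rintro _ ⟨σ, -, rfl⟩; exact ⟨_, rfl⟩)).le.trans inf_le_left))⟩
  have tr := H17.sylow_trans (Ω := {x // x ≠ o}) (f := k) (by
    rw [Nat.card_eq_fintype_card, Fintype.card_subtype_compl, hk, Fintype.card_unique]; rfl) s1.toSylowTop
  have m : ∀ σ, φ σ ∈ M := swap_gen (K := M.comap φ) fun c d e => h.cen fun v hv => by
    obtain ⟨⟨τ, hτ⟩, e'⟩ := tr.exists_smul_eq c d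
    have := D.psi_rho (Perm.ofSubtype τ) v d
    rw [show ρ (f (Perm.ofSubtype τ)) v = v from hv _ hτ, Perm.inv_eq_iff_eq.2 (show d.1 = Perm.ofSubtype τ c.1 by
      rw [Perm.ofSubtype_apply_coe, ← e']; rfl)] at this
    rw [sw, (D.tv _ _ (Subtype.coe_ne_coe.2 e)).fix_iff, ← psi_add hm, this, CharTwo.add_self_eq_zero]
  have k5 : swap a b o = o := ho _ (bT (mem_zpowers _))
  have k8 : a ≠ o := fun e => hab (by rwa [← e, swap_apply_left, eq_comm] at k5)
  have k9 : b ≠ o := fun e => hab (by rwa [← e, swap_apply_right] at k5)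
  have m' : ∀ σ, φ σ ∈ N := swap_gen (K := N.comap φ) fun c d e => by
    obtain ⟨η, e'⟩ := isConj_iff.1 (Perm.isConj_swap (w := ⟨a, k8⟩) (x := ⟨b, k9⟩) (Subtype.coe_ne_coe.1 hab) e)
    rw [mem_comap, ← e', map_mul, map_mul, map_inv, sw]
    exact conj_mem_of_normalizer (n (m η)) (bN (mem_zpowers _))
  rintro x ⟨hx, hx'⟩
  rw [MonoidHom.range_eq_map, ← map_pResidualOf] at hx'
  obtain ⟨τ, hτ, rfl⟩ := hx'
  obtain ⟨σ, e⟩ := r τ hx
  have := mem_map_of_mem φ (alt_le (x := σ) (by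
    rw [Perm.mem_alternatingGroup, ← Perm.sign_ofSubtype, D.inj e]
    exact pResidualOf_le_of_pow_mem (K := alternatingGroup S) (fun x _ => ⟨1, by simp⟩) hτ))
  rw [map_commutator, e] at this
  exact commutator_mono (by rintro _ ⟨σ, -, rfl⟩; exact m' σ) (le_inf ((map_pResidualOf_le _ _).trans
    (pResidualOf_mono le_top)) (by rintro _ ⟨σ, -, rfl⟩; exact m σ)) this

end H28.QR
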