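/-
S1730, model chunk II: the conclusion and the quaternion configurations (the top level of S0500 again, for 2-rank 3).
-/
import Cfsg.Agent.H28.R3a

set_option autoImplicit false
set_option linter.unusedSectionVars false

open Cfsg Subgroup H17.GS H28.GH
open H19 hiding eq_bot_mono RR
open H17.T (R2)
open H26.PS (Qg PQ rP cP rQ cQ sQ Pc Qle)
open scoped H26.PS
open H2.Ov (zp_par zp_nsq zp_gen zp_two zp_mem zp_inv zp_cen zp_total zp_comm pe2 inv2 sq_mul2)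
open H23 (ZC sec_le)
namespace H28.R3
universe u

/-- the conclusion of S1730 -/
def Concl (G : Type*) [Group G] : Prop :=
    (∃ (F : Type) (_ : Field F) (_ : Fintype F), Odd (Fintype.card F) ∧ Nonempty (G ≃* ↥(Cfsg.Lie.chevG2.group F))) ∨
      (∃ (K : Type) (_ : Field K) (_ : Fintype K) (q : ℕ), Odd q ∧ Fintype.card K = q ^ 3 ∧ Nonempty (G ≃* ↥(Cfsg.Lie.twistedD4 K q))) ∨
      Cfsg.Lie.IsoRee G ∨
      (∃ (F : Type) (_ : Field F) (_ : Fintype F), Fintype.card F = 8 ∧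
        (Nonempty (G ≃* Matrix.ProjectiveSpecialLinearGroup (Fin 2) F) ∨ Nonempty (G ≃* ↥(Cfsg.Lie.Sz F 4)) ∨
          ∃ (E : Type) (_ : Field E) (_ : Fintype E), Fintype.card E = 64 ∧ Nonempty (G ≃* Cfsg.PSU 3 E 8))) ∨
      Cfsg.Spor.IsoJ1 G ∨ Cfsg.Spor.IsoM12 G ∨ Cfsg.Spor.IsoON G

/-- `G` has been identified, if its 2-rank is 3 -/
def J (G : Type*) [Group G] : Prop := PRankLE 2 3 G → ¬ PRankLE 2 2 G → Concl G

variable {G : Type u} [Group G] [Finite G] {i j n m : ℕ} {z r s r' s' a b c d e f g k p q t u v w x y ω : G}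
  {A B E H K K' L O P S T Q : Subgroup G}

theorem j_r2 (h : PRankLE 2 2 G) : J G := fun _ n => (n h).elim
theorem j_bg (h : Bg G) : J G := fun r => (h r).elim
theorem j_c (h : Concl G) : J G := fun _ _ => h
theorem j_m12 (h : Spor.IsoM12 G) : J G := j_c (.inr (.inr (.inr (.inr (.inr (.inl h))))))

theorem j_st [IsSimpleGroup G] (h : ¬ IsMulCommutative G) (k : StE G) : J G := fun r n => by
  obtain ⟨M, k⟩ := k
  refine .inr (.inr (.inr (.inl ?_)))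
  rcases H25.RT.bender3 h n (fun _ => rk_el r) k with ⟨F, _, _, c, e⟩ | e | ⟨F, _, _, c, e⟩
  · exact ⟨F, _, _, c, .inl e⟩
  · have := Fact.mk Nat.prime_two
    let _ : Fintype (GaloisField 2 3) := Fintype.ofFinite _
    exact ⟨GaloisField 2 3, inferInstance, inferInstance, by rw [← Nat.card_eq_fintype_card, GaloisField.card 2 3 (by norm_num)]; rfl, .inr (.inr e)⟩
  · exact ⟨F, _, _, c, .inr (.inl e)⟩

theorem j_ab [IsSimpleGroup G] (h : ¬ IsMulCommutative G) (k : AbS G) : J G := fun r n => by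
  obtain ⟨S, k⟩ := k
  rcases H7.Ree.walter' h S k with ⟨F, _, _, ⟨a, m, c⟩, ⟨e⟩⟩ | ⟨F, _, _, c, -, ⟨e⟩⟩ | e | e
  · have := l2_le r c e
    have p := H11.card_psl_two (F := F)
    interval_cases a
    · refine (n (H16.GH.rk2 ?_)).elim
      rw [Nat.card_congr e.toEquiv]
      simp [c] at p
      omega
    · exact .inr (.inr (.inr (.inl ⟨F, _, _, c, .inl ⟨e⟩⟩)))
  · exact (n (H16.GH.rk2 (H16.GN.l2_8 c e))).elim
  · exact .inr (.inr (.inl e))
  · exact .inr (.inr (.inr (.inr (.inl e))))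

theorem j_sp (h : H28.GH.Sp G) : J G := by
  rcases h with ⟨F, _, _, c, ⟨e⟩⟩ | ⟨n, a, b, ⟨e⟩⟩ | e | ⟨⟨e⟩⟩ | ⟨⟨e⟩⟩ | ⟨⟨e⟩⟩ | e | ⟨⟨e⟩⟩ | ⟨⟨e⟩⟩
  exacts [j_bg ((bg_f16 (H16.GH.f16_l34 c)).eq e), j_bg ((bg_alt a).eq e), j_m12 e, j_bg ((bg_f16 H16.GH.f16_m22).eq e),
    j_bg ((bg_f16 H16.GH.f16_m23).eq e), j_bg (bg_j2.eq e), j_bg (bg_j3 e), j_bg (bg_mcl e), j_bg (bg_ly.eq e)]

theorem n8 (h : B2 S T H K K' j z r s r' s' x) (zu : IsConj z (𝐮))
    (hn : ∀ E ≤ S, S ≤ N(E) → (∀ a ∈ E, a * a = 1) → #E ≠ 8) : J G := by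
  haveI := h.hy.simple
  obtain ⟨R, rfl⟩ := h.syl.exists_sylow_top
  have zY : ∀ y ∈ 𝐘𝐘, y * y = 1 → y ≠ 1 → IsConj z y := fun y hy yy y1 => by
    by_cases m : y ∈ 𝐙
    exacts [(h.q.mz.1 m).resolve_left y1 ▸ IsConj.refl _, zu.trans (h.cls hy yy m).symm]
  have US := h.UY.trans h.YS
  have ss := h.sq4 sQ sQ h.q.ss h.q'.ss
  refine (Cfsg.Agent.S3102.result (fun N _ o => ?_) (fun w o => ?_) R (fun o => ?_) (fun E n o c => ?_) ((𝐔).subgroupOf R)
    ?_ ((normal_subgroupOf_iff_le_normalizer US).2 h.nU) (fun a ha b hb a1 b1 =>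
      (zY _ (h.UY ha) (h.chU.sq _ ha) (fun e => a1 (Subtype.ext e))).symm.trans (zY _ (h.UY hb) (h.chU.sq _ hb) fun e => b1 (Subtype.ext e)))).elim
    (fun ⟨F, _, _, o, P, e⟩ => ?_) fun o => o.elim (fun ⟨P, e⟩ => ?_) fun e => ?_
  rotate_right 3
  · rcases Cfsg.Agent.S1742.result (Nat.odd_iff.2 (by omega)) R P e with e | e | e
    exacts [j_c (.inl e), j_c (.inr (.inl e)), j_m12 e]
  · exact (Cfsg.Agent.S1776.result R P e).elim (fun ⟨e⟩ => j_bg (bg_j2.eq e)) fun e => j_bg (bg_j3 e)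
  · exact j_bg (bg_ly.eq (Cfsg.Agent.S3100.result h.hy.nab R e).some)
  · rcases IsSimpleGroup.eq_bot_or_eq_top_of_normal N ‹_› with rfl | rfl
    · haveI : Fact (Nat.Prime 2) := ⟨Nat.prime_two⟩
      exact h.hy.nab (isCyclic_of_prime_card (index_bot.symm.trans o)).isMulCommutative
    · simp at o
  · have hO : pPrimeCore 2 G = ⊥ := (IsSimpleGroup.eq_bot_or_eq_top_of_normal _ inferInstance).resolve_right
      fun e => H1.not_dvd_card_pPrimeCore (p := 2) (G := G) (o.1.symm.dvd.trans (orderOf_dvd_card' (e.ge (mem_top w))))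
    have := H7.zstar_mem_center hO o
    rcases IsSimpleGroup.eq_bot_or_eq_top_of_normal (center G) inferInstance with e | e
    · exact absurd (mem_bot.1 (e ▸ this) ▸ o.1) (by simp)
    · exact h.hy.nab ⟨⟨fun a b => mem_center_iff.1 (e ▸ mem_top b) a⟩⟩
  · have c : s * s' * (𝐮) = 𝐮 * (s * s') := by
      rw [← mul_inv_eq_iff_eq_mul, ← conj_conj', ← conj_mul (b := s'), h.cja sQ cQ, h.q'.sP cP, ← conj_mul, h.q.sP cP,
        h.swap.cja sQ (inv_mem cQ), ← mul_inv_rev, ← h.cm cQ cQ, inv2 h.uu]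
    have m : s * s' ∈ 𝐘𝐘 := mul_mem_sup sQ sQ
    have ch := h.chU.step (x := s * s') (fun o => h.q.sP' (h.q.nc' sQ cP h.q.cc1 (by
      have := mem_cent1.1 (sup_le (zpowers_le.2 (mem_cent1.2 (h.q.zq cQ).symm)) (zpowers_le.2 (mem_cent1.2
        (by rw [mul_assoc, ← h.cm cQ cQ]))) o)
      rwa [mul_assoc, ← h.cm cQ sQ, ← mul_assoc, ← mul_assoc, mul_left_inj] at this))) ss fun a ha => by
        rw [mem_cent1.1 (sup_le (zpowers_le.2 (mem_cent1.2 (h.zs (h.YS m)).symm)) (zpowers_le.2 (mem_cent1.2 c.symm)) ha)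
          |>.symm, mul_inv_cancel_right, mul_inv_cancel]
        exact one_mem _
    have l := sup_le US (zpowers_le.2 (h.YS m))
    have := o ((𝐔 ⊔ zpowers (s * s')).subgroupOf R) ⟨⟨fun a b => Subtype.ext (Subtype.ext (ecm ch.sq a.2 b.2))⟩⟩
      fun a ha => Subtype.ext (by rw [sq]; exact ch.sq _ ha)
    rw [card_subgroupOf' l, ch.cd] at this
    omega
  · refine hn (E.map (R : Subgroup G).subtype) (map_subtype_le E) (fun a ha => le_normalizer_map _ ⟨⟨a, ha⟩, ?_, rfl⟩) ?_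
      (by rw [card_map_of_injective (subtype_injective _), c])
    · exact normalizer_eq_top E ▸ mem_top _
    · rintro _ ⟨a, ha, rfl⟩
      rw [← map_mul, ← sq, o.2 a ha, map_one]
  · haveI : Nontrivial ((𝐔).subgroupOf R) := Finite.one_lt_card_iff_nontrivial.1 (by
      rw [card_subgroupOf' US, h.chU.cd]; norm_num)
    exact ⟨by rw [card_subgroupOf' US, h.chU.cd]; rfl, (Monoid.exponent_eq_prime_iff Nat.prime_two).2 fun a a1 =>
      ord2_of (Subtype.ext (Subtype.ext (h.chU.sq _ a.2))) a1⟩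

theorem ca2 (hG : Hy G) (h0 : A2 S K j z r s x) : J G := by
  suffices Y4 G ∨ Y6 G ∨ J G from this.elim (j_bg ∘ y4) fun k => k.elim (j_bg ∘ y6) id
  have h := h0.b2 hG
  generalize x * r * x⁻¹ = r', x * s * x⁻¹ = s', S ⊓ N(K) = T at h
  by_cases zu : IsConj z (𝐮)
  swap
  · refine (h.nz fun v hv k => by_contra fun n => zu (k.trans (h.cls hv (icj_sq k h.q.zz) fun o => ?_))).imp_right .inl
    exact (h.q.mz.1 o).elim (icj_ne k h.q.z1) n
  by_cases hn : ∀ E ≤ S, S ≤ N(E) → (∀ a ∈ E, a * a = 1) → #E ≠ 8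
  · exact .inr (.inr (n8 h zu hn))
  push Not at hn
  obtain ⟨E, l, nE, hE, c⟩ := hn
  obtain ⟨rfl, dg, xx⟩ := h.nE l nE hE c
  have key : ∀ t ∈ S, t ∉ T → t * t ∈ 𝐙 → ∀ d ∈ T, d ∉ 𝐘𝐘 → ∃ K K' H r' s' u, NF S T H K K' z r s r' s' t u ∧
      IsConj z (r * r') := fun t ht tT tt d hd dY => by
    have e : Qg (t * r * t⁻¹) (t * s * t⁻¹) = 𝐐' := by rw [← cj_Qg, h.uQ ht tT]
    obtain ⟨u, h'⟩ := (h.base ht tT).nf (by rwa [e]) tt hd (by rwa [e])
    exact ⟨_, _, _, _, _, u, h', zu.trans (h.cls (e ▸ h'.vY) h'.vv h'.vZ).symm⟩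
  by_cases ni : ∀ w ∈ S, w * w = 1 → w ∈ T
  · obtain ⟨t, ht, tT, tt⟩ := h.sqz xx
    by_cases m : T ≤ 𝐘𝐘
    · exact ((h.base ht tT).t0 (by rwa [← cj_Qg, h.uQ ht tT]) ((h.q.mz.1 tt).resolve_left (mt (ni t ht) tT)) ni).elim
    · obtain ⟨d, hd, dY⟩ := SetLike.not_le_iff_exists.1 m
      obtain ⟨_, _, _, _, _, _, h', k⟩ := key t ht tT tt d hd dY
      exact (h'.ni k ni).elim
  push Not at ni
  obtain ⟨t, ht, tt, tT⟩ := ni
  by_cases m : T ≤ 𝐘𝐘
  · exact .inl (h.y4 h.syl m ht tT tt)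
  · obtain ⟨d, hd, dY⟩ := SetLike.not_le_iff_exists.1 m
    obtain ⟨_, _, _, _, _, _, h', k⟩ := key t ht tT (tt ▸ one_mem _) d hd dY
    exact .inr (.inl (h'.y6' k tt))

theorem j_lt (hG : Hy G) (h : Lt G) : J G := let ⟨_, _, _, _, _, _, _, k⟩ := H16.GH.et G h; ca2 hG k

open H2.GW H29.GS H18.GA in
theorem y2 (hy : Hy G) (h : Y2 G) : J G := by
  have := hy.simple
  obtain ⟨k, φ, h⟩ := h
  by_cases h2 : ∃ s t : G, orderOf s = 2 ∧ orderOf t = 2 ∧ ¬ IsConj s t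
  · exact j_m12 (two_cls h h2).2
  have o : On φ := ⟨h, fun x y hx hy => by_contra fun n => h2 ⟨x, y, hx, hy, n⟩⟩
  have h0 : oddCore (centralizer {φ (z k)}) = ⊥ := by
    rw [← Od_top, Od_top_sub, big G φ h o.one (tyb_all big h).2, bot_subgroupOf]
  obtain ⟨E, _, _, E', _, _, L, L', e₁, e₂, δ, ho, ho', n, n', s, -⟩ :=
    st (o.pr_of (π := .id _) Function.surjective_id (by simp) (Od_top.trans h0))
  have i := (centralizer {φ (z k)}).subtype_injective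
  have sg : ∀ X : Subgroup (centralizer {φ (z k)}), (X.map (Subgroup.subtype _)).subgroupOf _ = X :=
    fun X => comap_map_eq_self_of_injective i X
  have top : ∀ N : Subgroup G, N.Normal → N.index = δ → Nonempty (G ≃* N) := fun N hN e => by
    rcases hN.eq_bot_or_eq_top with rfl | rfl
    · exact (odd_ne_top o.z2 (X := ⊤) (by rw [card_top, ← index_bot, e]; exact s.od) rfl).elim
    · exact ⟨topEquiv.symm⟩
  have := s.idx
  rw [cz_top (o.pr_of (π := .id _) Function.surjective_id (by simp) (Od_top.trans h0)), relIndex_top_right] at this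
  obtain ⟨-, -, -, r | ⟨-, r, -⟩ | ⟨-, -, -, N, a, b, ⟨r⟩⟩ | ⟨-, -, N, a, b, ⟨c, ⟨r⟩⟩ | ⟨c, ⟨r⟩⟩⟩⟩ :=
    Agent.S3212.result (L.map (Subgroup.subtype _)) (L'.map (Subgroup.subtype _)) ((equivMapOfInjective L _ i).symm.trans e₁)
      ((equivMapOfInjective L' _ i).symm.trans e₂) (by
        rintro _ ⟨x, hx, rfl⟩ _ ⟨y, hy, rfl⟩; exact congrArg Subtype.val (s.pr.comm x hx y hy)) _ o.z2
      (by
        rw [← map_inf _ _ _ i, show L ⊓ L' = zpowers _ from le_antisymm (fun x hx => by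
          rcases s.pr.inf x hx.1 hx.2 with rfl | rfl
          exacts [one_mem _, mem_zpowers _]) (zpowers_le.2 (mem_inf.2 ⟨s.pr.h₁.mem, s.pr.h₂.mem⟩)),
          MonoidHom.map_zpowers]; rfl)
      (sup_le (map_subtype_le _) (map_subtype_le _)) h0 δ s.od
      (.inl ⟨by rw [← Subgroup.map_sup, sg]; infer_instance, by rw [← Subgroup.map_sup, relIndex, sg, this]⟩)
  · rw [(Normal.eq_bot_or_eq_top (H := oddCore G) inferInstance).resolve_right
       (odd_ne_top o.z2 H1.odd_card_oddCore), sup_bot_eq] at r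
    obtain ⟨g, e⟩ := T.of_isConj o.c1.symm
    exact (z₁_ne_z (h.inj ((show _ = _ from e).symm.trans (mem_cent1_conj.1 (r.ge (mem_top g)))))).elim
  · exact (r (by rwa [sg])).elim
  · exact j_c (.inl ⟨E, _, _, ho, ⟨(top N a b).some.trans r⟩⟩)
  · exact j_c (.inr (.inl ⟨E', _, _, _, ho, c, ⟨(top N a b).some.trans r⟩⟩))
  · exact j_c (.inr (.inl ⟨E, _, _, _, ho', c, ⟨(top N a b).some.trans r⟩⟩))

open H0.GI in
theorem iz (hG : Hy G) (h : Cp t K) (ht : t ∈ K) (k : Sz8 (Xb t K)) : J G := by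
  obtain ⟨F, _, _, c, ⟨e⟩⟩ := k
  have c' : Fintype.card F = 2 ^ (2 * 1 + 1) := c
  let _ := H23.Sz.titsOfCard c'
  have := H23.Sz.big_of_card_eq le_rfl c'
  let _ := (H23.Sz.lieModel c').ofEquiv e
  have tO := Cp.CO (mem_cent1_self t)
  obtain ⟨S, hS, k1, k2⟩ := core (F := F) (Nat.card_eq_fintype_card.trans c) (hG.r4.quo _) h.comp (mem_im_of (x := ⟨t, tO⟩) ht)
    Cp.Ht h.tb1 (by rw [← map_mul]; exact (congrArg _ (Subtype.ext h.tt)).trans (map_one _)) h.z2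
  obtain ⟨P, hP, rfl⟩ := hS.exists_slift (Oc_normal _ _)
  obtain ⟨φ, hi, e, e'⟩ := qlift (O_og C[t]) hP.pi (hP.le.trans Cp.CO)
  have tP := mem_syl hP le_rfl (mem_cent1_self t) h.tt
  have m : ∀ a : P, φ a ∈ quo O(C[t]) P := fun a => e ▸ mem_map_of_mem φ (mem_top a)
  have sq : ∀ a : P, (a : G) * a = 1 → φ a * φ a = 1 := fun a k => by rw [← map_mul, show a * a = 1 from Subtype.ext k, map_one]
  have c1 : ∀ a ∈ P, ∀ b ∈ P, a * a = 1 → b * b = 1 → a * b = b * a := fun a ha b hb aa bb => congrArg Subtype.val (hi (by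
    rw [map_mul, map_mul]; exact k1 _ (m ⟨a, ha⟩) _ (m ⟨b, hb⟩) (sq _ aa) (sq _ bb)) : (⟨a, ha⟩ * ⟨b, hb⟩ : P) = ⟨b, hb⟩ * ⟨a, ha⟩)
  have hP' : Syl 2 P ⊤ := hP.syl_of_norm_le le_top fun n hn => by
    have a1 := conj_mem_of_norm hn.2 tP
    have a2 := conj_mem_of_norm (norm_le_norm_cent _ hn.2) (le_cent1_iff.1 hP.le)
    rcases k2 _ (m ⟨_, a1⟩) (mem_cent.2 fun b hb => by
      obtain ⟨b, -, rfl⟩ := e.ge hb
      rw [← map_mul, ← map_mul]; exact congrArg φ (Subtype.ext (mem_cent.1 a2 b b.2))) (sq _ (by simp [conj_mul, h.tt])) with k | k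
    · exact absurd (congrArg Subtype.val (hi (k.trans φ.map_one.symm))) (H17.GS.conj_ne_one h.t1 n)
    · exact mem_cent1.2 (mul_inv_eq_iff_eq_mul.1 (congrArg Subtype.val (hi (k.trans (e' ⟨t, tP⟩).symm))))
  obtain ⟨S, rfl⟩ := hP'.exists_sylow_top
  have := hG.simple
  let A : Subgroup G := ⟨⟨⟨{a | a ∈ S.1 ∧ a * a = 1}, fun {a b} ha hb => ⟨mul_mem ha.1 hb.1,
    H2.Ov.sq_mul2 ha.2 hb.2 (c1 a ha.1 b hb.1 ha.2 hb.2)⟩⟩, one_mem _, one_mul _⟩,
    fun {a} ha => ⟨inv_mem ha.1, by rw [← mul_inv_rev, ha.2, inv_one]⟩⟩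
  rcases Agent.S1169.result S A (ne_bot_of_mem (x := t) ⟨tP, h.tt⟩ h.t1)
    ⟨⟨fun a b => Subtype.ext (c1 _ a.2.1 _ b.2.1 a.2.2 b.2.2)⟩⟩ ⟨fun _ k => k.1, fun a ha g k => ⟨k, by simp [conj_mul, ha.2]⟩⟩ with k | k
  exacts [j_ab hG.nab ⟨S, k⟩, j_st hG.nab k]

end H28.R3
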