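/-
S1730, model chunk III: simple groups of 2-rank 3 and sectional 2-rank at most 4.
-/
import Cfsg.Agent.H28.R3b

set_option autoImplicit false
set_option linter.unusedSectionVars false

namespace H28.R3
universe u

export H19 (cj_zpowers cj_eq_iff card_mul_relIndex cj_le_iff conj_mem_cj cj_inj cj_bot PG
  cj_inv_cj cj_mono card_cj orderOf_conj' cj_lt_cj cj_eq_top relIndex_pos cj_inf le_cj_iff
  cj_cj relIndex_cj cj_eq_bot cj_le_cj cj_le_of_mem cj_one cj_sup cj_cj_inv card_subgroupOf mem_cj cj_top)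

section
open Cfsg Subgroup H17.GS H28.GH MatrixGroups H21.GN
open H19 hiding eq_bot_mono RR
open H0.GE (Hb)
variable {G : Type u} [Group G] [Finite G] {t : G} {A R S : Subgroup G} {F : Type} [Field F] [Fintype F]

theorem j_ab' (hy : Hy G) (hS : Syl 2 S ⊤) (h : Ab S) : J G :=
  have := Fact.mk Nat.prime_two
  have := hy.simple
  let ⟨P, e⟩ := hS.exists_sylow_top; j_ab hy.nab ⟨P, e ▸ h⟩

theorem j_16' (h : Hy G) (c : ¬ 32 ∣ Nat.card G) : J G := by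
  have := h.simple
  obtain ⟨S, hS⟩ := exists_syl 2 (⊤ : Subgroup G)
  obtain ⟨k, e⟩ := hS.pi.exists_card
  have : k < 5 := not_le.1 fun l => c ((pow_dvd_pow 2 l).trans (e ▸ card_subgroup_dvd_card S))
  exact (H13.Dg.rk16 (H29.NU.comm_top h.nab) hS (e ▸ Nat.pow_le_pow_right two_pos (by omega : k ≤ 4))).elim j_r2 (j_ab' h hS)

theorem j_sc' (h : Hy G) (hS : Syl 2 S ⊤) (l : A ≤ S) (c : ∀ a ∈ A, ∀ g, g * a * g⁻¹ ∈ S → g * a * g⁻¹ ∈ A) (ab : Ab A)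
    (n : A ≠ ⊥) : J G := by
  have := h.simple
  have := Fact.mk Nat.prime_two
  obtain ⟨P, rfl⟩ := hS.exists_sylow_top
  exact (Agent.S1169.result P A n ab ⟨l, c⟩).elim (j_ab' h hS) (j_st h.nab)

/-- all involutions of a Sylow subgroup are central in it -/
theorem j_cen' (h : Hy G) (hS : Syl 2 S ⊤) (n : S ≠ ⊥) (c : ∀ x ∈ S, x * x = 1 → x ∈ C(S)) : J G := by
  let A : Subgroup G := ⟨⟨⟨{x | x ∈ S ∧ x * x = 1}, fun {a b} ha hb => ⟨mul_mem ha.1 hb.1,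
    sq_mul ha.2 hb.2 (mem_cent.1 (c b hb.1 hb.2) a ha.1)⟩⟩, one_mem _, one_mul 1⟩,
    fun {a} ha => ⟨inv_mem ha.1, by rw [← mul_inv_rev, ha.2, inv_one]⟩⟩
  obtain ⟨x, hx, ix⟩ := exists_iv hS.pi n
  exact j_sc' h hS (A := A) (fun _ k => k.1) (fun a k g m => ⟨m, conj_sq k.2 g⟩)
    (comm_iff_le_cent.2 fun a k => cent_mono (H := A) (fun _ k => k.1) (c a k.1 k.2)) (ne_bot_of_mem ⟨hx, ix.sq⟩ ix.ne)

theorem j_two' (h : Hy G) (hS : Syl 2 S ⊤) (c : ⁅S, S⁆ ≤ C(S)) (d : 3 ∣ Nat.card G) : J G := by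
  have := h.simple
  have := Fact.mk Nat.prime_two
  by_cases ab : Ab S
  · exact j_ab' h hS ab
  obtain ⟨P, rfl⟩ := hS.exists_sylow_top
  rcases Agent.S1170.result P P ⟨le_rfl, fun _ _ _ k => k⟩ ab (commg_le_iff.2 fun x _ y _ => mem_center_iff.2 fun z =>
    Subtype.ext (mem_cent.1 (c (comm_mem x.2 y.2)) z z.2)) with
    ⟨F, _, _, q, ⟨e⟩⟩ | ⟨F, _, _, q, c, q2, -, ⟨e⟩⟩ | ⟨-, m, -, e⟩ | ⟨F, _, _, q, ⟨e⟩⟩ | ⟨F, _, _, q, c, ⟨e⟩⟩ | ⟨⟨e⟩⟩
  · refine j_16' h fun k => ?_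
    have c := H11.card_psl_two (F := F)
    rw [← Nat.card_congr e.toEquiv] at c
    generalize Fintype.card F = n at *
    have g : Nat.gcd 2 (n - 1) = 2 := Nat.gcd_eq_left (by omega)
    have := (Nat.Coprime.pow_left 5 (Nat.coprime_two_left.2 (Nat.odd_iff.2 (by omega : n % 2 = 1)))).dvd_of_dvd_mul_left
      (c ▸ k.mul_left _)
    obtain ⟨j, rfl | rfl⟩ : ∃ j, n = 16 * j + 7 ∨ n = 16 * j + 9 := ⟨n / 16, by omega⟩ <;> ring_nf at this <;> omega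
  · obtain ⟨p, n, hp, e'⟩ := FiniteField.card' F |>.imp fun p k => k.2.imp fun n k => k
    obtain rfl : 2 = p := (Nat.prime_dvd_prime_iff_eq Nat.prime_two hp).1
      (Nat.prime_two.dvd_of_dvd_pow (e' ▸ c ▸ q2.two_dvd.trans (dvd_pow_self q two_ne_zero)))
    obtain ⟨k, -, rfl⟩ := (Nat.dvd_prime_pow Nat.prime_two).1 (e' ▸ c ▸ dvd_pow_self q two_ne_zero)
    obtain ⟨f⟩ := H4.U3.equiv_sylow (p := 2) c (P.mapSurjective (f := e.toMonoidHom) e.surjective)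
    have f := f.trans (P.1.equivMapOfInjective _ e.injective).symm
    refine j_cen' h hS (fun k => ab (k ▸ comm_bot)) fun x hx k => mem_cent.2 fun y hy => ?_
    have := mem_center_iff.1 (H4.U3.mem_center.2 (H4.U3.sq_eq_one.1 (show f.symm ⟨x, hx⟩ * f.symm ⟨x, hx⟩ = 1 by
      rw [← map_mul, ← map_one f.symm]; exact congrArg _ (Subtype.ext k)))) (f.symm ⟨y, hy⟩)
    rw [← map_mul, ← map_mul] at this
    exact congrArg Subtype.val (f.symm.injective this)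
  · obtain ⟨j, k⟩ : ∃ j, 2 ^ (2 * m + 1) = 3 * j + 2 := ⟨2 ^ (2 * m + 1) / 3, by
      have : 2 ^ (2 * m + 1) % 3 = 2 := by rw [pow_succ, pow_mul, Nat.mul_mod, Nat.pow_mod]; simp
      omega⟩
    rw [e, k, show 3 * j + 2 - 1 = 3 * j + 1 by omega] at d
    ring_nf at d; omega
  · obtain ⟨n, -, c⟩ := FiniteField.card F 2
    have l := l3_le h.r4 e
    obtain c | c : Fintype.card F = 2 ∨ Fintype.card F = 4 := by
      rw [c] at l ⊢
      have : (n : ℕ) ≤ 2 := (Nat.pow_le_pow_iff_right one_lt_two).1 (l.trans_eq (by decide : 4 = 2 ^ 2))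
      have := n.pos
      obtain e | e : (n : ℕ) = 1 ∨ (n : ℕ) = 2 := by omega
      all_goals simp [e]
    · refine j_16' h ?_
      have k := H11.card_psl (F := F) (ι := Fin 3)
      have k' := H11.card_units_mul_card_sl (F := F) (ι := Fin 3)
      rw [H11.card_gl, c] at k'
      rw [c] at k
      simp [Fin.prod_univ_succ] at k k'
      rw [Nat.card_congr e.toEquiv, k.trans k']; decide
    · exact j_sp (.inl ⟨F, _, _, c, ⟨e⟩⟩)
  · exact absurd c (sp_le h.r4 e).not_ge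
  · exact j_16' h (by rw [Nat.card_congr e.toEquiv, H18.NC.card_a7]; decide)

theorem j_con' (h : Hy G) (i : Iv t) (n : ¬ Sol C[t]) (c : IsPConstrained 2 C[t]) : J G := by
  have := h.simple
  refine j_sp ?_
  rcases Agent.S3115.result h.nab h.r4 t i.ord n c with k | k | k <;> simp only [H28.GH.Sp, k, true_or, or_true]

theorem j_loc' (h : Hy G) (h2 : ∀ S : Subgroup G, Syl 2 S ⊤ → ∀ z : G, z ≠ 1 → z * z = 1 → S ≤ C[z] → Sol C[z]) (hR : PG 2 R)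
    (R1 : R ≠ ⊥) (s : Sol C(R)) (n : ¬ Sol N(R)) : J G := by
  have := h.simple
  have := Fact.mk Nat.prime_two
  have c : IsPConstrained 2 N(R) := H1.isPConstrained_iff_pLayer.2 (map_injective (Subgroup.subtype_injective _) (by
    rw [H1.pLayerOf_normalizer_eq hR.isPGroup, H1.isPConstrained_iff_pLayer.1 (H1.isPConstrained_of_isSolvable s),
      Subgroup.map_bot, Subgroup.map_bot]))
  rcases Agent.S3114.result h.nab h.r4 (fun t ⟨o, P, _, k⟩ => h2 P (syl_sylow_top P) t (ne_one_of_ord2 o) (mul_self_of_ord2 o)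
    fun x hx => mem_cent1.2 (k x hx)) ⟨R, hR.isPGroup, R1, n, c⟩ with
    ⟨F, _, _, q, e | e | e⟩ | ⟨F, _, _, q, e⟩ | k | k | k
  · exact j_lt h (.inl ⟨F, _, _, by rw [q]; decide, .inr e⟩)
  · exact j_lt h (.inl ⟨F, _, _, by rw [q]; decide, .inl e⟩)
  · exact j_c (.inl ⟨F, _, _, by rw [q]; decide, e⟩)
  · exact j_lt h (.inr ⟨F, _, _, 3, q, by decide, e⟩)
  · exact j_sp (.inl k)
  · exact j_sp (.inr (.inl k))
  · exact j_sp (.inr (.inr (.inr (.inl k))))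

theorem g1 (h : Hy G) (i : ¬ J G) (ni : ∀ (t : G) K, H28.GH.Cp t K → t ∉ K) : N1 G := by
  refine ⟨h, ni, fun S A hS l c ab => by_contra fun n => i (j_sc' h hS l c ab n), fun S hS c d => i (j_two' h hS c d),
    fun S A hS l c n => by_contra fun s => ?_, fun t it n => (cp_or it).resolve_left fun c => i (j_con' h it n c)⟩
  have := h.simple
  obtain ⟨L, k, -, s', p⟩ := H2.GW.exists_perf s
  have m := H25.PF.scl_Pc_normal (O_top h) (SCl.of_syl hS l fun a ha g _ => c a ha g)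
  rcases (normalizer_eq_top_iff.1 (top_le_iff.1 m.norm)).eq_bot_or_eq_top with e | e
  · exact s' (le_bot_iff.1 (e ▸ H25.PF.le_Pc k.le p) ▸ inferInstance)
  · exact not_top h n (top_le_iff.1 (e.ge.trans H25.PF.Pc_le))

theorem g3 (h : Hy G) (i : ¬ J G) (h2 : ∀ S : Subgroup G, Syl 2 S ⊤ → ∀ z : G, z ≠ 1 → z * z = 1 → S ≤ C[z] → Sol C[z]) :
    Hb G := ⟨h, h2, fun _ hR R1 s => by_contra fun n => i (j_loc' h h2 hR R1 s n)⟩

theorem nc (h : Hy G) (n : ∀ (t : G) K, ¬ H28.GH.Cp t K) : J G := by_contra fun i => by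
  have := h.simple
  have := Fact.mk Nat.prime_two
  have s : ∀ z : G, Iv z → Sol C[z] := fun z iz => by_contra fun k =>
    i (j_con' h iz k ((cp_or iz).resolve_right fun ⟨K, k⟩ => n z K k))
  have s2 : H29.NU.S2 G := fun R hR R1 => by_contra fun k => by
    have p := PiN.of_isPGroup Nat.prime_two hR
    obtain ⟨z, hz, iz⟩ := exists_iv p R1
    exact i (j_loc' h (fun _ _ z z1 zz _ => s z ⟨zz, z1⟩) p R1 (sol_mono (s z iz) (cent_le_cent1 hz)) k)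
  have h2 : ¬ PRankLE 2 2 G := fun k => i (j_r2 k)
  obtain ⟨P⟩ : Nonempty (Sylow 2 G) := inferInstance
  obtain ⟨A, hA⟩ := H1.exists_el3 P h2
  by_cases hU : H28.NG.Uniq (P : Subgroup G)
  · exact i (j_st h.nab (H29.NU.spe_of_uniq h.nab (s2.hyp h.nab h2) (syl_sylow_top P) h2 hU))
  obtain ⟨z, y, e⟩ := H29.NU.Am.out (s2.hyp h.nab h2) (syl_sylow_top P) ⟨A, hA.le, hA.ab, hA.card.ge⟩ hU
  exact absurd (ea_le h.r4 ⟨fun _ => (H18.NT.T3.of e).vsq, e.cardV⟩) (by decide)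

end

section
open Cfsg Subgroup H17.GS H0.GE H3.GE
open H19 hiding eq_bot_mono RR
open H28.GH (Hy ex_odd s4401 Y4 Y6 Y2)
open scoped H28.GH
open H6.CL hiding Fp Dd
open H6.NE (exists_z hyp_cent4 hyp_le hyp_zp4 br_one cmul swap4 sq_cent')
open H26.PS (Qg)
variable {G : Type u} [Group G] [Finite G] {A B S T Q V : Subgroup G} {a b c d f g m n s t v w x y z η ρ ζ : G}

theorem g4 (hb : Hb G) (h0 : Sb S T Q V x s η) (eV : EA 4 V) (fp : H0.GE.Fp η V) (cV : T ⊓ C(V) ≤ Q ⊔ V) :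
    Y4 G ∨ Y6 G ∨ Y2 G ∨ J G := by
  have b2 := H0.GE.b2 (H0.GE.b2a H15.GE.ta H15.GE.tm) H3.GE.b2b.{u}
  have b12 := H3.GE.b12 H15.GE.ta.{u}
  have b14 := H23.GE.b14.{u}
  have tw := H15.GE.tw.{u}
  have := hb.simple
  have h : S4 S T Q V x s η := ⟨h0, eV, fp, cV⟩
  have TS : T ≤ S := h.TS ▸ inf_le_left
  by_cases k : cj s Q ≤ Q ⊔ V
  · have ex : ∀ y ∈ Q, y * y = 1 := fun y hy => by
      have := h.sq (conj_mem_cj.2 hy) (k (conj_mem_cj.2 hy))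
      rwa [← cmul, conj_eq_one_iff] at this
    by_cases q : Q ≤ zpowers x
    · exact (b2 G hb.toHy S T V x η ⟨h.syl, h.TS, h.sylT, fun e => h.sT (e ▸ h.sS), h.xx, h.QT h.xQ,
        fun e => h.x1 (mem_bot.1 (h.dis.le ⟨h.xQ, e⟩)), h.PT, h.nP, cV.trans (sup_le_sup_right q V), cent_le_cent1 h.xQ h.ηQ, fp⟩
        eV).imp_right fun e => .inr (.inl e)
    have c1 := pg_lt_card (h.sylT.pi.of_le h.QT) (lt_of_le_not_ge (zpowers_le' h.xQ) q)
    have c2 := card_le (sup_le (le_sup_left : Q ≤ Q ⊔ V) k)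
    rw [card_zp h.xx h.x1] at c1
    rw [card_sup_of_disjoint (h.QsT.trans h.nQ) h.ti, card_cj, h.cE] at c2
    have eQ : EA 4 Q := ⟨ex, le_antisymm (Nat.le_of_mul_le_mul_left c2 (card_pos Q)) c1⟩
    obtain ⟨S', h'⟩ := b1a G S T Q V x s η h0 eV fp cV eQ k
    by_cases r : ∃ g ∈ N(Q ⊔ V), cj g Q = V
    · exact .inl (b12 G hb.toHy S' Q V η h' r)
    · exact .inr (.inr (.inr ((b14 G hb S' Q V η h' fun g a b => r ⟨g, a, b⟩).elim (j_ab hb.nab) (j_st hb.nab))))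
  obtain ⟨t, ht, t1⟩ := SetLike.not_le_iff_exists.1 k
  have y0 := h.hy.resolve_left fun l => k (h.QsT.trans l)
  have nab : ¬ Q ≤ C(Q) := fun c => t1 (h.cV ⟨h.QsT ht, cent_mono h.PT (cents_symm (h.cs (hyp_le y0 (h.QsT ht) t1
    (sup_le c (cents_symm h.QP)) (cents_symm h.com ht))) ht)⟩)
  set D := cj s Q
  have pD : PG 2 D := h.sylT.pi.of_le h.QsT
  have nab' : ¬ D ≤ C(D) := fun c => nab (by rwa [← cj_cent, cj_le_cj] at c)
  have y1 : Hyp (D ⊓ (Q ⊔ V)) D := H6.NE.hyp_of' k fun a ha b hb => hmul y0 (h.QsT ha) (h.QsT hb)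
  have ex : ∀ a ∈ D ⊓ (Q ⊔ V), a * a = 1 := fun a ha => h.sq ha.1 ha.2
  have nA : t ∉ C(D ⊓ (Q ⊔ V)) := fun c => nab' (hyp_le y1 ht (fun e => t1 e.2) (cents_symm (hyp_le y1 ht (fun e => t1 e.2)
    (comm_iff_le_cent.1 (H6.NE.abelem_sq ex).1) c)) (le_cent1_iff.1 (hyp_le y1 ht (fun e => t1 e.2) (le_cent1_iff.2 c) (mem_cent1_self t))))
  have c1 := card_le (sup_le h.QT h.QsT)
  have c2 := h.cT
  have c3 := card_cj s Q
  have c4 := card_pos Q
  rw [card_sup_of_disjoint (h.QsT.trans h.nQ) h.ti] at c1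
  have c5 := y1.card
  have eA : EA 4 (D ⊓ (Q ⊔ V)) := ⟨ex, le_antisymm (by nlinarith)
    (four_le (pD.infl _) (zpowers_le' (hnorm y1 ht)) fun c => nA (c (mem_zpowers t)))⟩
  obtain ⟨v, hv, v1, vD⟩ := exists_z pD ((el eA).of_le inf_le_left) (hnorm y1)
  obtain ⟨e, he, e1, e2⟩ := ex2 eA v (ex v hv)
  have vv := ex v hv
  have sw : ∀ t ∈ D, t ∉ C(D ⊓ (Q ⊔ V)) → t * e * t⁻¹ = v * e := fun t a b => swap4 (el eA) (hnorm y1 a) b hv v1 (vD a) he e1 e2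
  have cA := (el eA).le_cent
  have zv : ∀ a ∈ D, a ∈ C(D) → a = 1 ∨ a = v := fun a a1 a2 => by
    have aA : a ∈ D ⊓ (Q ⊔ V) := by_contra fun r => nab' (hyp_le y1 a1 r (cents_symm (hyp_le y1 a1 r cA
      (cent_mono inf_le_left a2))) a2)
    by_contra! r
    exact nA (H6.NE.cent4 (el eA) hv aA v1 r.1 r.2 (vD ht) (le_cent1_iff.2 a2 ht))
  obtain ⟨b, hb', b1, bb⟩ : ∃ b ∈ D, b ∉ C(D ⊓ (Q ⊔ V)) ∧ b * b = v := by
    have tt := hmul y1 ht ht (fun e => t1 e.2) fun e => t1 e.2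
    rcases zv _ tt.1 (le_cent1_iff.1 (hyp_le y1 ht (fun e => t1 e.2) (le_cent1_iff.2 (cA tt)) (mem_cent1.2 (mul_assoc t t t).symm)))
      with r | r
    · refine ⟨t * e, mul_mem ht he.1, by rwa [mul_mem_cancel_right (cA he)], ?_⟩
      rw [show t * e * (t * e) = t * e * t⁻¹ * (t * t) * e by group, r, sw t ht nA, mul_one, mul_assoc, ex e he, mul_one]
    · exact ⟨t, ht, nA, r⟩
  have dh : Dh 0 v b e := ⟨by simpa, vv, v1, ex e he, by
    rw [show e * b * e⁻¹ = e * (b * e⁻¹ * b⁻¹) * b by group, isq (ex e he), sw b hb' b1, ← mem_cent1.1 (vD he.1), ← mul_assoc,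
      ex e he, one_mul, eq_inv_iff_mul_eq_one, mul_assoc, bb, vv]⟩
  have eD : D = Qg b e := le_antisymm (hyp_le y1 hb' (fun r => b1 (cA r)) (hyp_le (hyp_zp4 (el eA) hv v1) he
    (fun r => ((mem_zp vv).1 r).elim e1 e2) (zpowers_le' (bb ▸ mem_sup_left (mul_mem (mem_zpowers b) (mem_zpowers b))))
    (mem_sup_right (mem_zpowers e))) (mem_sup_left (mem_zpowers b))) (sup_le (zpowers_le' hb') (zpowers_le' he.1))
  have eT : D ⊔ Q = T := eq_of_le_of_card_eq (sup_le h.QsT h.QT) (by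
    rw [sup_comm, card_sup_of_disjoint (h.QsT.trans h.nQ) h.ti]; rw [eA.card] at c5; nlinarith)
  have zc : ∀ a ∈ Q, a ∈ C(Q) → s * a * s⁻¹ = 1 ∨ s * a * s⁻¹ = v := fun a a1 a2 =>
    zv _ (conj_mem_cj.2 a1) (by rw [← cj_cent]; exact conj_mem_cj.2 a2)
  have xv := (zc x h.xQ (le_cent1_iff.1 (h.QT.trans h.sylT.le))).resolve_left (H17.GS.conj_ne_one h.x1 s)
  have i := (s4401 hb.r4 h.syl.pi (h.QT.trans TS) (z := x) ⟨h.xQ, h.x1, fun a ha => mem_cent1.1 (h.sylT.le (h.QT ha)),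
    fun a a1 a2 => (zc a a1 (mem_cent.2 a2)).imp conj_eq_one_iff.1 fun r => H6.NE.cinj (r.trans xv.symm), by
      by_contra! r; exact nab fun a ha => mem_cent.2 fun b hb => r b hb a ha⟩ (h.TS ▸ h.nQ)).resolve_left
    fun r => h.sT (h.TS ▸ ⟨h.sS, r h.sS⟩)
  have y2 : Hyp T S := ⟨TS, by rw [h.TS, inf_comm, inf_relIndex_right]; exact i.2⟩
  exact .inr (.inl ((tw G S D s ⟨h.syl, h.ssQ.symm ▸ cents_symm h.com, by rw [h.ssQ, inf_comm]; exact h.ti,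
    by rw [h.ssQ, eT]; exact h.ss, by rw [h.ssQ, eT, y2.sup_zp h.sS h.sT]⟩).2 0 v b e dh eD))

end

section
open Cfsg Subgroup H17.GS H28.GH H21.GN
open H19 hiding eq_bot_mono RR
open H26.PS (Qg PQ rP rQ sQ Pc Qle)
open H0.GE (EA Fp Hb Sb Dd E4 E8 SZ DD TW B2a)
open H2.Ov (zp_two pe2)
open H23 (ZC)
variable {G : Type u} [Group G] [Finite G] {n : ℕ} {a b e g g₁ g₂ q s t u w x y z α σ η : G}
  {A B K L P R R₁ R₂ S T U V : Subgroup G}

theorem cb (h : Hn G) (hb : Hb G) (k : Cp t K) : Y4 G ∨ Y6 G ∨ Y5 G ∨ Y2 G ∨ J G := by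
  have e8 := H0.GE.e8.{u}
  have sz := H0.GE.sz.{u}
  have dd := H23.GE.dd.{u}
  have tw := H15.GE.tw.{u}
  have b2a := H0.GE.b2a H15.GE.ta H15.GE.tm.{u}
  have lf := H9.GN.lf.{u}
  have bd := H9.GB.bd.{u}
  have bs := H9.GB.bs.{u}
  obtain ⟨S, T, K, t, m⟩ := exists_Mx h.toN1 hb k
  have y42 : Y4 G ∨ Y2 G → Y4 G ∨ Y6 G ∨ Y5 G ∨ Y2 G ∨ J G := Or.imp_right fun k => .inr (.inr (.inl k))
  rcases h.ty t K T m.toDt with ⟨n, a, b, k⟩ | ⟨n, a, b, k⟩ | ⟨n, α, σ, k⟩ | ⟨P₀, η, k⟩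
  · obtain ⟨g₁, g₂, R₁, R₂, d⟩ := h.std n t K T a b k
    cases n with
    | zero =>
      have e1 := d.e1
      rw [pow_zero, pow_one] at e1
      obtain ⟨ia, c, ea⟩ := d.toDr.zero
      have f := k.KT ▸ e1.fp ia d.is c fun e => d.bn (e ▸ rP)
      obtain ⟨s, sb⟩ := m.sb h.toN3 (le_cent1_iff.1 (e1.QR.trans e1.gR)) f.nrm
      refine (g4 hb sb (k.KT ▸ ea) f fun x hx => ?_).imp_right (Or.imp_right .inr)
      have l : R₁ ≤ T ⊓ Cc t K ⊔ K ⊓ T := (le_inf e1.RT (d.z0 rfl)).trans le_sup_left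
      have ha : a ∈ T ⊓ Cc t K ⊔ K ⊓ T := mem_sup_right (k.KT.ge rQ)
      have hb : b ∈ T ⊓ Cc t K ⊔ K ⊓ T := mem_sup_right (k.KT.ge sQ)
      rcases e1.spl x hx.1 (mem_cent.1 hx.2 b (k.KT.ge sQ)).symm with c | c | c | c
      exacts [l c, (mul_mem_cancel_left ha).1 (l c), (mul_mem_cancel_left hb).1 (l c), (mul_mem_cancel_left (mul_mem ha hb)).1 (l c)]
    | succ n =>
      have Tu := k.cyc.trans k.Nu
      rcases m.cases h.toN3 k.iu Tu fun x hx ix c =>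
        (k.cen (k.KT.le hx) (k.KT.ge.trans (inf_le_right.trans c))).resolve_left ix.ne with ⟨s, c⟩ | ⟨e, s, hs, hn, su, di, co⟩
      · exact y42 (bd ns b2a bb fp lf G h S T K t s n a b g₁ g₂ R₁ R₂ d c)
      have i := m.idx h.toN3 (k.KT ▸ k.zc) e hs su
      rw [k.KT] at di co
      have cQ : a ^ 2 ^ n ∈ Qg a b := Dr.uQ
      have q := d.sqW (w := s * a ^ 2 ^ n * s⁻¹) ⟨conj_mem_of_norm hn (k.KT.ge cQ).2, cents_symm co (conj_mem_cj.2 cQ)⟩
      rw [conj_mul, pow_sq] at q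
      obtain ⟨L, c⟩ := h.cp m.toCp q (k.iu.J s)
      obtain ⟨c, e1, -⟩ := m.tp h.toN3 q c (by rw [← cj_cent1, le_cj_iff, cj_of_mem_norm (inv_mem hn)]; exact Tu)
      have e2 := c.syl.max (le_inf m.TS' c.Tt) inf_le_right (m.sylG.pi.infl _)
      obtain ⟨D, s', w, k'⟩ := dd G hb S L n _ a b s ⟨k.dh, m.sylG, hs, su, i, by
        have := c.syl.J s⁻¹
        rwa [cj_of_mem_norm (inv_mem hn), ← cj_cent1, cj_inv_cj, ← e] at this, co, di, h.uq.nrm c.toCp, c.r2, by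
        rw [← k.KT, ← e1, ← e2, inf_comm S, ← inf_assoc, inf_eq_left.2 c.le]⟩
      rcases k' with k' | ⟨j, v, b', e', k', e⟩
      exacts [.inr (.inr (.inl ((tw G S D s' w).1 k'))), .inr (.inl ((tw G S D s' w).2 j v b' e' k' e))]
  · obtain ⟨g, R, d⟩ := h.sts n t K T a b k
    rcases m.cases h.toN3 k.iu (d.cyc.trans k.Nu) fun x hx ix c =>
      (k.cen (k.KT.le hx) (k.KT.ge.trans (inf_le_right.trans c))).resolve_left ix.ne with ⟨s, c⟩ | ⟨e, s, hs, -, su, -⟩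
    · exact y42 (bs ns b2a fp lf G h S T K t s n a b g R d c)
    have l : Qg a b ≤ S := k.KT.ge.trans (inf_le_right.trans m.TS')
    refine .inr (.inr (.inl (cqq G h.toHy S n _ _ _ s ⟨k.qt, m.sylG, (Qle (mul_mem rQ rQ) (mul_mem rQ sQ)).trans l, hs, su,
      m.idx h.toN3 (k.KT ▸ k.zc) e hs su, e ▸ fun x hx => nQg (PQ (conj_mem_of_norm (nF (d.cyc hx)) rP)) ?_,
      e ▸ fun x hx => nF (d.cyc hx)⟩)))
    refine ((k.sqo (conj_mem_of_norm (k.KT ▸ m.nU h.uq hx) (mul_mem rQ sQ)) (mt (mem_normalizer_iff.1 (d.cyc hx) _).2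
      (Dr.psP rP k.bn))).resolve_left fun c => ?_).1
    exact (k.iu.J x).ne (by rw [← k.rs2, ← conj_mul, c.2])
  · obtain ⟨e, u, g, R, d⟩ := h.stw n t K T α σ k
    have Tu := d.Tu h.uq
    rcases m.cases h.toN3 d.iu Tu fun x hx ix c =>
      d.cen (k.KT.le hx) (k.KT.ge.trans (inf_le_right.trans c)) ix with ⟨s, c⟩ | ⟨-, s, -, hn, -, di, -⟩
    · obtain rfl := w4 G h.toN3 T K t n α σ e u g R d c.sol
      exact (bw G h.toN3 S T K t s α σ e u g R d c).elim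
    have o : ∀ x ∈ K ⊓ T, Iv x → s * x * s⁻¹ ∉ K := fun x hx ix c =>
      (ix.J s).ne (mem_bot.1 (di.le ⟨⟨c, conj_mem_of_norm hn hx.2⟩, conj_mem_cj.2 hx⟩))
    have o' : ∀ x ∈ K ⊓ T, Iv x → s * x * s⁻¹ * t ∈ K := fun x hx ix =>
      (d.inv _ (conj_mem_of_norm hn hx.2) (ix.J s).sq).resolve_left (o x hx ix)
    have hu := k.KT.ge d.uU
    have he := k.KT.ge d.eU
    refine (o _ (mul_mem hu he) (d.iu.mul d.ie (mem_cent1.1 (Tu he.2)).symm d.ue) ?_).elim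
    have := mul_mem (o' u hu d.iu) (inv_mem (o' e he d.ie))
    rwa [mul_inv_rev, mul_assoc, mul_inv_cancel_left, (d.ie.J s).inv, conj_mul] at this
  · obtain ⟨η, d⟩ := h.stp t K T P₀ η k
    obtain ⟨s, sb⟩ := m.sb h.toN3 d.ηQ d.nrm
    rcases d.ty with ⟨c, e⟩ | c
    exacts [(e8 G hb S T _ _ t s η sb c (e ▸ d.fp) d.sup).elim, (sz G hb S T _ _ P₀ t s η sb c d.fp d.sup).elim]

theorem ni (h : Hy G) (ih : IH G) (k : Cp t K) (n : ∀ (t : G) K, Cp t K → t ∉ K) : J G := by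
  by_contra i
  have n1 := g1 h i n
  obtain ⟨u, p, s⟩ := H16.GN.uq H16.GH.cv H16.GN.ty H16.GN.oc G n1 ih
  obtain ⟨o, r⟩ := H16.GN.rt H16.GN.ty H16.GN.oc G n1 ih u s
  have n3 := H8.GN.kt G ⟨n1, u, p, s, o, r⟩
  have d := H8.GN.std H8.GN.eta G n3
  have d' := H8.GN.sts H8.GN.eta G n3
  have hn : Hn G := ⟨n3, d, d', stw G n3, stp G n3, spl G n3 d d' (stw G n3) (stp G n3)⟩
  rcases cb hn (g3 h i fun S hS z z1 zz c => by_contra fun m =>
    let ⟨L, k⟩ := n1.h7 z ⟨zz, z1⟩ m; H10.GN.cx G hn z L S k hS c) k with k | k | k | k | k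
  exacts [i (j_bg (y4 k)), i (j_bg (y6 k)), i (j_bg (y5 k)), i (y2 h k), i k]

theorem ident (hG : Hy G) : J G := by
  have ih' : IH G := fun X _ _ _ l k hr => ext_of_id H16.GH.et H16.GH.eu H16.GH.es hr (id' ⟨inferInstance, k, hr⟩)
  by_cases k : ∃ (t : G) (K : Subgroup G), Cp t K
  swap
  · exact nc hG fun t K h => k ⟨t, K, h⟩
  by_cases k' : ∀ (t : G) K, Cp t K → t ∉ K
  · exact let ⟨_, _, k⟩ := k; ni hG ih' k k'
  push Not at k'
  obtain ⟨t, K, h, ht⟩ := k'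
  have hX := h.hy hG.r4
  have := hX.simple
  have qq : (∃ (S : Subgroup G) (j : ℕ) (t r s x : G), QQ S j t r s x) → J G := fun ⟨S, j, t, r, s, x, k⟩ =>
    j_bg (y5 (cqq G hG S j t r s x k))
  have c : PRankLE 2 2 (Xb t K) ∨ AbS (Xb t K) ∨ StE (Xb t K) → J G := fun k => by
    rcases H16.GH.cv _ h.comp.qs h.z2.isPGroup (h.zne ht) (h.r4L hG.r4) k with k | k
    · rcases iq G hG.r4 t K h ht k with k | ⟨S, K, j, z, r, s, k⟩ | ⟨S, K, j, z, r, s, x, k⟩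
      · exact qq k
      · exact (H3.GH.ca1 G hG S K j z r s k).elim j_r2 (y2 hG)
      · exact ca2 hG k
    · exact iz hG h ht k
  rcases ih' _ (h.lt hG) hX.nab hX.r4 with k | k | k | ⟨-, k | k | k | k⟩
  · exact c (.inl k)
  · exact c (.inr (.inl k))
  · exact c (.inr (.inr k))
  · exact (h.zne ht ((QuotientGroup.ker_mk' _).symm.trans (k _ (QuotientGroup.mk' (center (Lb t K)))
      (QuotientGroup.mk'_surjective _) (QuotientGroup.ker_mk' _).le (by rw [QuotientGroup.ker_mk']; exact h.z2.isPGroup)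
      h.perf (h.r4L hG.r4)))).elim
  · exact qq (ic G hG.r4 t K h ht k)
  · exact (H16.GH.ia G hG t K h ht k).elim (fun ⟨e⟩ => j_bg (bg_mcl e)) fun ⟨e⟩ => j_bg (bg_ly.eq e)
  · exact (H0.GI.im G hG t K h ht k).elim

/-- S1730 for groups of sectional 2-rank at most 4 -/
theorem model [IsSimpleGroup G] (hG : ¬ IsMulCommutative G) (h4 : SectionalPRankLE 2 4 G) (h3 : PRankLE 2 3 G)
    (h2 : ¬ PRankLE 2 2 G) : Concl G := ident ⟨inferInstance, hG, h4⟩ h3 h2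
end

end H28.R3
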