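import Cfsg.Agent.H26.RB0
import Cfsg.Agent.H7.Sym7
import Cfsg.Agent.H7.Quot

/-! S4578: weights bound the degrees; `2`-blocks of alternating groups. -/

set_option autoImplicit false
open Finset Equiv Function Cfsg H5 H8 H28 H21 H7 H7.Sn H26.RB
open scoped Nat

namespace H28.RB

universe u

variable {ι α : Type*} [Fintype ι] [DecidableEq ι] [Fintype α] [DecidableEq α] {p : ℕ}
  {κ : ι → ℤ} {ψ : IrrCharacter (Perm α)} {M : Ideal AlgInt} {w : ℕ}

theorem ns0 (hM : IsPModular p M) (hκ : Wt α p κ w) (hB : IsPBlock M (Fam α p κ))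
    (hN : (p + 1) * Fintype.card α ≤ Fintype.card ι) (h : ψ ∈ Fam α p κ) :
    w + (charDegree ψ.1).factorization p ≤ ((Fintype.card α)!).factorization p := by
  have hp := Fact.mk hM.1
  obtain ⟨D, hD⟩ := H7.exists_isDefectGroup hM hB
  obtain ⟨y, -, P, rfl, hw⟩ := defect_str hM hκ hB hD
  have h1 := card_isDefectGroup hM hB hD
  rw [Subgroup.card_map_of_injective Perm.ofSubtype_injective, P.card_eq_multiplicity,
    Nat.pow_right_inj hp.out.one_lt, Nat.card_perm, Nat.card_eq_fintype_card,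
    fact_factorial hp.out, hw] at h1
  have h2 := H21.factorization_degree (p := p) h
  rw [Nat.card_perm, Nat.card_eq_fintype_card] at h2
  obtain ⟨β, r, rfl⟩ := h
  have h3 : ((pm (.replicate w p) * alt (core p β)).coeff β).natAbs ∣ w ! := by
    refine Int.natAbs_dvd_natAbs.2 (phi_dvd hp.out.pos r.good.1 (r.good.2.trans hκ.sum.symm)
      fun t j hj δ h1 h2 => St_dvd ?_ h1 h2)
    rcases isEmpty_or_nonempty {i // core p β i % p = t} with h | ⟨⟨i, rfl⟩⟩
    · simp at h2; omega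
    have h3 := Int.emod_nonneg (core p β i) (Int.natCast_ne_zero.2 hp.out.ne_zero)
    have := hκ.card_runner hN ((Int.toNat_lt h3).2
      (Int.emod_lt_of_pos _ (Int.natCast_pos.2 hp.out.pos)))
    rw [Int.toNat_of_nonneg h3, ← Fintype.card_subtype] at this
    nlinarith [hκ.le, hp.out.pos]
  have h4 := (Nat.factorization_le_iff_dvd (ne_zero_of_dvd_ne_zero w.factorial_ne_zero h3)
    w.factorial_ne_zero).2 h3 p
  rw [← height_eq hM hκ hB r rfl] at h4
  omega

theorem deg_le {G : Type*} [Group G] [Finite G] {N : Subgroup G} [N.Normal] [Fintype N]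
    {χ : IrrCharacter G} {θ : IrrCharacter N} (h : classInner (fun n : N => χ.1 n) θ.1 ≠ 0) :
    (charDegree θ.1).factorization p ≤ (charDegree χ.1).factorization p := by
  obtain ⟨k, -, h6⟩ := H6.exists_degree_ratio χ.2 θ.2 h
  exact (Nat.factorization_le_iff_dvd (charDegree_ne_zero θ) (charDegree_ne_zero χ)).2
    ⟨k, H8.charDegree_eq (h6.trans (by rw [irr_apply_one, ← Nat.cast_mul, mul_comm]))⟩ p

theorem nsc : NSC.{u} := by
  classical
  intro n H _ _ π hc p hp _ χ hχ
  let f : H →* alternatingGroup (Fin n) := π.codRestrict _ fun x => hc.range.le ⟨x, rfl⟩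
  have hf : Surjective f := fun y => by
    obtain ⟨x, hx⟩ := hc.range.ge y.2
    exact ⟨x, Subtype.ext hx⟩
  obtain ⟨θ, rfl⟩ := exists_infl_eq (f := f) (hf := hf) (χ := χ) fun y hy =>
    χ.2.mem_charKer_iff.2 (hχ y (congrArg Subtype.val hy))
  obtain ⟨ψ, hψ, h1⟩ := H6.exists_irr_over_res _ θ.2
  have h5 := hc.five
  have : Nontrivial (Fin n) := Fin.nontrivial_iff_two_le.2 (by omega)
  obtain ⟨a, b, hab⟩ := exists_pair_ne (Fin n)
  obtain ⟨c, h2⟩ := res_two (χ := ⟨ψ, hψ⟩) alternatingGroup.index_eq_two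
    (t := swap a b) (by simp [hab]) h1
  refine ⟨infl f hf ⟨_, H6.irr_cj θ.2 (swap a b)⟩, by simp, fun g w h3 h4 => ?_⟩
  have h6 : ψ (π g) ≠ 0 := fun e => h3 ((congrFun h2 (f g)).trans (mul_eq_zero_of_right _ e))
  obtain ⟨M, hM⟩ := exists_isPModular hp
  obtain ⟨κ, w0, hκ, hB⟩ := exists_fam (ι := Fin ((p + 1) * Fintype.card (Fin n))) hM
    (by simp [add_mul]) (isPBlock_blockOf (M := M) ⟨ψ, hψ⟩)
  have h7 := hB ▸ mem_blockOf_self hM ⟨ψ, hψ⟩
  have h8 := ns0 hM hκ (hB ▸ isPBlock_blockOf (M := M) ⟨ψ, hψ⟩) (by simp) h7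
  have h9 := deg_le (p := p) (χ := ⟨ψ, hψ⟩) h1
  obtain ⟨β, r, e⟩ := h7
  have h10 : w ≤ w0 := not_lt.1 fun h => h6 (r.eq_zero_iff.2 (by
    rw [← (ct (π g)).filter_add_not (p ∣ ·)]
    exact St_vanish hp.pos hκ (fun k hk => (Multiset.mem_filter.1 hk).2)
      (by rw [← Multiset.sum_add, Multiset.filter_add_not, ct_sum])
      ((Nat.mul_lt_mul_of_pos_left h hp.pos).trans_le h4) e))
  have h11 : charDegree (infl f hf θ).1 = charDegree θ.1 := by simp [charDegree]
  rw [Fintype.card_fin] at h8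
  rw [h11]
  omega

theorem two_pts {F : Type*} [Fintype F] [DecidableEq F] {u : Perm F} (hu : u * u = 1)
    (h : 4 ≤ #u.support) : ∃ a c, [a, c, u a, u c].Nodup := by
  have h1 : ∀ a, u (u a) = a := fun a => DFunLike.congr_fun hu a
  obtain ⟨a, ha⟩ := card_pos.1 (by omega : 0 < #u.support)
  obtain ⟨c, hc, h2⟩ := exists_mem_notMem_of_card_lt_card (s := {a, u a}) (t := u.support)
    (card_le_two.trans_lt (by omega))
  simp only [mem_insert, mem_singleton, not_or] at h2
  rw [Perm.mem_support] at ha hc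
  refine ⟨a, c, ?_⟩
  simp only [List.nodup_cons, List.mem_cons, List.not_mem_nil, or_false, not_or, List.nodup_nil,
    not_false_eq_true, and_true, EmbeddingLike.apply_eq_iff_eq]
  exact ⟨⟨Ne.symm h2.1, Ne.symm ha, fun e => h2.2 (by rw [e, h1])⟩, ⟨h2.2, Ne.symm hc⟩,
    Ne.symm h2.1⟩

theorem alt2 (perm : PERM) : ALT2 := by
  classical
  intro n M b D θ ⟨hM, hb, hD, hθ⟩ hn
  have := charP_kk hM
  have := Fact.mk Nat.prime_two
  obtain ⟨B, hB, h⟩ := exists_covering hM hb
  obtain ⟨κ, w, hκ, rfl⟩ := exists_fam (ι := Fin ((2 + 1) * Fintype.card (Fin n))) hM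
    (by simp; omega) hB
  obtain ⟨E, h1, h2⟩ := exists_isDef_inf_eq le_top (Subgroup.normalizer_eq_top _).ge
    (isPrim_eB hM hB) (isPrim_eb hM hb) h ((isDefectGroup_iff_map hM hb).1 hD)
  rw [← H8.isDefectGroup_iff hM hB] at h1
  obtain ⟨y, -, P, rfl, hw⟩ := defect_str hM hκ hB h1
  have h3 : (P.1 ⊓ alternatingGroup _).map Perm.ofSubtype =
      D.map (alternatingGroup (Fin n)).subtype := by
    refine .trans ?_ h2
    ext g
    simp only [Subgroup.mem_map, Subgroup.mem_inf, Perm.mem_alternatingGroup]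
    exact ⟨fun ⟨x, h, e⟩ => ⟨⟨x, h.1, e⟩, by simp [← e, h.2]⟩,
      fun ⟨⟨x, h, e⟩, h'⟩ => ⟨x, ⟨h, by simpa [← e] using h'⟩, e⟩⟩
  have h4 := card_isDefectGroup hM hb hD
  have hd := defect_le (p := 2) hw ((Subgroup.card_map_of_injective Perm.ofSubtype_injective).symm.trans
    ((congrArg (fun X : Subgroup (Perm (Fin n)) => Nat.card X) h3).trans
      ((Subgroup.card_map_of_injective Subtype.val_injective).trans h4)))
  obtain ⟨u, hu, v, E, e1, e2, e3, e4, e5, e6, -⟩ := perm _ 2 1 P.1 Nat.prime_two (by simp) P.2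
    (by simp) fun R hR _ hle => (P.3 hR hle).le
  have hs : #u.support = 2 * v := by rw [← Perm.sum_cycleType, e2]; simp [mul_comm]
  obtain rfl : v = w := by
    obtain ⟨x, hx, e⟩ := exists_mem_sylow P (w := w) (hw ▸ Nat.mul_div_le _ _)
    have h5 := card_le_card (e3 x hx)
    rw [← Perm.sum_cycleType, e, hs] at h5
    have := card_le_univ u.support
    simp at h5
    omega
  have hpow : ∀ (k : ℕ) (a : {a // y a = a}), (Perm.ofSubtype u ^ k) a = (u ^ k) a := fun k a => by
    rw [← map_pow, Perm.ofSubtype_apply_coe]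
  refine ⟨P.1.map Perm.ofSubtype, E.map Perm.ofSubtype, Perm.ofSubtype u, v, h2.symm,
    ⟨u, hu, rfl⟩, ?_, Perm.cycleType_ofSubtype.trans e2, ?_, Subgroup.map_mono e5,
    (Subgroup.card_map_of_injective Perm.ofSubtype_injective).trans_le e6, ?_, fun h5 => ?_,
    fun h5 => ?_, fun h5 => ?_, ?_⟩
  · rintro _ ⟨x, hx, rfl⟩
    rw [← map_mul, e1 x hx, map_mul]
  · ext g
    constructor
    · rintro ⟨x, hx, rfl⟩
      obtain ⟨k1, -, k2⟩ : x ∈ BE u 1 := e4 ▸ hx
      refine ⟨by rw [← map_mul, k1, map_mul], by simp, fun a => ?_⟩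
      by_cases ha : y a = a
      · obtain ⟨k, hk⟩ := k2 ⟨a, ha⟩
        exact ⟨k, by rw [hpow k ⟨a, ha⟩, ← hk]; exact Perm.ofSubtype_apply_coe x ⟨a, ha⟩⟩
      · exact ⟨0, Perm.ofSubtype_apply_of_not_mem (p := fun a => y a = a) _ ha⟩
    · rintro ⟨k1, -, k2⟩
      obtain ⟨x, rfl⟩ : g ∈ (Perm.ofSubtype (p := fun a => y a = a)).range :=
        Perm.mem_range_ofSubtype_iff.2 fun a ha => by_contra fun e => by
          obtain ⟨k, hk⟩ := k2 a
          rw [← map_pow, Perm.ofSubtype_apply_of_not_mem (p := fun a => y a = a) _ e] at hk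
          exact Perm.mem_support.1 ha hk
      refine ⟨x, (e4.ge : BE u 1 ⊆ _) ⟨Perm.ofSubtype_injective (by simpa using k1), by simp,
        fun a => ?_⟩, rfl⟩
      obtain ⟨k, hk⟩ := k2 a
      exact ⟨k, Subtype.ext (by rw [← hpow, ← hk, Perm.ofSubtype_apply_coe])⟩
  · rintro _ ⟨x, hx, rfl⟩
    rw [Perm.support_ofSubtype, Perm.support_ofSubtype]
    exact map_subset_map.2 (e3 x hx)
  · rw [← Subgroup.card_eq_one, h4, show blockDefect 2 b = 0 by
      interval_cases v <;> simp at hd <;> omega, pow_zero]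
  · rw [h4]
    refine Nat.pow_le_pow_right (n := 2) two_pos (i := blockDefect 2 b) (j := 2) ?_
    have := Nat.prime_two.factorization_self
    interval_cases v <;> simp at hd <;> omega
  · have hu2 : u * u = 1 := by
      rw [← sq, Perm.pow_prime_eq_one_iff, e2]
      exact fun _ => Multiset.eq_of_mem_replicate
    have hu1 : ∀ a, u (u a) = a := fun a => DFunLike.congr_fun hu2 a
    obtain ⟨a, c, hac⟩ := two_pts hu2 (by omega)
    have h6 : (swap a c).Disjoint (swap (u a) (u c)) := Perm.disjoint_swap_swap hac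
    have h7 : swap a c * swap (u a) (u c) ∈ Subgroup.centralizer {u} := by
      rw [Subgroup.mem_centralizer_singleton_iff, ← mul_assoc, Equiv.mul_swap_eq_swap_mul u, mul_assoc _ u,
        Equiv.mul_swap_eq_swap_mul u, hu1, hu1, ← mul_assoc, h6.commute.eq]
    obtain ⟨g, hg, e⟩ := (isSylowIn_of_sylow_le P (H := Subgroup.centralizer {u}) fun x hx =>
      Subgroup.mem_centralizer_singleton_iff.2 (e1 x hx)).exists_conj_le
      (R := Subgroup.zpowers (swap a c * swap (u a) (u c))) (isPElt_iff.2 ⟨1, by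
        rw [pow_one, h6.commute.mul_pow]; simp [sq]⟩).isPGroup_zpowers
      (Subgroup.zpowers_le.2 h7)
    have h8 : ∀ a, u (g a) = g (u a) := fun a =>
      (DFunLike.congr_fun (Subgroup.mem_centralizer_singleton_iff.1 hg) a).symm
    have h9 := e (conj_mem_cj (Subgroup.mem_zpowers _))
    rw [← conj_mul, ← Equiv.swap_apply_apply, ← Equiv.swap_apply_apply, ← h8, ← h8] at h9
    refine ⟨g a, g c, ?_, _, h9, ?_⟩
    · rw [Perm.ofSubtype_apply_coe, Perm.ofSubtype_apply_coe, h8, h8]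
      exact List.Nodup.map (f := fun x => (g x).1) (Subtype.val_injective.comp g.injective) hac
    · rw [map_mul, Perm.ofSubtype_swap_eq, Perm.ofSubtype_swap_eq, Perm.ofSubtype_apply_coe,
        Perm.ofSubtype_apply_coe]
  · obtain ⟨χ, hχ, h5⟩ := exists_above_of_cover hM hB hb h hθ
    have h6 := ns0 hM hκ hB (by simp) hχ
    have h7 := deg_le (p := 2) h5
    rw [Fintype.card_fin] at h6
    omega

end H28.RB
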