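import Cfsg.Agent.H28.CD
import Cfsg.Agent.H9.GlRep
import Cfsg.Agent.H9.Replace

/-! Thompson's replacement theorem for an element `x` with `[x, A]` abelian. -/

set_option autoImplicit false

namespace H28

open Cfsg Subgroup H9
open scoped Pointwise commutatorElement

variable {G : Type*} [Group G] {A : Subgroup G} {x : G}

theorem mem_commB {a : G} (ha : a ∈ A) : x⁻¹ * a * x * a⁻¹ ∈ commB A x := by
  rw [commB_eq]; exact subset_closure ⟨a, ha, rfl⟩

theorem commB_le_iff {K : Subgroup G} : commB A x ≤ K ↔ ∀ a ∈ A, x⁻¹ * a * x * a⁻¹ ∈ K := by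
  rw [commB_eq, closure_le]
  exact ⟨fun h a ha => h ⟨a, ha, rfl⟩, by rintro h _ ⟨a, ha, rfl⟩; exact h a ha⟩

theorem le_normalizer_commB : A ≤ 𝐍 (commB A x) := by
  refine le_normalizer_of_cj_le fun g hg => cj_le_iff.2 (commB_le_iff.2 fun a ha => ?_)
  rw [mem_cj, inv_inv]
  have : g * (x⁻¹ * a * x * a⁻¹) * g⁻¹ =
      (x⁻¹ * g * x * g⁻¹)⁻¹ * (x⁻¹ * (g * a) * x * (g * a)⁻¹) := by group
  rw [this]
  exact mul_mem (inv_mem (mem_commB hg)) (mem_commB (mul_mem hg ha))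

theorem commB_le_commutator {U : Subgroup G} (hx : x ∈ U) : commB A x ≤ ⁅U, A⁆ :=
  commB_le_iff.2 fun a ha => by
    have := commutator_mem_commutator (U.inv_mem hx) ha
    rwa [commutatorElement_def, inv_inv] at this

/-- if `[x, c]` centralizes `A` then `c` centralizes `[x, A]` -/
theorem mem_centralizer_commB (hA : A ≤ 𝐂 A) (hM : commB A x ≤ 𝐂 (commB A x)) {c : G}
    (hc : c ∈ A) (h : x⁻¹ * c * x * c⁻¹ ∈ 𝐂 A) : c ∈ 𝐂 (commB A x) := by
  suffices H : commB A x ≤ 𝐂 (zpowers c) from le_centralizer_comm.1 H (mem_zpowers c)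
  refine commB_le_iff.2 fun d hd => ?_
  rw [H28.centralizer_zpowers, mem_centralizer_singleton_iff]
  have e1 := hA hc d hd
  have e2 := h d hd
  have e3 := hM (mem_commB hc) _ (mem_commB hd)
  have e4 : (x⁻¹ * c * x * c⁻¹) * (c * (x⁻¹ * d * x * d⁻¹) * c⁻¹) =
      (x⁻¹ * c * x * c⁻¹) * (x⁻¹ * d * x * d⁻¹) := by
    calc _ = x⁻¹ * (c * d) * x * (c * d)⁻¹ := by group
      _ = (x⁻¹ * d * x * d⁻¹) * (d * (x⁻¹ * c * x * c⁻¹)) * d⁻¹ := by rw [← e1]; group
      _ = _ := by rw [e2, ← e3]; group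
  have := mul_left_cancel e4
  calc _ = (c * (x⁻¹ * d * x * d⁻¹) * c⁻¹) * c := by rw [this]
    _ = _ := by group

variable [Finite G]

theorem relIndex_commB_le (hA : A ≤ 𝐂 A) (hM : commB A x ≤ 𝐂 (commB A x)) :
    (A ⊓ 𝐂 (commB A x)).relIndex A ≤ (commB A x ⊓ 𝐂 A).relIndex (commB A x) := by
  refine relIndex_le_relIndex_of_map (fun a => x⁻¹ * a * x * a⁻¹) (fun a ha => mem_commB ha)
    fun a ha b hb h => ?_
  have hc := mul_mem (inv_mem ha) hb
  refine ⟨hc, mem_centralizer_commB hA hM hc ?_⟩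
  have : x⁻¹ * (a⁻¹ * b) * x * (a⁻¹ * b)⁻¹ =
      a⁻¹ * ((x⁻¹ * a * x * a⁻¹)⁻¹ * (x⁻¹ * b * x * b⁻¹)) * a := by group
  rw [this]
  exact conj_mem_of_mem_normalizer' (le_normalizer_centralizer le_normalizer ha) h.2

/-- Thompson's replacement `A* = [x, A] C_A([x, A])` -/
def trep (A : Subgroup G) (x : G) : Subgroup G := commB A x ⊔ (A ⊓ 𝐂 (commB A x))

omit [Finite G] in
theorem trep_comm (hA : A ≤ 𝐂 A) (hM : commB A x ≤ 𝐂 (commB A x)) : trep A x ≤ 𝐂 (trep A x) := by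
  rw [trep, centralizer_sup]
  exact le_inf (sup_le hM inf_le_right) (sup_le (le_centralizer_comm.1 inf_le_right)
    (inf_le_left.trans (hA.trans (centralizer_anti inf_le_left))))

theorem card_trep (hA : A ≤ 𝐂 A) (hM : commB A x ≤ 𝐂 (commB A x)) :
    Nat.card A * Nat.card ↥(commB A x ⊓ 𝐂 A) ≤ Nat.card (trep A x) * Nat.card ↥(commB A x ⊓ A) := by
  have h1 := card_mul_le_of_relIndex_le inf_le_left inf_le_left (relIndex_commB_le hA hM)
  have h2 := card_mul_card_le (commB A x) (A ⊓ 𝐂 (commB A x))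
  have h3 : commB A x ⊓ (A ⊓ 𝐂 (commB A x)) = commB A x ⊓ A := by
    rw [← inf_assoc]; exact inf_eq_left.2 (inf_le_left.trans hM)
  rw [h3, mul_comm] at h2
  exact h1.trans h2

theorem card_le_card_trep (hA : A ≤ 𝐂 A) (hM : commB A x ≤ 𝐂 (commB A x)) :
    Nat.card A ≤ Nat.card (trep A x) := by
  have h := card_trep hA hM
  have h2 : Nat.card ↥(commB A x ⊓ A) ≤ Nat.card ↥(commB A x ⊓ 𝐂 A) :=
    card_le_of_le' (inf_le_inf_left _ hA)
  exact Nat.le_of_mul_le_mul_right (h.trans (Nat.mul_le_mul_left _ h2)) (card_pos' _)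

omit [Finite G] in
theorem trep_le {K : Subgroup G} (hA : A ≤ K) (hx : x ∈ 𝐍 K) : trep A x ≤ K :=
  sup_le (commB_le_iff.2 fun _ ha => mul_mem (conj_mem_of_mem_normalizer' hx (hA ha))
    (inv_mem (hA ha))) (inf_le_left.trans hA)

theorem maxAb_trep {T : Subgroup G} (hA : MaxAb 0 T A) (hx : x ∈ T)
    (hM : commB A x ≤ 𝐂 (commB A x)) : MaxAb 0 T (trep A x) :=
  hA.of_card_le (trep_le hA.le (le_normalizer hx)) ⟨trep_comm hA.comm hM, fun a _ => pow_zero a⟩
    (card_le_card_trep hA.comm hM)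

/-- Gillam's theorem: in a metabelian group an abelian subgroup of largest order can be replaced by
a normal one -/
theorem exists_maxAb_normal {T Z K : Subgroup G} (hA : MaxAb 0 T A) (hZ : Z ≤ 𝐂 Z) (hAK : A ≤ K)
    (hK : T ≤ 𝐍 K) {D : Subgroup G} (hD : D ≤ T) (h : ⁅D, K⁆ ≤ Z) :
    ∃ B, MaxAb 0 T B ∧ B ≤ K ∧ D ≤ 𝐍 B := by
  obtain ⟨B, ⟨hB, hBK⟩, hmax⟩ := Set.Finite.exists_maximalFor (fun B : Subgroup G => B ⊓ Z)
    {B | MaxAb 0 T B ∧ B ≤ K} (Set.toFinite _) ⟨A, hA, hAK⟩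
  refine ⟨B, hB, hBK, fun x hx => ?_⟩
  have hMZ : commB B x ≤ Z := (commB_le_commutator hx).trans ((commutator_mono le_rfl hBK).trans h)
  have hM : commB B x ≤ 𝐂 (commB B x) := hMZ.trans (hZ.trans (centralizer_anti hMZ))
  have h1 : trep B x ⊓ Z ≤ B ⊓ Z := hmax ⟨maxAb_trep hB (hD hx) hM, trep_le hBK (hK (hD hx))⟩
    (le_inf (le_sup_of_le_right (inf_le_inf_left _ (hZ.trans (centralizer_anti hMZ)))) inf_le_right)
  have h2 : commB B x ≤ B := (le_inf le_sup_left hMZ).trans (h1.trans inf_le_left)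
  refine inv_mem_iff.1 (mem_normalizer_of_cj_le (cj_le_iff.2 fun b hb => ?_))
  rw [mem_cj, inv_inv]
  simpa using mul_mem (h2 (mem_commB hb)) hb

omit [Finite G] in
theorem mul_pow_of_class_two {a u : G} (c1 : Commute ⁅u, a⁆ a) (c2 : Commute ⁅u, a⁆ u) (n : ℕ) :
    (a * u) ^ n = ⁅u, a⁆ ^ (n.choose 2) * (a ^ n * u ^ n) := by
  have h3 : ∀ n : ℕ, u ^ n * a = ⁅u, a⁆ ^ n * a * u ^ n := by
    intro n
    induction n with
    | zero => simp
    | succ n ih =>
      calc u ^ (n + 1) * a = u * (u ^ n * a) := by rw [pow_succ', mul_assoc]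
        _ = ⁅u, a⁆ ^ n * (u * a) * u ^ n := by
          rw [ih, ← mul_assoc, ← mul_assoc, ← (c2.pow_left n).eq]; group
        _ = ⁅u, a⁆ ^ n * (⁅u, a⁆ * a * u) * u ^ n := by
          simp only [commutatorElement_def]; group
        _ = _ := by rw [pow_succ, pow_succ']; group
  induction n with
  | zero => simp
  | succ n ih =>
    rw [pow_succ, ih, Nat.choose_succ_succ' n 1, Nat.choose_one_right, add_comm n, pow_add]
    calc _ = ⁅u, a⁆ ^ (n.choose 2) * a ^ n * (u ^ n * a) * u := by group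
      _ = ⁅u, a⁆ ^ (n.choose 2) * (a ^ n * ⁅u, a⁆ ^ n) * a * u ^ n * u := by rw [h3]; group
      _ = _ := by rw [← (c1.pow_pow n n).eq]; group

omit [Finite G] in
theorem commutator_pow_left_of_commute {a u : G} (c2 : Commute ⁅u, a⁆ u) (n : ℕ) :
    ⁅u ^ n, a⁆ = ⁅u, a⁆ ^ n := by
  induction n with
  | zero => simp
  | succ n ih =>
    calc ⁅u ^ (n + 1), a⁆ = u * ⁅u ^ n, a⁆ * u⁻¹ * ⁅u, a⁆ := by
          simp only [commutatorElement_def, pow_succ']; group
      _ = _ := by rw [ih, ← (c2.pow_left n).eq, pow_succ]; group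

omit [Finite G] in
/-- in a group of class two the product of two elements of odd exponent `e` has exponent `e` -/
theorem mul_pow_eq_one_of_class_two {a u : G} (c1 : Commute ⁅u, a⁆ a) (c2 : Commute ⁅u, a⁆ u)
    {e : ℕ} (he : Odd e) (ha : a ^ e = 1) (hu : u ^ e = 1) : (a * u) ^ e = 1 := by
  have h5 : e ∣ e.choose 2 := by
    obtain ⟨k, rfl⟩ := he
    rw [Nat.choose_two_right]
    refine ⟨k, ?_⟩
    rw [Nat.add_sub_cancel, ← mul_assoc, mul_right_comm, Nat.mul_div_cancel _ two_pos]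
  obtain ⟨k, hk⟩ := h5
  rw [mul_pow_of_class_two c1 c2, hk, pow_mul, ← commutator_pow_left_of_commute c2, hu, ha]
  simp

end H28
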