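/-
S2885, chunk `LD3`: the groups ³D₄(q), q even.
-/
import Cfsg.Agent.H20.SA0
import Cfsg.Agent.H9.LP3
import Cfsg.Agent.H22.KG6

set_option autoImplicit false
set_option linter.unusedVariables false
set_option linter.unusedSectionVars false
set_option maxRecDepth 100000
set_option synthInstance.maxSize 4096

namespace H28.K.SQ
open Cfsg Cfsg.Lie Subgroup H14 H14.RootSys H14.PreSt H14.St H14.St.Tw H14.Good H8 H9.LP
open H20.SA (KA KO KK LD3)
open scoped commutatorElement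
universe u

section
variable {ι κ : Type*} [Fintype κ] [DecidableEq κ] [Fintype ι] [DecidableEq ι] {R : RootSys ι κ} {C : Chev R}
  {K G : Type*} [Field K] [CharP K 2] [Group G] {S : St C K G} (hS : S.Sep) (hd : ∀ r, R.d r = 1) {u w : G} {n : ℤ}
include hd

theorem sqU {A : Set ι} (h : ∀ r ∈ A, ∀ s ∈ A, 0 ≤ R.pair r s) (hu : u ∈ S.U A) : u * u = 1 :=
  U_induction (P := fun u => u * u = 1) (mul_one 1) (fun r hr t v hv ih => by
    rw [mul_assoc, ← mul_assoc v, ← (cU hd h (x_mem_U hr t) hv).eq, mul_assoc, ih, mul_one, xx]) hu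

include hS

/-- the leading term of a commutator -/
theorem bil (k : ι) (L : List (ι × ι)) (hL : R.pos k ∧ R.ht k = 1 + n ∧ L.Nodup ∧
    ∀ p, p ∈ L ↔ R.pos p.1 ∧ R.pos p.2 ∧ R.ht p.1 = 1 ∧ R.cf k = R.cf p.1 + R.cf p.2) (hu : u ∈ S.U (R.Ht 1))
    (hw : w ∈ S.U (R.Ht n)) (c : ⁅w, u⁆ ∈ S.U (R.Ht (n + 2))) : (L.map fun p => S.lc p.1 u * S.lc p.2 w).sum = 0 := by
  obtain ⟨hk, e, nd, hL⟩ := hL
  have := lc_comm hS hk e hu hw
  rw [show w⁻¹ * (u⁻¹ * w * u) = (u * w)⁻¹ * ⁅w, u⁆ * (u * w)⁻¹⁻¹ by simp only [commutatorElement_def]; group,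
    lc_zero hS hk (U_mono (fun r hr => by exact ⟨⟨hr.1, by have := hr.2; omega⟩, by rintro rfl; have := hr.2; omega⟩)
      (conj_mem_K (PreChev.idl_Ht _).2 (inv_mem (mul_mem (U_mono (fun _ h => h.1) hu) (U_mono (fun _ h => h.1) hw))) c)),
    eq_comm, neg_eq_zero] at this
  rw [← List.sum_toFinset _ nd, ← this]
  exact Finset.sum_congr (by ext p; simp [hL]) fun p hp => by rw [N_one hd (Finset.mem_filter.1 hp).2.2.2.2, one_mul]

omit hd in
theorem peel {B : Set ι} (hu : u ∈ S.U (R.Ht n)) (h : ∀ r ∈ R.Ht n, r ∉ B → R.ht r = n ∧ S.lc r u = 0) :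
    u ∈ S.U B :=
  mem_U_of_forall hS (PreChev.idl_Ht n).ord (fun _ h => h.1) _ hu fun r a b => by
    obtain ⟨rfl, z⟩ := h r a b
    exact ⟨_, (PreChev.idl_Ht' r).ord, fun _ h => h.1.1, fun h => h.2 rfl, by simpa [z] using lc_spec hu⟩

omit hd in
theorem lc3 {T : S.Tw} {φ : K →+* K} {r k : ι} (h : R.pos k ∧ ∀ s ∈ [r, T.ρ r, T.ρ (T.ρ r)], s ∈ R.Ht (R.ht k)) (a : K) :
    S.lc k (y3 T φ r a) = (if k = r then a else 0) + ((if k = T.ρ r then φ a else 0) + if k = T.ρ (T.ρ r) then φ (φ a) else 0) := by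
  simp only [List.forall_mem_cons] at h
  obtain ⟨p, h1, h2, h3, -⟩ := h
  rw [y3, lc_mul hS p (x_mem_U h1 _) (mul_mem (x_mem_U h2 _) (x_mem_U h3 _)), lc_mul hS p (x_mem_U h2 _) (x_mem_U h3 _),
    lc_x hS p h1, lc_x hS p h2, lc_x hS p h3]
end

theorem ded {K : Type*} [Field K] {φ : K →+* K} (h3 : ∀ t, φ (φ (φ t)) = t) {ω : K} (n : φ ω ≠ ω) {a b c : K}
    (e : ∀ t, a * t + b * φ t + c * φ (φ t) = 0) : a = 0 ∧ b = 0 ∧ c = 0 :=
  ⟨ded3 h3 n e, ded3 (b := c) (c := a) h3 n fun t => by have := e (φ (φ t)); simp only [h3] at this; linear_combination this,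
    ded3 (b := a) (c := b) h3 n fun t => by have := e (φ t); rw [h3] at this; linear_combination this⟩

section
variable {K G : Type*} [Field K] [CharP K 2] [Group G] {S : St goodD4.C K G} {T : S.Tw} {φ : K →+* K} (h : Hs T φ 23)
  (hρ : T.ρ = okgrD4.rho) (h3 : ∀ t, φ (φ (φ t)) = t) {ω : K} (n : φ ω ≠ ω)
include h hρ h3 n

theorem ym {m : ℤ} (r : Fin chevD4.nroots) (k : (∀ s ∈ [r, okgrD4.rho r, okgrD4.rho (okgrD4.rho r)],
    goodD4.R.pos s ∧ m ≤ goodD4.R.ht s) ∧ okgrD4.rho (okgrD4.rho (okgrD4.rho r)) = r ∧ 0 ≤ goodD4.R.pair r (okgrD4.rho r) ∧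
    0 ≤ goodD4.R.pair r (okgrD4.rho (okgrD4.rho r))) (a : K) : y3 T φ r a ∈ S.U (goodD4.R.Ht m) ⊓ T.fix := by
  rw [← hρ] at k
  exact mem_inf.2 ⟨y3_mem (A := goodD4.R.Ht m) (k.1 _ (by simp)) (k.1 _ (by simp)) (k.1 _ (by simp)) a, y3_fix h.hd h.x h3 k.2.1 k.2.2.1 k.2.2.2 a⟩

theorem yl (r k : Fin chevD4.nroots) (c : goodD4.R.pos k ∧ ∀ s ∈ [r, okgrD4.rho r, okgrD4.rho (okgrD4.rho r)],
    goodD4.R.pos s ∧ goodD4.R.ht k ≤ goodD4.R.ht s) (a : K) : S.lc k (y3 T φ r a) = (if k = r then a else 0) +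
      ((if k = okgrD4.rho r then φ a else 0) + if k = okgrD4.rho (okgrD4.rho r) then φ (φ a) else 0) := by
  rw [← hρ] at *
  exact lc3 T.sep c a

theorem sq1 {y : G} (hy : y ∈ S.U {r | goodD4.R.pos r})
    (c1 : ∀ a ∈ S.U (goodD4.R.Ht 3) ⊓ T.fix, ⁅a, y⁆ = 1 ∨ ⁅a, y⁆ = y * y)
    (c2 : ∀ g ∈ S.U {r | goodD4.R.pos r} ⊓ T.fix, Commute g (y * y) → ⁅g, y⁆ = 1 ∨ ⁅g, y⁆ = y * y) : y * y = 1 := by
  have y1 : y ∈ S.U (goodD4.R.Ht 1) := U_mono (fun r hr => by exact ⟨hr, (goodD4.R.pos_iff_ht_pos r).1 hr⟩) hy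
  have pos : ∀ {m g}, g ∈ S.U (goodD4.R.Ht m) ⊓ T.fix → g ∈ S.U {r | goodD4.R.pos r} ⊓ T.fix := fun k =>
    ⟨U_mono (fun _ h => h.1) k.1, k.2⟩
  have m12 := ym h hρ h3 n (m := 1) 12 (by decide +kernel)
  have m15 := ym h hρ h3 n (m := 2) 15 (by decide +kernel)
  have m17 := ym h hρ h3 n (m := 3) 17 (by decide +kernel)
  have l := yl h hρ h3 n
  have r1 : okgrD4.rho 12 = 18 ∧ okgrD4.rho 18 = 13 ∧ okgrD4.rho 15 = 19 ∧ okgrD4.rho 19 = 16 ∧ okgrD4.rho 17 = 20 ∧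
    okgrD4.rho 20 = 21 := by decide +kernel
  have s : S.lc 18 y = 0 ∧ S.lc 13 y = 0 ∧ S.lc 12 y = 0 := by
    by_cases k : ∀ v, ⁅y3 T φ 17 v, y⁆ = 1
    · refine ded h3 n fun v => ?_
      have := bil T.sep h.hd 22 [(18, 17), (13, 20), (12, 21)] (by decide +kernel) y1 (m17 v).1 (k v ▸ one_mem _)
      simpa [l 17 17 (by decide +kernel), l 17 20 (by decide +kernel), l 17 21 (by decide +kernel), r1, add_assoc] using this
    obtain ⟨v, hv⟩ := not_forall.1 k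
    have t4 : y * y ∈ S.U (goodD4.R.Ht 4) := ((c1 _ (m17 v)).resolve_left hv) ▸ by
      simpa [commutatorElement_def, mul_assoc] using comm_memK (PreChev.intoK_Ht 1 3) ((PreChev.idl_Ht _).2.mono
        (fun _ h => h.1) subset_rfl subset_rfl) ((PreChev.idl_Ht _).2.mono (fun _ h => h.1) subset_rfl subset_rfl)
        (inv_mem y1) (inv_mem (m17 v).1)
    have c : ∀ v, ⁅y3 T φ 15 v, y⁆ ∈ S.U (goodD4.R.Ht (2 + 2)) := fun v => (c2 _ (pos (m15 v)) (cU h.hd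
      (by unfold RootSys.Ht; decide +kernel) (m15 v).1 t4)).elim (· ▸ one_mem _) (· ▸ t4)
    have a := ded (a := S.lc 13 y) (b := 0) (c := S.lc 12 y) h3 n fun v => by
      have := bil T.sep h.hd 17 [(13, 15), (12, 16)] (by decide +kernel) y1 (m15 v).1 (c v)
      simpa [l 15 15 (by decide +kernel), l 15 16 (by decide +kernel), r1] using this
    have := bil T.sep h.hd 20 [(18, 15), (12, 19)] (by decide +kernel) y1 (m15 1).1 (c 1)
    exact ⟨by simpa [l 15 15 (by decide +kernel), a, r1] using this, a.1, a.2.2⟩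
  have z := h.sq (peel T.sep (B := {r | 0 < goodD4.R.pair 23 r}) y1 fun r a b => by
    rcases (by unfold RootSys.Ht; decide +kernel : ∀ r ∈ goodD4.R.Ht 1, ¬ 0 < goodD4.R.pair 23 r →
      goodD4.R.ht r = 1 ∧ (r = 18 ∨ r = 13 ∨ r = 12)) r a b with ⟨e, rfl | rfl | rfl⟩ <;> simp [e, s])
  have c : ∀ m ≤ 5, ∀ v, ⁅y3 T φ 12 v, y⁆ ∈ S.U (goodD4.R.Ht m) := fun m hm v => (c2 _ (pos (m12 v)) (h.cZ (pos (m12 v)).1 z)).elim
    (· ▸ one_mem _) (· ▸ U_mono (by rintro _ rfl; exact ⟨by decide +kernel, hm.trans (by decide +kernel)⟩) z)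
  have b : S.lc 14 y = 0 := by
    have := bil T.sep h.hd 15 [(12, 14), (14, 12)] (by decide +kernel) y1 (m12 1).1 (c _ (by decide) 1)
    simpa [l 12 12 (by decide +kernel), s, r1] using this
  have y2 := peel T.sep (B := goodD4.R.Ht 2) y1 fun r a b' => by
    rcases (by unfold RootSys.Ht; decide +kernel : ∀ r ∈ goodD4.R.Ht 1, r ∉ goodD4.R.Ht 2 →
      goodD4.R.ht r = 1 ∧ (r = 18 ∨ r = 13 ∨ r = 12 ∨ r = 14)) r a b' with ⟨e, rfl | rfl | rfl | rfl⟩ <;> simp [e, s, b]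
  have c' : ∀ v, ⁅y, y3 T φ 12 v⁆ ∈ S.U (goodD4.R.Ht (2 + 2)) := fun v => by
    rw [← commutatorElement_inv]; exact inv_mem (c _ (by decide) v)
  have a := ded (a := S.lc 16 y) (b := 0) (c := S.lc 15 y) h3 n fun v => by
    have := bil T.sep h.hd 17 [(12, 16), (13, 15)] (by decide +kernel) (m12 v).1 y2 (c' v)
    simpa [l 12 12 (by decide +kernel), l 12 13 (by decide +kernel), r1, mul_comm] using this
  have a' : S.lc 19 y = 0 := by
    have := bil T.sep h.hd 20 [(18, 15), (12, 19)] (by decide +kernel) (m12 1).1 y2 (c' 1)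
    simpa [l 12 12 (by decide +kernel), a, r1] using this
  refine sqU h.hd (A := goodD4.R.Ht 3) (by unfold RootSys.Ht; decide +kernel) (peel T.sep y2 fun r a1 b' => ?_)
  rcases (by unfold RootSys.Ht; decide +kernel : ∀ r ∈ goodD4.R.Ht 2, r ∉ goodD4.R.Ht 3 →
      goodD4.R.ht r = 2 ∧ (r = 15 ∨ r = 16 ∨ r = 19)) r a1 b' with ⟨e, rfl | rfl | rfl⟩ <;> simp [e, a, a']

theorem ac {Γ : Type*} [Group Γ] [Finite Γ] [Finite K] {e : Γ →* G} (t : TwE T e) : H20.SA.AC Γ := by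
  have s := (h.lr t).syl
  refine ⟨_, H19.syl_of_max le_top (H19.PiN.of_isPGroup Nat.prime_two s.isPGroup) fun Q _ q l => s.max Q q.isPGroup l le_top,
    fun y hy k _ _ c v => k ?_⟩
  have := v.1 ((S.U (goodD4.R.Ht 3)).comap e) (H28.GC.ea_of_sq fun x hx => t.inj (by
    rw [map_mul, map_one]; exact sqU h.hd (by unfold RootSys.Ht; decide +kernel) hx)) (mem_normalizer_fintype fun x hx => by
      simpa using conj_mem_K (PreChev.idl_Ht 3).2 hy hx)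
  rw [show y * y = 1 from t.inj (by
    rw [map_mul, map_one]
    refine sq1 h hρ h3 n hy (fun a ha => ?_) fun g hg o => ?_
    · obtain ⟨a, rfl⟩ := t.liftU ⟨U_mono (fun _ h => h.1) ha.1, ha.2⟩
      simpa only [← map_commutatorElement, ← map_mul, ← map_one e, t.inj.eq_iff] using this a ha.1
    · obtain ⟨g, rfl⟩ := t.liftU hg
      simpa only [← map_commutatorElement, ← map_mul, ← map_one e, t.inj.eq_iff] using
        c g hg.1 (H19.mem_cent1.2 (Commute.of_map t.inj (map_mul e y y ▸ o)).eq))]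
  exact one_mem _
end

theorem cyc {ι κ : Type*} [Fintype κ] [DecidableEq κ] [Fintype ι] [DecidableEq ι] {R : RootSys ι κ} {C : Chev R}
    {K G : Type*} [Field K] [Finite K] [Group G] {S : St C K G} {T : S.Tw} {Γ : Type*} [Group Γ] [Finite Γ] {e : Γ →* G}
    {ψ : κ → K →* K} (h : H22.KG.LD T e ψ) (hc : Nat.card (Out Γ) = Nat.card (K ≃+* K)) : IsCyclic (Out Γ) := by
  have := H14.isCyclic_ringAut K
  refine isCyclic_of_surjective ((QuotientGroup.mk' (Inn Γ)).comp h.Φ)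
    ((Nat.bijective_iff_injective_and_card _).2 ⟨(injective_iff_map_eq_one _).2 fun σ a => ?_, hc.symm⟩).2
  obtain ⟨g, hg⟩ := (QuotientGroup.eq_one_iff _).1 a
  obtain ⟨t, b⟩ := h.rs_conj (h.emb.conj_mem_stab.1 (hg ▸ h.Φ_mem σ))
  exact ((h.rs_Φ σ).uniq (hg ▸ b)).2

theorem ld3 (ka : KA.{0}) (ko : KO.{0}) (kk : KK.{0}) : LD3.{u} := fun K _ _ _ q hq hK _ _ c => by
  obtain ⟨φ, h3, hφ⟩ := D4.exists_hom hq hK
  obtain ⟨ω, n⟩ := exists_ne_pow (k := 1) hq hK hφ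
  have hd : ∀ r, goodD4.R.d r = 1 := fun r => (goodD4.hd r).elim id id
  have h : Hs (D4.T φ h3) φ 23 := hs_of hd (fun r t => (Tw.σ_x _ r t).trans (congrArg _
    ((goodD4.tw_f2 _ _ _ _ r t).trans (by rw [GrD.ex_eq_one rfl, pow_one])))) goodD4.conn (by decide +kernel)
    (by decide +kernel : okgrD4.rho 23 = 23) fun j => ((by decide +kernel : ∀ j, okgrD4.pi j = j ∨
      goodD4.R.A j (okgrD4.pi j) = 0 ∧ okgrD4.pi (okgrD4.pi (okgrD4.pi j)) = j ∧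
        goodD4.R.A j (okgrD4.pi (okgrD4.pi j)) = 0) j).imp_right fun k => ⟨k.1, ⟨ω, n⟩, .inr ⟨k.2.1, k.2.2, h3⟩⟩
  have m := (D4.isTw (h3 := h3) hφ).emb
  have := cyc (H22.KG.ldD4 hφ m) (D4.card_out hφ hq.one_lt (Nat.card_eq_fintype_card.trans hK) m)
  exact .inl ((kk _ c).1 ((ka _).2 (ac h rfl h3 n (twE_emb m (goodD4.SG_hmul K))))
    ((ko _).2.1 ((ko _).2.2.2.1 fun _ _ => inferInstance)))

end H28.K.SQ
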