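import Cfsg.Agent.H28.Sm1
import Cfsg.Agent.H28.Comm
import Cfsg.Prelude.Def_SubgroupEmbedding

/-!
Reduction of the Sidki pair problem to almost simple groups.
-/

set_option autoImplicit false
set_option linter.unusedSectionVars false

open Cfsg Subgroup H18 H17.GS H28.S
open H19 hiding eq_bot_mono

universe u

variable {G : Type u} [Group G] [Finite G] {V W M N : Subgroup G}

structure _root_.H28.S.SK (V : Subgroup G) : Prop where
  ab : Abelem 2 V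
  ne : V ≠ ⊥
  sk : IsSidkiPair V
  o2 : V ⊓ pCore 2 G = ⊥
  min : ∀ (H : Type u) [Group H] [Finite H] (W : Subgroup H), Nat.card H < Nat.card G →
    Abelem 2 W → W ≠ ⊥ → IsSidkiPair W → W ⊓ pCore 2 H ≠ ⊥

theorem _root_.H28.S.SK.quo0 (s : SK V) [N.Normal] (h2 : V ⊓ N = ⊥) :
    IsSidkiPair (V.map (QuotientGroup.mk' N)) := by
  have inj : ∀ w ∈ V, w ≠ 1 → (w : G ⧸ N) ≠ 1 := fun w hw w1 e =>
    w1 (mem_bot.1 (h2.le ⟨hw, (QuotientGroup.eq_one_iff w).1 e⟩))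
  rintro h _ ⟨v, hv, rfl⟩ o i
  obtain ⟨n, hn⟩ := o
  obtain ⟨g, hg⟩ := QuotientGroup.mk'_surjective N (h ^ (n + 1))
  have v2 := sq_one s.ab hv
  set f := QuotientGroup.mk' N
  set y := g * (v * g⁻¹ * v⁻¹)
  have fy : f y = h := by
    rw [map_mul, map_mul, map_mul, map_inv, map_inv, hg, ← inv_pow, ← conj_pow, ← conj_inv, i,
      inv_inv, ← pow_add, show n + 1 + (n + 1) = 2 * n + 1 + 1 by ring, ← hn, pow_succ,
      pow_orderOf_eq_one, one_mul]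
  have iy : v * y * v⁻¹ = y⁻¹ := by
    simp [y, inv_eq s.ab hv, ← mul_assoc, mul_assoc _ v v, v2]
  obtain ⟨k, hk⟩ := constt_mem_zpowers {2}ᶜ y
  obtain ⟨w, hw, w1, c⟩ := s.sk (constt {2}ᶜ y) v hv (by
    simpa using og_iff.1 (piG_zpowers.2 (constt_pi {2}ᶜ y))) (by
    rw [← hk]; simp only [← conj_zpow, iy, inv_zpow])
  have e : f (constt {2}ᶜ y) = h := by
    have a := constt_mul_compl {2}ᶜ y
    rw [compl_compl] at a
    have b : f (constt {2} y) = 1 := PiN.e_eq_one ((constt_pi {2} y).dvd (orderOf_map_dvd f _))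
      ((PiN.of_not_dvd (by rw [hn]; omega)).e_of_mem_zpowers (fy ▸ f.map_zpowers y ▸
        mem_map_of_mem f (constt_mem_zpowers _ y)))
    rw [← fy, ← mul_one (f (constt _ y)), ← b, ← map_mul, a]
  exact ⟨_, mem_map_of_mem f hw, inj w hw w1, by rw [← e, ← map_mul, c, map_mul]⟩

theorem _root_.H28.S.SK.quo (s : SK V) [N.Normal] (h1 : N ≠ ⊥) (h2 : V ⊓ N = ⊥) :
    ∃ v ∈ V, v ≠ 1 ∧ (v : G ⧸ N) ∈ pCore 2 (G ⧸ N) := by
  have inj : ∀ w ∈ V, w ≠ 1 → (w : G ⧸ N) ≠ 1 := fun w hw w1 e =>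
    w1 (mem_bot.1 (h2.le ⟨hw, (QuotientGroup.eq_one_iff w).1 e⟩))
  obtain ⟨_, ⟨⟨v, hv, rfl⟩, h⟩, e⟩ := exists_ne_one (s.min (G ⧸ N) (V.map (QuotientGroup.mk' N)) (by
    rw [← N.index_eq_card, ← N.index_mul_card]
    exact lt_mul_of_one_lt_right (Nat.pos_of_ne_zero index_ne_zero_of_finite)
      (ne_bot_iff_one_lt_card.1 h1)) (H28.ea_map s.ab _) (by
      obtain ⟨w, hw, w1⟩ := exists_ne_one s.ne
      exact ne_bot_of_mem (mem_map_of_mem _ hw) (inj w hw w1)) (s.quo0 h2))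
  exact ⟨v, hv, fun k => e (by simp [k]), h⟩

theorem _root_.H28.S.SK.O2 (s : SK V) : Oc {2} (⊤ : Subgroup G) = ⊥ := by
  rw [Oc_top_p Nat.prime_two]
  by_contra k
  obtain ⟨v, hv, v1, h⟩ := s.quo k s.o2
  rw [H28.pCore_quotient_pCore, mem_bot, QuotientGroup.eq_one_iff] at h
  exact v1 (mem_bot.1 (s.o2.le ⟨hv, h⟩))

theorem _root_.H28.S.SK.ns (s : SK V) (hW : W ≤ V) (h1 : W ≠ ⊥) (hn : W ≤ N(M)) (h2 : M ⊔ W ≠ ⊤)
    (h3 : Oc {2} M = ⊥) (h4 : W ⊓ C(M) = ⊥) :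
    ∃ v ∈ W, ∃ h ∈ M, Odd (orderOf h) ∧ v * h * v⁻¹ = h⁻¹ ∧ W ⊓ C[h] = ⊥ := by
  by_contra! k
  have l : W ≤ M ⊔ W := le_sup_right
  have n := left_normal_sup hn
  refine s.min (M ⊔ W : Subgroup G) (W.subgroupOf _) (card_top (G := G) ▸ card_lt h2.lt_top)
    ((H28.ea_subgroupOf_iff l).2 (abelem_mono s.ab hW)) (fun e => h1 (by
      rwa [subgroupOf_eq_bot, disjoint_iff, inf_eq_left.2 l] at e)) (fun h v hv o i => ?_) ?_
  · rw [← orderOf_coe] at o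
    obtain ⟨w, hw, w1⟩ := exists_ne_one (k v hv h (le_of_pi_of_relIndex (π := {2}ᶜ)
      (n.norms (zpowers_le.2 h.2)) n.le (zpowers_le.2 h.2) (og_iff.2 (Nat.card_zpowers (h : G) ▸ o))
      (by rw [relIndex_sup_of_norm hn]; exact ((ab_pg (abelem_mono s.ab hW)).relIndex _).compl_compl)
      (mem_zpowers _)) o (congrArg Subtype.val i))
    exact ⟨⟨w, l hw.1⟩, hw.1, fun e => w1 (congrArg Subtype.val e), Subtype.ext (mem_cent1.1 hw.2)⟩
  · rw [eq_bot_iff]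
    rintro x ⟨a, b⟩
    refine mem_bot.2 (Subtype.ext (mem_bot.1 (h4.le ⟨a, (Oc_normal {2} _).cents_of_disjoint n
      ((Oc_eq_inf n).symm.trans h3) ?_⟩)))
    rw [← pCore_map_eq Nat.prime_two]
    exact mem_map_of_mem _ b

theorem _root_.H28.S.SK.cn (s : SK V) (hn : M ⊴ ⊤) (h2 : M ⊔ V ≠ ⊤) : V ⊓ C(M) ≠ ⊥ := fun e => by
  obtain ⟨v, hv, h, -, o, i, c⟩ := s.ns le_rfl s.ne (hn.norms le_top) h2
    (eq_bot_mono (Oc_le_Oc hn) s.O2) e
  obtain ⟨w, hw, w1, k⟩ := s.sk h v hv o i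
  exact ne_bot_of_mem (H := _ ⊓ _) ⟨hw, mem_cent1.2 k⟩ w1 c

theorem _root_.H28.S.SK.fit (s : SK V) : OG (Fit (⊤ : Subgroup G)) := by
  have := Oc_Fit_syl 2 (⊤ : Subgroup G)
  rw [s.O2] at this
  exact this.pi'_of_eq_bot

theorem _root_.H28.S.gf_top : generalizedFittingSubgroup G = Lay ⊤ ⊔ Fit ⊤ := by
  rw [Fit_top, Lay, H1.layerOf_top, H1.gf_def]

theorem _root_.H28.S.SK.cf (s : SK V) : V ⊓ C(Lay ⊤ ⊔ Fit ⊤) = ⊥ :=
  eq_bot_mono (inf_le_inf_left V (by rw [← gf_top, Fit_top]; exact H1.centralizer_gf_le_fitting))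
    ((ab_pg s.ab).inf_eq_bot s.fit)

theorem _root_.H28.S.SK.gen (s : SK V) : (Lay ⊤ ⊔ Fit ⊤) ⊔ V = ⊤ :=
  by_contra fun e => s.cn (Lay_normal.sup (Fit_normal _)) e s.cf

theorem _root_.H28.S.SK.dp (s : SK V) (hM : M ⊴ ⊤) (hN : N ⊴ ⊤) (hd : M ⊓ N = ⊥)
    (he : Lay ⊤ ⊔ Fit ⊤ ≤ M ⊔ N) (h1 : M ≠ ⊥) : N = ⊥ := by
  by_contra h2
  have pr : ∀ {M N W : Subgroup G}, M ⊴ ⊤ → N ⊴ ⊤ → M ⊓ N = ⊥ → N ≠ ⊥ → W ≤ V → M ⊔ W ≠ ⊤ :=
    fun {M N W} a b c d l e => d (eq_bot_mono (le_Oc b (by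
      have := card_inf_mul_relIndex M N
      rw [c, card_bot, one_mul] at this
      change PiN _ _
      rw [← this]
      refine PiN.dvd ?_ (relIndex_dvd_of_norm (a.norms le_top) le_top le_top)
      rw [← e, relIndex_sup_of_norm (a.norms le_top)]
      exact ((ab_pg s.ab).of_le l).relIndex _)) s.O2)
  have hd' := (inf_comm _ _).trans hd
  have c0 : V ⊓ C(N) ⊓ C(M) = ⊥ := eq_bot_mono (le_inf (inf_le_left.trans inf_le_left)
    ((cents_sup inf_le_right (inf_le_left.trans inf_le_right)).trans (cent_mono he))) s.cf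
  obtain ⟨v, hv, h, hh, o, i, c⟩ := s.ns inf_le_left (s.cn hN (pr hN hM hd' h1 le_rfl))
    (hM.norms le_top) (pr hM hN hd h2 inf_le_left) (eq_bot_mono (Oc_le_Oc hM) s.O2) c0
  obtain ⟨y, hy, k, hk, o', i', c'⟩ := s.ns (W := V ⊓ C[h]) inf_le_left (ne_bot_mono
    (inf_le_inf_left V (cent_le_cent1 hh)) (s.cn hM (pr hM hN hd h2 le_rfl)))
    (hN.norms le_top) (pr hN hM hd' h1 inf_le_left) (eq_bot_mono (Oc_le_Oc hN) s.O2)
    ((inf_right_comm _ _ _).trans c)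
  have hc := mem_cent.1 (hM.cents_of_disjoint hN hd hh) k hk
  obtain ⟨w, hw, w1, e⟩ := s.sk (h * k) (v * y) (mul_mem hv.1 hy.1) (by
    rw [← Nat.card_zpowers, ← og_iff] at o o' ⊢
    exact piG_zpowers.2 ((piG_zpowers.1 o).e_mul (piG_zpowers.1 o') hc.symm)) (by
    rw [show v * y * (h * k) * (v * y)⁻¹ = v * (y * h * y⁻¹) * v⁻¹ * (v * (y * k * y⁻¹) * v⁻¹) by
      group, mem_cent1.1 hy.2, mul_inv_cancel_right, i, i', ← mem_cent.1 hv.2 _ (N.inv_mem hk),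
      mul_inv_cancel_right, ← hc, mul_inv_rev])
  have e1 : h⁻¹ * (w * h * w⁻¹) = k * (w * k⁻¹ * w⁻¹) := by
    rw [show w * h * w⁻¹ = w * (h * k) * k⁻¹ * w⁻¹ by group, e]; group
  have e2 := mem_bot.1 (hd.le ⟨M.mul_mem (M.inv_mem hh) (hM.conj_mem (mem_top w) hh),
    e1 ▸ N.mul_mem hk (hN.conj_mem (mem_top w) (N.inv_mem hk))⟩)
  refine ne_bot_of_mem (H := V ⊓ C[h] ⊓ C[k]) ⟨⟨hw, mem_cent1.2 (mul_inv_eq_iff_eq_mul.1 (inv_mul_eq_one.1 e2).symm)⟩,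
    mem_cent1.2 ?_⟩ w1 c'
  rw [e2, eq_comm, ← conj_inv, mul_inv_eq_one] at e1
  exact mul_inv_eq_iff_eq_mul.1 e1.symm

theorem _root_.H28.S.SK.fit0 (s : SK V) : Fit (⊤ : Subgroup G) = ⊥ := by
  by_contra k
  obtain ⟨Z, hZ, mZ⟩ := minnormal_exists (nil_center_ne_bot (Fit_nil ⊤) k)
    ((Fit_norm ⊤).trans (norm_le_norm_center _))
  have lZ := hZ.trans inf_le_left
  have oZ : OG Z := s.fit.of_le lZ
  have nZ : Z ⊴ ⊤ := ⟨le_top, mZ.norm⟩
  haveI := nZ.normal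
  have cL : Lay ⊤ ≤ C(Fit (⊤ : Subgroup G)) := Lay_le_iff.2 fun J h => h.cents_Fit
  have cZ : Lay ⊤ ⊔ Fit ⊤ ≤ C(Z) := sup_le (cL.trans (cent_mono lZ))
    (cents_symm (hZ.trans inf_le_right))
  have alt : ∀ w ∈ V, Z ⊓ C[w] ≠ ⊥ → Z ≤ C[w] := fun w hw e => inf_eq_left.1 ((mZ.min _ inf_le_left
    (s.gen ▸ sup_le (norms_of_cents (cZ.trans (cent_mono inf_le_left)))
      (norms_inf (nZ.norms le_top) (norms_cent1 (ab_cent1 s.ab hw))))).resolve_left e)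
  obtain ⟨v, hv, v1, h⟩ := s.quo mZ.ne ((ab_pg s.ab).inf_eq_bot oZ)
  set T := (pCore 2 (G ⧸ Z)).comap (QuotientGroup.mk' Z)
  have nT : T ⊴ ⊤ := normalIn_top
  have pT : PiN {2} (Z.relIndex T) := by
    rw [← H1.card_map_mk']
    exact (PiN.of_isPGroup Nat.prime_two H1.pCore_isPGroup).of_le (map_comap_le _ _)
  have vT : zpowers v ≤ T := zpowers_le.2 h
  have l1 : ⁅Fit (⊤ : Subgroup G), zpowers v⁆ ≤ Z := by
    have a := (Fit_normal (⊤ : Subgroup G)).commg_le (le_top : zpowers v ≤ ⊤)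
    have b : ⁅Fit (⊤ : Subgroup G), zpowers v⁆ ≤ T := (commutator_mono le_top vT).trans (nT.commg_le' (le_refl ⊤))
    exact relIndex_eq_one.1 ((pT.dvd (relIndex_dvd_of_norm (nZ.norms le_top)
      (QuotientGroup.le_comap_mk' _ _) b)).eq_one ((s.fit.of_le a).relIndex _))
  have l2 : Lay ⊤ ≤ C[v] := Lay_le_iff.2 fun J hJ => (hJ.cents_of_sol le_top (nT.norms le_top)
    (sol_of_quo (nZ.norms le_top) (sol_mono (sol_of_nil (Fit_nil _)) (inf_le_left.trans lZ))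
      ((piG_quo_iff (nZ.norms le_top)).2 pT).sol)).trans (cent_le_cent1 h)
  have l3 : Lay ⊤ ⊔ Fit ⊤ ≤ Z ⊔ (Lay ⊤ ⊔ Fit ⊤) ⊓ C[v] := sup_le
    (le_sup_of_le_right (le_inf le_sup_left l2)) (by
      have := commg_sup_cent ((Fit_normal ⊤).norms le_top) (s.fit.cop (pg_zpowers (sq_one s.ab hv)))
        (Or.inl (sol_zpowers v))
      rw [cent_zpowers] at this
      exact this.ge.trans (sup_le_sup l1 (inf_le_inf_right _ le_sup_right)))
  have nc : ∀ w ∈ V, w ≠ 1 → ¬ Lay ⊤ ⊔ Fit ⊤ ≤ C[w] := fun w hw w1 e =>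
    ne_bot_of_mem (H := _ ⊓ _) ⟨hw, le_cent1_iff.1 e⟩ w1 s.cf
  have l4 : Z ⊓ C[v] = ⊥ := by_contra fun e =>
    nc v hv v1 (l3.trans (sup_le (alt v hv e) inf_le_right))
  have l5 := s.dp nZ ⟨le_top, s.gen.ge.trans (sup_le (l3.trans (sup_le (norms_of_cents (cents_symm
    (inf_le_left.trans cZ))) le_normalizer)) (norms_inf ((Lay_normal.sup (Fit_normal _)).norms le_top)
    (norms_cent1 (ab_cent1 s.ab hv))))⟩ (eq_bot_mono (inf_le_inf_left _ inf_le_right) l4) l3 mZ.ne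
  rw [l5, sup_bot_eq] at l3
  obtain ⟨z, hz, z1⟩ := exists_ne_one mZ.ne
  have hz' := nZ.conj_mem (mem_top v) hz
  have c := mem_cent.1 (cZ (mem_sup_right (lZ hz))) _ hz'
  obtain ⟨w, hw, w1, e⟩ := s.sk z v hv (by
    simpa using og_iff.1 (oZ.of_le (zpowers_le.2 hz))) (eq_inv_of_mul_eq_one_left (mem_bot.1 (l4.le
      ⟨Z.mul_mem hz' hz, mem_cent1.2 (by
        nth_rw 2 [c]
        simp [inv_eq s.ab hv, ← mul_assoc, mul_assoc _ v v, sq_one s.ab hv])⟩)))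
  exact nc w hw w1 (l3.trans (alt w hw (ne_bot_of_mem (H := _ ⊓ _) ⟨hz, mem_cent1.2 e.symm⟩ z1)))

theorem _root_.H28.S.s3048 (s : SK V) : IsSimpleGroup (generalizedFittingSubgroup G) ∧
    ¬ IsMulCommutative (generalizedFittingSubgroup G) ∧ V ⊔ generalizedFittingSubgroup G = ⊤ := by
  have gen := s.gen
  have cf := s.cf
  rw [s.fit0, sup_bot_eq] at gen cf
  obtain ⟨K, hK⟩ : ∃ K, Comp K (⊤ : Subgroup G) := by
    by_contra! k
    rw [le_bot_iff.1 (Lay_le_iff.2 fun J h => (k J h).elim), cent_bot, inf_top_eq] at cf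
    exact s.ne cf
  have cK : ∀ g : G, Comp (cj g K) ⊤ := fun g => hK.conj (le_normalizer (mem_top g))
  let M : Subgroup G → Subgroup G := fun A => ⨆ a : A, cj a K
  have lM : ∀ {A a}, a ∈ A → cj a K ≤ M A := fun {A a} h => le_iSup_of_le (⟨a, h⟩ : A) le_rfl
  have l1 : ∀ A, K ≤ M A := fun A => cj_one K ▸ lM (one_mem A)
  have nL : ∀ A, M A ⊴ Lay ⊤ := fun A => ⟨iSup_le fun a => (cK a).le_Lay,
    norms_iSup fun a => (cK a).normal_Lay.norm⟩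
  have cM : ∀ (g : G) A, cj g (M A) = ⨆ a : A, cj (g * a) K := fun g A => by
    simp only [M, cj_def, Subgroup.map_iSup]; simp only [← cj_def, cj_cj]
  have nA : ∀ A, A ≤ N(M A) := fun A g hg => mem_norm_of_cj_le (cM g A ▸ iSup_le fun a =>
    lM (mul_mem hg a.2))
  have nM : M V ⊴ ⊤ := ⟨le_top, gen ▸ sup_le (nL V).norm (nA V)⟩
  have zM : Z(M V) = ⊥ := eq_bot_mono ((center_le_Fit _).trans (Fit_le_Fit nM)) s.fit0
  have eM : Lay ⊤ ≤ M V := by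
    have a : Lay ⊤ ≤ M V ⊔ Lay ⊤ ⊓ C(M V) := Lay_le_iff.2 fun J h =>
      (h.le_or_cents le_top (nM.norms le_top)).elim le_sup_of_le_left
        fun e => le_sup_of_le_right (le_inf h.le_Lay e)
    rwa [s.dp nM ⟨le_top, norms_inf Lay_normal.norm (norms_cent nM.norm)⟩
      (eq_bot_mono (inf_le_inf_left _ inf_le_right) zM) (by rwa [s.fit0, sup_bot_eq])
      (ne_bot_mono (l1 V) (H1.Quasisimple.ne_bot hK.qs)), sup_bot_eq] at a
  by_cases hn : V ≤ N(K)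
  · have := (gf_simple hK s.fit0 fun L hL => H1.component_eq_of_le (comp_top.1 hL) (comp_top.1 hK)
      (hL.le_Lay.trans (eM.trans (iSup_le fun a => (cj_of_mem_norm (hn a.2)).le)))).2
    exact ⟨this.1, this.2, by rw [gf_top, sup_comm, s.gen]⟩
  exfalso
  obtain ⟨A, hA, hA'⟩ := exists_hyp (ab_pg s.ab) (inf_lt_left.2 hn)
  obtain ⟨t, ht, tA⟩ := SetLike.exists_of_lt (lt_of_le_of_ne hA.le hA.ne)
  have mt : ∀ w ∈ V, w ∉ A → t⁻¹ * w ∈ A := fun w hw h =>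
    (mul_mem_iff_of_index_two (H := A.subgroupOf V) hA.idx (a := ⟨t, ht⟩⁻¹) (b := ⟨w, hw⟩)).2
      (iff_of_false (by simpa [mem_subgroupOf] using tA) h)
  have ct : ∀ w ∈ V, w ∉ A → cj w (M A) = cj t (M A) := fun w hw h => by
    rw [← mul_inv_cancel_left t w, cj_mul, cj_of_mem_norm (nA A (mt w hw h))]
  have cc : M A ≤ C(cj t (M A)) := iSup_le fun a => cents_symm (cM t A ▸ iSup_le fun b =>
    (cK _).cents (cK _) fun e => tA (by
      rw [← cj_inj (g := (a : G)⁻¹), cj_inv_cj, cj_cj, ← mem_norm_iff_cj, ← mul_assoc] at e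
      have := hA' ⟨V.mul_mem (V.mul_mem (V.inv_mem (hA.le a.2)) ht) (hA.le b.2), e⟩
      rwa [A.mul_mem_cancel_right b.2, A.mul_mem_cancel_left (inv_mem a.2)] at this))
  have l2 : M A ≤ M V := iSup_le fun a => lM (hA.le a.2)
  have di : M A ⊓ cj t (M A) = ⊥ := eq_bot_mono (le_inf (inf_le_left.trans l2) (cents_symm
    (iSup_le fun v => by
      by_cases h : (v : G) ∈ A
      · exact ((lM h).trans cc).trans (cent_mono inf_le_right)
      · exact ((cj_mono _ (l1 A)).trans ((ct v v.2 h).le.trans (cents_symm cc))).trans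
          (cent_mono inf_le_left)))) zM
  have n0 : M A ≠ ⊥ := ne_bot_mono (l1 A) (H1.Quasisimple.ne_bot hK.qs)
  have fin : ∀ w ∈ V, w ∉ A → ∀ h ∈ M A, w * h * w⁻¹ = h → h = 1 := fun w hw k h hh e =>
    mem_bot.1 (di.le ⟨hh, ct w hw k ▸ e ▸ conj_mem_cj.2 (e.symm ▸ hh)⟩)
  by_cases h0 : A = ⊥
  · obtain ⟨q, hq, q2, hd⟩ : ∃ q, q.Prime ∧ q ≠ 2 ∧ q ∣ #K := by
      by_contra! k
      exact qs_nsol hK.qs (PiN.sol (p := 2) fun q a b => by_contra fun e => k q a e b)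
    obtain ⟨h, hh, o⟩ := exists_orderOf_eq_prime hq hd
    have hh := l1 A hh
    have o : PiE {2}ᶜ h := by rw [PiE, o]; exact (piN_prime hq).2 q2
    have c := mem_cent.1 (cc hh) _ (inv_mem (conj_mem_cj.2 hh))
    have o2 := o.e_mul (o.e_conj t).e_inv c.symm
    have i : t * (h * (t * h * t⁻¹)⁻¹) * t⁻¹ = (h * (t * h * t⁻¹)⁻¹)⁻¹ := by
      simp [inv_eq s.ab ht, ← mul_assoc, mul_assoc _ t t, sq_one s.ab ht]
    obtain ⟨w, hw, w1, e⟩ := s.sk _ t ht (by simpa using og_iff.1 (piG_zpowers.2 o2)) i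
    have := mt w hw (by simpa [h0])
    rw [h0, mem_bot, inv_mul_eq_one] at this
    rw [← this] at e
    rw [e, mul_inv_cancel_right, eq_inv_iff_mul_eq_one] at i
    have := fin t ht tA h hh (mul_inv_eq_one.1 (OG.eq_one (piG_zpowers.2 o2) (mem_zpowers _) i)).symm
    exact hq.one_lt.ne' (by simpa [this] using ‹orderOf h = q›.symm)
  · have c0 : A ⊓ C(M A) ≤ C(M V) := fun x hx => le_cent1_iff.1 (iSup_le fun v => by
      rw [cj_le_iff, cj_cent1, inv_inv, ab_comm s.ab (inv_mem v.2) (hA.le hx.1),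
        inv_mul_cancel_right]
      exact (l1 A).trans (le_cent1_iff.2 hx.2))
    obtain ⟨a, ha, h, hh, o, i, c⟩ := s.ns hA.le h0 (nA A) (fun e => n0 (by
      rw [← di, cj_of_mem_norm (sup_le le_normalizer (nA A) (e.ge (mem_top t))), inf_idem]))
      (eq_bot_mono ((Oc_le_Oc (nL A)).trans (Oc_le_Oc Lay_normal)) s.O2) (eq_bot_mono (le_inf
        (inf_le_left.trans hA.le) (c0.trans (cent_mono eM))) cf)
    obtain ⟨w, hw, w1, e⟩ := s.sk h a (hA.le ha) o i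
    rw [fin w hw (fun k => ne_bot_of_mem (H := _ ⊓ _) ⟨k, mem_cent1.2 e⟩ w1 c) h hh
      (mul_inv_eq_iff_eq_mul.2 e), cent1_one, inf_top_eq] at c
    exact h0 c
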