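import Cfsg.Agent.H28.T4b
import Cfsg.Agent.H23.SzAut
import Cfsg.Agent.H23.SzMult
import Cfsg.Agent.H23.SzSubf
import Cfsg.Agent.H23.SzBinary
import Cfsg.Agent.H1.CompAct
import Cfsg.Agent.H2.Action
import Cfsg.Agent.H0.Rep34
import Cfsg.Agent.H4.BG38
import Cfsg.Agent.S2602

/-!
Fixed-point-free operator groups on groups with composition factors `Sz(q)`, `L₂(3^odd)`.
-/

set_option autoImplicit false
set_option linter.unusedSectionVars false

open Cfsg Subgroup H18 H19 H17.GS H2.GW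

namespace H28.K

universe u

variable {G : Type u} [Group G] [Finite G] {π : Set ℕ} {p : ℕ} {x y : G}
  {A B H K L M P Q R U : Subgroup G}

theorem PC.sub (h : PC π A) (hB : B ≤ A) : PC π B :=
  let ⟨_, a, b⟩ := h
  ⟨_, (a.Oc_hall b).Oc_sub hB, Oc_norm _ _⟩

theorem PC.map {X : Type*} [Group X] (h : PC π A) (f : G →* X) : PC π (A.map f) :=
  let ⟨K, a, b⟩ := h
  ⟨_, a.map f, (map_mono b).trans (le_normalizer_map f)⟩

theorem PC.meet (h : Hall {p}ᶜ K A) (hU : PG p U) (hn : A ≤ N(U)) (h0 : U ≠ ⊥) (hc : K ≤ C(U)) :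
    U ⊓ C(A) ≠ ⊥ := by
  obtain ⟨P, hP⟩ := exists_syl p A
  refine ne_bot_mono ?_ (hU.meet_cent hP.pi (hP.le.trans hn) h0)
  rw [← hP.sup_compl h]
  exact le_inf inf_le_left (cents_sup inf_le_right (inf_le_left.trans (cents_symm hc)))

theorem fix_of_cyc (hZ : center G = ⊥) (hc : IsCyclic (Out G)) {z : G} (z1 : z ≠ 1)
    (hz : ∀ α : MulAut G, IsConj z (α z)) {A : Subgroup (MulAut G)}
    (h : ∀ p, p.Prime → p ∣ Nat.card G → PC {p} A) : ∃ g ≠ (1 : G), ∀ a ∈ A, a g = g := by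
  have hn : A ⊓ Inn G ⊴ A := inf_normal_of_norm' le_normalizer_of_normal
  have cI : #(Inn G) ∣ Nat.card G := card_range_dvd _
  by_cases h0 : A ⊓ Inn G = ⊥
  · haveI : IsCyclic A := isCyclic_of_injective ((QuotientGroup.mk' (Inn G)).comp A.subtype)
      ((injective_iff_map_eq_one _).2 fun a e => Subtype.ext (mem_bot.1
        (h0 ▸ ⟨a.2, (QuotientGroup.eq_one_iff _).1 e⟩)))
    obtain ⟨α, rfl⟩ := cyc_iff.1 this
    suffices ∃ g ≠ (1 : G), α g = g from this.imp fun g hg => ⟨hg.1, fun a ha =>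
      (zpowers_le.2 hg.2 : zpowers α ≤ MulAction.stabilizer _ g) ha⟩
    by_contra! k
    obtain ⟨g, hg⟩ := isConj_iff.1 (hz α)
    obtain ⟨w, hw⟩ := MonoidHom.FixedPointFree.commutatorMap_surjective (φ := α)
      (fun g e => by_contra fun g1 => k g g1 e) g⁻¹
    have : g = α w * w⁻¹ := by
      rw [← inv_inv g, ← hw, MonoidHom.commutatorMap_apply, inv_div, div_eq_mul_inv]
    refine k (w⁻¹ * z * w) (by simpa [mul_assoc, inv_mul_eq_one] using z1) ?_
    rw [map_mul, map_mul, ← hg, this, map_inv]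
    group
  have nil : Nil (A ⊓ Inn G) := nil_of_p'core_hall fun p hp hd =>
    let ⟨_, a, b⟩ := (h p hp (hd.trans ((card_dvd inf_le_right).trans cI))).sub (B := A ⊓ Inn G)
      inf_le_left
    a.Oc_hall b
  obtain ⟨p, hp, h1⟩ := exists_Oc_ne_bot (sol_of_nil nil) h0
  have hU := Oc_pi {p} (A ⊓ Inn G)
  obtain ⟨K, a, b⟩ := h p hp ((hU.dvd_of_ne_bot h1).trans
    ((card_dvd ((Oc_le _ _).trans inf_le_right)).trans cI))
  have n := hn.Oc {p}
  obtain ⟨_, ⟨k1, k2⟩, k3⟩ := exists_ne_one (PC.meet a hU n.2 h1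
    (cents_symm (hU.cents_of_norms a.pi (a.le.trans n.2) (n.1.trans b))))
  obtain ⟨g, rfl⟩ := (Oc_le _ _ k1).2
  refine ⟨g, by rintro rfl; exact k3 (map_one _), fun a ha => ?_⟩
  have : g⁻¹ * a g ∈ center G := mem_center_iff.2 fun x => by
    have := DFunLike.congr_fun (mem_cent.1 k2 a ha) (a⁻¹ x)
    simp only [MulAut.mul_apply, MulAut.conj_apply, map_mul, map_inv, MulAut.apply_inv_self] at this
    rw [mul_assoc, eq_inv_mul_iff_mul_eq, ← mul_assoc, ← mul_assoc, ← this]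
    group
  rw [hZ, mem_bot, inv_mul_eq_one] at this
  exact this.symm

omit [Finite G] in
theorem cyc_out_congr {X : Type*} [Group X] (e : G ≃* X) (h : IsCyclic (Out X)) :
    IsCyclic (Out G) := by
  refine (QuotientGroup.congr _ _ (MulAut.congr e) ?_).isCyclic.2 h
  ext β
  constructor
  · rintro ⟨_, ⟨a, rfl⟩, rfl⟩
    exact ⟨e a, by ext y; simp [MulAut.congr]⟩
  · rintro ⟨a, rfl⟩
    exact ⟨_, ⟨e.symm a, rfl⟩, by ext y; simp [MulAut.congr]⟩

theorem szl_out (hG : Sim (⊤ : Subgroup G)) (h : SzL G) : IsCyclic (Out G) ∧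
    ∀ s t : G, orderOf s = 2 → orderOf t = 2 → IsConj s t := by
  rcases szl_cases (fun k => hG.nsol inferInstance) h with ⟨F, _, _, m, m1, h2, ⟨e⟩⟩ | ⟨f, f1, ⟨e⟩⟩
  · letI := H23.Sz.titsOfCard h2
    letI := (H23.Sz.lieModel h2).ofEquiv e
    haveI := H23.Sz.big_of_card_eq m1 h2
    obtain ⟨E⟩ := H22.ringAut_equiv_zmod h2
    haveI := E.isCyclic.2 inferInstance
    exact ⟨isCyclic_of_surjective _ (H23.Sz.bijective_out (F := F) (G := G)).2, fun s t a b =>
      H23.Sz.isConj_invol F (ne_one_of_ord2 a) (mul_self_of_ord2 a) (ne_one_of_ord2 b)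
        (mul_self_of_ord2 b)⟩
  · letI := Fintype.ofFinite (GaloisField 3 (2 * f + 1))
    have h27 : 3 ^ 3 ≤ 3 ^ (2 * f + 1) := Nat.pow_le_pow_right (by norm_num) (by omega)
    refine ⟨cyc_out_congr e ?_, fun s t a b => ?_⟩
    · obtain ⟨φ, p1, p2, p3⟩ := Agent.S2602.result (by omega) (card_gf f) (by omega)
      rw [Nat.gcd_eq_left (Nat.sub_one_dvd_pow_sub_one 3 _)] at p3
      obtain ⟨y, -, hy⟩ := (Nat.card_eq_two_iff' 1).1 p3
      haveI := φ.isMulCommutative_of_isCyclic_of_ker_le_center fun x hx => mem_center_iff.2 fun g => by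
        by_cases x1 : x = 1
        · simp [x1]
        · exact mul_inv_eq_iff_eq_mul.1 (congrArg Subtype.val ((hy ⟨_, φ.normal_ker.conj_mem x hx g⟩
            (by simpa [Subtype.ext_iff] using x1)).trans (hy ⟨x, hx⟩ (by simpa using x1)).symm))
      letI : CommGroup (Out (L3 f)) := { mul_comm := this.is_comm.comm }
      exact Group.isCyclic_of_coprime_card_ker φ (by rw [p3]; simp) p1
    · have := H28.psl_isConj (F := GaloisField 3 (2 * f + 1)) (by
        have : (3 : GaloisField 3 (2 * f + 1)) = 0 := CharP.cast_eq_zero _ 3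
        intro k
        exact one_ne_zero (α := GaloisField 3 (2 * f + 1)) (by linear_combination this - k))
        (s := e s) (t := e t) (by rw [sq, ← map_mul, mul_self_of_ord2 a, map_one])
        (by simpa using ne_one_of_ord2 a) (by rw [sq, ← map_mul, mul_self_of_ord2 b, map_one])
        (by simpa using ne_one_of_ord2 b)
      simpa using e.symm.toMonoidHom.map_isConj this

theorem diag (hL : IsComponent L) [K.Normal] (hle : L ≤ K) (hx : x ∈ L) (hc : x ∈ C(A ⊓ N(L))) :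
    ∃ m ∈ K ⊓ C(L), x * m ∈ C(A) := by
  obtain ⟨m, a, b⟩ := H1.exists_mul_mem_centralizer_of_component A hL hx hc
  refine ⟨m, (sSup_le ?_ : _ ≤ K ⊓ C(L)) a, b⟩
  rintro _ ⟨k, g, -, rfl⟩
  exact le_inf (cj_le_of_mem_norm (le_normalizer_of_normal (mem_top g)) hle)
    (commg_eq_bot.1 (H1.commutator_eq_bot_of_component_ne (H1.isComponent_conj hL g) hL k))

theorem fpf_quot [M.Normal] (h : PC {p} A) (hM : PG p M) (hle : M ≤ K) (h0 : K ⊓ C(A) = ⊥) :
    K.map (QuotientGroup.mk' M) ⊓ C(A.map (QuotientGroup.mk' M)) = ⊥ := by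
  obtain ⟨B, a, b⟩ := h
  have nM : ∀ X : Subgroup G, X ≤ N(M) := fun X => le_normalizer_of_normal
  rw [eq_bot_iff]
  rintro _ ⟨⟨x, hx, rfl⟩, k⟩
  have k1 : ∀ a ∈ A, ∀ m ∈ M, a * (m * x) * a⁻¹ * (m * x)⁻¹ ∈ M := fun a ha m hm => by
    have := mem_cent.1 k _ (mem_map_of_mem _ ha)
    rw [← QuotientGroup.eq_one_iff, ← QuotientGroup.mk'_apply]
    simp only [map_mul, map_inv]
    rw [show QuotientGroup.mk' M m = 1 from (QuotientGroup.eq_one_iff _).2 hm, one_mul, this]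
    group
  obtain ⟨m, hm, k2⟩ := exists_mul_mem_cent (nM B) (hM.coprime a.pi) (.inr hM.sol)
    fun c hc => by simpa using k1 c (a.le hc) 1 M.one_mem
  have k3 : M ⊓ C(B) = ⊥ := by_contra fun e => PC.meet a (hM.infl _)
    (norms_inf (nM A) (norms_cent b)) e (cents_symm inf_le_right)
    (H19.eq_bot_mono (inf_le_inf_right _ (inf_le_left.trans hle)) h0)
  have : m * x ∈ K ⊓ C(A) := ⟨mul_mem (hle hm) hx, mem_cent.2 fun c hc => by
    have : _ ∈ M ⊓ C(B) := ⟨k1 c hc m hm,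
      C(B).mul_mem (conj_mem_of_norm (norms_cent b hc) k2) (C(B).inv_mem k2)⟩
    rw [k3, mem_bot, mul_inv_eq_one, mul_inv_eq_iff_eq_mul] at this
    exact this⟩
  rw [h0, mem_bot, mul_eq_one_iff_inv_eq] at this
  exact mem_bot.2 ((QuotientGroup.eq_one_iff _).2 (this ▸ inv_mem hm))

theorem fpf_sol [K.Normal] (h1 : CFw SzL K) (h2 : K ⊓ C(A) = ⊥)
    (h3 : ∀ p, p.Prime → p ∣ #K → PC {p} A) : Sol K := by
  obtain ⟨n, hn⟩ : ∃ n, Nat.card G = n := ⟨_, rfl⟩
  induction n using Nat.strong_induction_on generalizing G with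
  | _ n ih =>
  by_cases K0 : K = ⊥
  · exact K0 ▸ sol_of_nil nil_bot
  obtain ⟨M, m1, m2, m3, m4⟩ := H1.exists_minimal_invariant_le (A := ⊤) le_normalizer_of_normal K0
  haveI := NormalIn.normal ⟨le_top, m2⟩
  by_cases hM : M ≤ C(M)
  · have s := sol_of_ab (comm_iff_le_cent.2 hM)
    obtain ⟨p, hp, k⟩ := exists_Oc_ne_bot s m3
    have pM : PG p M := (m4 _ (norms_Oc _ m2) (Oc_le _ _)).resolve_left k ▸ Oc_pi {p} M
    refine H1.isSolvable_of_map_of_ker (QuotientGroup.mk' M) (ih _ (hn ▸ H1.card_quotient_lt m3)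
      (h1.map _) (fpf_quot (h3 p hp ((pM.dvd_of_ne_bot m3).trans (card_dvd m1))) pM m1 h2)
      (fun q hq hd => (h3 q hq (hd.trans (card_map_dvd _ _))).map _) rfl) ?_
    rw [QuotientGroup.ker_mk']
    exact sol_mono s inf_le_left
  obtain ⟨L, l1, l2, l3, l4, -⟩ := exists_simple_factor m3
    (fun X _ => m4 X le_normalizer_of_normal) hM
  have hL : Sim L := ⟨l3, fun k => l4 (comm_iff_le_cent.1 k)⟩
  have hL' : Sim (⊤ : Subgroup L) := sim_top hL.nab
  obtain ⟨o1, o2⟩ := szl_out hL' (h1 L ((H28.SubnIn.of_normal l1 l2).trans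
    (H28.SubnIn.of_normal m1 le_normalizer_of_normal)) L (MonoidHom.id _) Function.surjective_id l3 hL.nab)
  obtain ⟨z, -, hz⟩ := exists_orderOf_eq_prime (H := (⊤ : Subgroup L)) Nat.prime_two
    (by_contra fun k => hL'.nsol (Hub0.ft (PiN.of_not_dvd k)))
  obtain ⟨g, g1, g2⟩ := fix_of_cyc (A := ((A ⊓ N(L)).subgroupOf N(L)).map L.normalizerMonoidHom)
    (by simpa [centralizer_univ] using hL'.center) o1 (ne_one_of_ord2 hz)
    (fun α => o2 _ _ hz (by rwa [MulEquiv.orderOf_eq])) fun p hp hd => by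
      obtain ⟨B, a, b⟩ := (h3 p hp (hd.trans (card_dvd (l1.trans m1)))).sub (B := A ⊓ N(L)) inf_le_left
      exact PC.map ⟨_, a.subgroupOf inf_le_right, H0.norms_subgroupOf b _⟩ _
  obtain ⟨m, a, b⟩ := diag (A := A) ⟨((H1.SubnIn.of_le_normalizer l1 l2).trans_isSubnormal
    (Normal.isSubnormal inferInstance)), hL.qs⟩ (l1.trans m1) g.2 (mem_cent.2 fun c hc =>
      mul_inv_eq_iff_eq_mul.1 (congrArg Subtype.val (g2 _ ⟨⟨c, hc.2⟩, hc, rfl⟩)))
  have : g * m ∈ K ⊓ C(A) := ⟨mul_mem (m1 (l1 g.2)) a.1, b⟩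
  rw [h2, mem_bot, mul_eq_one_iff_eq_inv] at this
  have : (g : G) ∈ L ⊓ C(L) := ⟨g.2, this ▸ C(L).inv_mem a.2⟩
  exact (g1 (Subtype.ext (mem_bot.1 (hL.center ▸ this)))).elim

theorem pc_sd {X : Type u} [Group X] [Finite X] (φ : X →* MulAut G) (h1 : CFw SzL (⊤ : Subgroup G))
    (h2 : ∀ g, (∀ a, φ a g = g) → g = 1)
    (h3 : ∀ p, p.Prime → p ∣ Nat.card G → PC {p} (⊤ : Subgroup X)) : Group.IsSolvable G := by
  haveI := H2.sdK_top_normal (φ := φ)
  haveI := fpf_sol (K := H2.sdK φ ⊤) (A := H2.sdA φ) (h1.map _) (by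
    rw [H2.sdK_inf_centralizer, ← H2.sdK_bot, H2.sdK_inj, eq_bot_iff]
    exact fun g hg => h2 g hg.2) fun p hp hd => by
      rw [H2.card_sdK, card_top] at hd
      rw [H2.sdA, MonoidHom.range_eq_map]
      exact (h3 p hp hd).map _
  have e' := (H2.sdKEquiv φ ⊤).symm.trans topEquiv
  exact Group.isSolvable_of_isSolvable_injective (f := e'.symm.toMonoidHom) e'.symm.injective

theorem s4041 [HGold.{u}] [HEL.{u}] {X : Type*} [Group X] [Finite X] (φ : X →* MulAut G)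
    (h2 : ∀ g, (∀ a, φ a g = g) → g = 1) (h3 : ¬ Cfsg.Involves (Equiv.Perm (Fin 3)) G)
    {H K : Subgroup X} (hH : Hall π H ⊤) (hn : Nil H) [K.Normal] (hK : Hall πᶜ K ⊤)
    (hπ : ∀ p, p.Prime → p ∣ Nat.card G → p ∈ π) : Group.IsSolvable G := by
  refine pc_sd φ.range.subtype (cfw_s3F (s3F_top_iff.2 h3)) (fun g hg => h2 g fun a => hg ⟨_, a, rfl⟩)
    fun p hp hd => ?_
  rw [← map_top_of_surjective _ φ.rangeRestrict_surjective]
  refine PC.map ⟨K ⊔ Oc {p}ᶜ H, ?_, ?_⟩ _ <;> rw [← hH.sup_compl hK, sup_comm H]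
  · exact hall_sup (Hall.self (hK.pi.compl_sing' (hπ p hp hd))) (nil_Oc_hall hn _)
      le_normalizer_of_normal le_normalizer_of_normal
  · exact sup_le (norms_of_le le_sup_left) (norms_sup le_normalizer_of_normal (Oc_norm _ _))

theorem three_core (hs : Sol K) (hn : R ≤ N(K)) (hR : #R = 3) (h3 : PiG {3}ᶜ K)
    (ho : PiG {2}ᶜ (K ⊓ C(R))) (hO : Oc {2}ᶜ K = ⊥) : ⁅K, R⁆ ≤ Oc {2} K := by
  set Q := Oc {2} K
  have pR : PG 3 R := PiN.of_card Nat.prime_three hR
  have cop : ∀ X ≤ K, (#X).Coprime #R := fun X hX => (h3.of_le hX).coprime' pR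
  have nQ : R ≤ N(Q) := norms_Oc _ hn
  have hQ := Oc_normal {2} K
  have f1 := qpre_normal hQ (Fit_normal (quo Q K))
  have f2 : PiG {2}ᶜ (Fit (quo Q K)) := Hall.pi'_of_eq_bot (by
    have := nil_Oc_hall (Fit_nil (quo Q K)) {2}
    rwa [Oc_Fit, Oc_quo_Oc] at this)
  obtain ⟨H, h1, h2⟩ := inv_hall_exists {2}ᶜ (norms_qpre nQ (norms_Fit (quo_norms hn)))
    (cop _ f1.le) (sol_mono hs f1.le)
  have hK := h1.le.trans f1.le
  have k1 := H4.nil_cent1 (sol_mono hs hK) h2 (og_iff.1 h1.pi) (hR ▸ by decide) (cop _ hK)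
    (hR ▸ Nat.prime_three) (Oc_pi {2} K).nil (hK.trans hQ.norm) nQ ((Oc_pi _ _).coprime h1.pi)
    (cop _ hQ.le) (((Oc_pi {2} K).infl _).eq_bot (ho.of_le (inf_le_inf_right _ hQ.le)))
  have k2 : ⁅R, H⁆ ≤ Q := by
    have := cent_Fit_le hs
    rw [Fit_eq_Oc hO] at this
    exact (le_inf ((commg_le_right h2).trans hK) k1).trans this
  have k3 : quo Q H = Fit (quo Q K) := by
    have := h1.quo (qpre_le_norm _)
    rw [quo_qpre] at this
    exact this.eq_self f2
  exact (quo_cents_iff hQ.norm nQ).1 (cents_symm (cents_of_Fit (sol_quo hs _) (quo_norms hn)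
    (cop_quo (cop _ le_rfl) _) (k3 ▸ (quo_cents_iff nQ (hK.trans hQ.norm)).2 k2)))

theorem three_Opp (hs : Sol K) (hn : R ≤ N(K)) (hR : #R = 3) (h3 : PiG {3}ᶜ K)
    (ho : PiG {2}ᶜ (K ⊓ C(R))) : Opp 2 K ⊔ K ⊓ C(R) = K := by
  have pR : PG 3 R := PiN.of_card Nat.prime_three hR
  have hO := Oc_normal {2}ᶜ K
  have nO : R ≤ N(Oc {2}ᶜ K) := norms_Oc _ hn
  have c := (h3.of_le hO.le).coprime' pR
  have := three_core (sol_quo hs (Oc {2}ᶜ K)) (quo_norms hn)
    ((card_quo_of_disjoint nO (inf_eq_bot_of_cop c)).trans hR) (h3.quo _)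
    (quo_inf_cent' nO hO.le c (.inl pR.sol) ▸ ho.quo _) (Oc_quo_Oc _ _)
  rw [← quo_comm hO.norm nO, quo_le_iff (commg_le_of_le hO.norm nO), ← Opp_eq_qpre Nat.prime_two] at this
  refine le_antisymm (sup_le (Opp_le _ _) inf_le_left) ?_
  conv_lhs => rw [← commg_sup_cent hn (h3.coprime' pR) (.inl pR.sol)]
  exact sup_le_sup_right this _

theorem six (h : #A = 6) (r : #R = 3) (hle : R ≤ A) : R.relIndex A = 2 ∧ A ≤ N(R) := by
  have := card_mul_relIndex hle
  have e : R.relIndex A = 2 := by rw [h, r] at this; omega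
  exact ⟨e, (normal_subgroupOf_iff_le_normalizer hle).1 (normal_of_index_eq_two e)⟩

theorem s3040 [HGold.{u}] (h3 : ¬ 3 ∣ Nat.card G) (S : Subgroup (MulAut G))
    (e : S ≃* Equiv.Perm (Fin 3)) (h : ∀ g : G, (∀ σ ∈ S, σ g = g) → g = 1) :
    Group.IsSolvable G ∧ ¬ 2 ∣ (pPrimePCore 2 G).index ∧ ∀ σ ∈ S, orderOf σ = 3 →
      pPrimePCore 2 G ⊔ closure {g : G | σ g = g} = ⊤ := by
  have cS : Nat.card S = 6 := by rw [Nat.card_congr e.toEquiv, Nat.card_eq_fintype_card]; decide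
  have hs : Group.IsSolvable G := pc_sd S.subtype ((cfw_three h3).imp fun _ _ _ _ _ k => .inl k)
    (fun g hg => h g fun σ a => hg ⟨σ, a⟩) fun p hp hd => by
      by_cases p2 : p = 2
      · obtain ⟨R, -, r⟩ := exists_card_eq_prime (H := (⊤ : Subgroup S)) Nat.prime_three
          (by rw [card_top, cS]; decide)
        have := six (card_top.trans cS) r le_top
        exact ⟨R, ⟨le_top, (PiN.of_card Nat.prime_three r).sing_ne (by omega),
          (this.1 ▸ (piN_prime Nat.prime_two).2 (by simp [p2]))⟩, this.2⟩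
      · refine ⟨⊤, Hall.self (PiN.of_not_dvd fun k => ?_), le_normalizer⟩
        rw [card_top, cS] at k
        rcases (Nat.Prime.dvd_mul (m := 2) (n := 3) hp).1 k with k | k
        · exact p2 ((Nat.prime_dvd_prime_iff_eq hp Nat.prime_two).1 k)
        · exact h3 ((Nat.prime_dvd_prime_iff_eq hp Nat.prime_three).1 k ▸ hd)
  have key : ∀ σ ∈ S, orderOf σ = 3 → ¬ 2 ∣ #(closure {g : G | σ g = g}) ∧
      pPrimePCore 2 G ⊔ closure {g : G | σ g = g} = ⊤ := fun σ a b => by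
    let φ := S.subtype
    let s : G ⋊[φ] S := .inr ⟨σ, a⟩
    have r : #(zpowers s) = 3 := by
      rw [Nat.card_zpowers, orderOf_injective _ SemidirectProduct.inr_injective, orderOf_mk, b]
    have rA : zpowers s ≤ H2.sdA φ := zpowers_le.2 (H2.inr_mem_sdA _)
    have cA := (H2.card_sdA (φ := φ)).trans cS
    have nA := (H2.aInv_top (φ := φ)).sd
    have e1 : H2.sdK φ ⊤ ⊓ C(zpowers s) = H2.sdK φ (closure {g : G | σ g = g}) := by
      have k : ∀ g : G, .inl g ∈ C(zpowers s) ↔ σ g = g := fun g => by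
        rw [cent_zpowers, mem_cent1, eq_comm, ← mul_inv_eq_iff_eq_mul, H2.inr_mul_inl_mul_inv,
          SemidirectProduct.inl_inj]
        rfl
      refine le_antisymm ?_ (le_inf (H2.sdK_le_iff.2 le_top) (map_le_iff_le_comap.2
        ((closure_le _).2 fun g hg => (k g).2 hg)))
      rintro _ ⟨⟨g, -, rfl⟩, hg⟩
      exact H2.inl_mem_sdK.2 (subset_closure ((k g).1 hg))
    have o : ¬ 2 ∣ #(H2.sdK φ ⊤ ⊓ C(zpowers s)) := fun k => by
      obtain ⟨T, hT⟩ := exists_syl 2 (H2.sdA φ)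
      have := H1.card_modEq_card_inf_centralizer hT.pi.isPGroup
        (hT.le.trans (norms_inf nA (norms_cent (six cA r rA).2)))
      rw [inf_assoc, ← cent_sup,
        hT.sup_eq rA (by rw [(six cA r rA).1]; exact (piN_prime Nat.prime_two).2 rfl),
        H2.sdK_inf_centralizer, show ⊤ ⊓ H2.autFixed φ = ⊥ from eq_bot_iff.2 fun g hg =>
          h g fun σ a => hg.2 ⟨σ, a⟩, H2.sdK_bot, card_bot] at this
      exact absurd ((this.dvd_iff dvd_rfl).1 k) (by decide)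
    have := three_Opp (H2.isSolvable_sdK inferInstance) (rA.trans nA) r
      (PiN.of_not_dvd (by rwa [H2.card_sdK, card_top])) (PiN.of_not_dvd o)
    have e2 : Opp 2 (H2.sdK φ ⊤) = H2.sdK φ (pPrimePCore 2 G) := by
      rw [Opp, ← H1.map_pPrimePCore_equiv (topEquiv.symm.trans (H2.sdKEquiv φ ⊤)), map_map]
      rfl
    rw [e1, H2.card_sdK] at o
    rw [e2, e1, ← H2.sdK_sup, H2.sdK_inj] at this
    exact ⟨o, this⟩
  refine ⟨hs, ?_, fun σ a b => (key σ a b).2⟩
  obtain ⟨σ, a, b⟩ := exists_orderOf_eq_prime (H := S) Nat.prime_three (cS ▸ by decide)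
  obtain ⟨k1, k2⟩ := key σ a b
  rw [← relIndex_top_right, ← k2, relIndex_sup_of_norm le_normalizer_of_normal]
  exact fun k => k1 (k.trans (relIndex_dvd_card _ _))

theorem sz_eight (h : Lie.IsoSuzuki L) (hy : y ∈ N(L)) (h3 : y ^ 3 = 1) (hs : Sol (L ⊓ C[y])) :
    ∃ (F : Type) (_ : Field F) (_ : Fintype F), Fintype.card F = 8 ∧ Nonempty (L ≃* Lie.Sz F 4) := by
  have n3 := sz_not_three h
  obtain ⟨F, _, _, m, m1, h2, ⟨e⟩⟩ := h
  letI := H23.Sz.titsOfCard h2
  letI := (H23.Sz.lieModel h2).ofEquiv e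
  haveI := H23.Sz.big_of_card_eq m1 h2
  suffices Nat.card F ≤ 2 ^ 3 by
    rw [Nat.card_eq_fintype_card, h2, Nat.pow_le_pow_iff_right (by norm_num)] at this
    obtain rfl : m = 1 := by omega
    exact ⟨F, _, _, h2, ⟨e⟩⟩
  set φ := L.normalizerMonoidHom ⟨y, hy⟩
  have φ3 : φ ^ 3 = 1 := by rw [← map_pow, show (⟨y, hy⟩ : N(L)) ^ 3 = 1 from Subtype.ext h3, map_one]
  obtain ⟨k, -, hk⟩ := exists_cj_le_of_le_sup (K := Inn L) (A := (H23.Sz.fieldAut L (F := F)).range)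
    (B := zpowers φ) le_normalizer_of_normal (zpowers_le.2 (by
      obtain ⟨x, σ, e⟩ := H23.Sz.exists_conj_fieldAut (F := F) φ
      exact e ▸ mul_mem_sup ⟨x, rfl⟩ ⟨σ, rfl⟩))
    ((PiN.of_not_dvd fun k => n3 (k.trans (card_range_dvd _))).coprime' (by
      rw [Nat.card_zpowers]
      exact (pow_one 3 ▸ PiN.prime_pow Nat.prime_three 1).dvd (orderOf_dvd_of_pow_eq_one φ3)))
    (.inl (sol_zpowers _))
  obtain ⟨σ, hσ⟩ := hk (conj_mem_cj.2 (mem_zpowers φ))
  have σ3 : σ ^ 3 = 1 := (H23.Sz.eq_one_of_fieldAut_eq_conj (G := L) (g := 1) (by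
    rw [map_pow, hσ, conj_pow, φ3, map_one, mul_one, mul_inv_cancel])).2
  let F0 := FixedPoints.subfield (zpowers σ) F
  letI := H23.Sz.subGModel (G := L) F0
  have s : Group.IsSolvable (H23.Sz.subG L F0) := by
    refine H1.isSolvable_of_le (K := ((L ⊓ C[y]).subgroupOf L).map k.toMonoidHom) (fun g hg => ?_)
      (H1.isSolvable_map (H0.sol_subgroupOf hs) _)
    have : H23.Sz.fieldAut L σ g = g := H23.Sz.ρ_inj (F := F) (by
      rw [H23.Sz.ρ_fieldAut]
      ext i j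
      exact hg i j ⟨σ, mem_zpowers σ⟩)
    rw [hσ, MulAut.mul_apply, MulAut.mul_apply, ← MulEquiv.eq_symm_apply] at this
    exact ⟨k⁻¹ g, ⟨(k⁻¹ g).2, mem_cent1.2 (mul_inv_eq_iff_eq_mul.1 (congrArg Subtype.val this)).symm⟩,
      k.apply_symm_apply g⟩
  have c : Nat.card F0 ≤ 2 := by_contra fun k =>
    haveI := H23.Sz.big_of_card (not_le.1 k)
    H23.Sz.not_isSolvable F0 _ s
  letI := Fintype.ofFinite (zpowers σ)
  have := FixedPoints.finrank_le_card (zpowers σ) F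
  rw [← Nat.card_eq_fintype_card, Nat.card_zpowers] at this
  rw [Module.natCard_eq_pow_finrank (K := F0)]
  exact (Nat.pow_le_pow_left c _).trans (Nat.pow_le_pow_right (by norm_num)
    (this.trans (orderOf_le_of_pow_eq_one (by norm_num) σ3)))

theorem s2976 [HGold.{u}] (hK : IsComponent K) (h3 : ¬ 3 ∣ #K) (hy : orderOf y = 3) (hs : Sol C[y]) :
    (∃ (F : Type) (_ : Field F) (_ : Fintype F), Fintype.card F = 8 ∧
      Nonempty (K ⧸ center K ≃* Lie.Sz F 4)) ∧ y ∈ N(K) ∧ (pCore 2 G = ⊥ → IsSimpleGroup K) := by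
  have pY : (#(zpowers y)).Prime := by rw [Nat.card_zpowers, hy]; exact Nat.prime_three
  have n : y ∈ N(K) := by_contra fun k => H1.Quasisimple.not_isSolvable hK.2
    (sol_of_quo (norm_le_norm_cent K |>.trans' le_normalizer) (inf_comm K C(K) ▸ sol_of_ab (comm_center K))
      (sol_mono (sol_quo hs C(K)) ?_))
  swap
  · rw [quo_le_iff (le_normalizer.trans (norm_le_norm_cent K))]
    intro x hx
    obtain ⟨m, a, b⟩ := diag (K := ⊤) (A := zpowers y) hK le_top hx (by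
      rw [inf_eq_bot_of_prime pY fun e => k (e (mem_zpowers y)), cent_bot]; trivial)
    have xn := le_normalizer.trans (norm_le_norm_cent K) hx
    have mn := le_normalizer (H := C(K)) a.2
    refine ⟨⟨x, xn⟩, ⟨⟨x * m, mul_mem xn mn⟩, cent_zpowers y ▸ b, qmk_eq.2 ?_⟩, rfl⟩
    simpa using a.2
  have nZ : y ∈ N(Z(K)) := norm_le_norm_center K n
  obtain ⟨e⟩ := quo_equiv_quot (center K) (H1.map_subtype_center K)
  haveI := hK.2.2
  have sz : Lie.IsoSuzuki (K ⧸ center K) := s0336 (by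
    by_contra! k
    haveI := hK.2.1
    exact Group.IsPerfect.not_isMulCommutative _ ⟨⟨k⟩⟩) fun k => h3 (k.trans (card_quotient_dvd_card _))
  obtain ⟨F, _, _, c, ⟨e'⟩⟩ := sz_eight (L := quo Z(K) K) (y := qmk _ ⟨y, nZ⟩)
    (let ⟨F, _, _, m, a, b, ⟨f⟩⟩ := sz; ⟨F, _, _, m, a, b, ⟨e.trans f⟩⟩)
    (quo_norms (zpowers_le.2 n) (quo_zpowers nZ ▸ mem_zpowers _))
    (by rw [← map_pow, qmk_eq_one, coe_pow, ← hy, pow_orderOf_eq_one]; exact one_mem _) (by
      rw [← cent_zpowers, ← quo_zpowers, quo_inf_cent' (zpowers_le.2 nZ) inf_le_left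
        (((PiN.of_not_dvd h3).infl _).coprime' (PiN.of_card Nat.prime_three (by
          rw [Nat.card_zpowers, hy]))) (.inl (sol_zpowers y))]
      exact sol_quo (sol_mono hs (cent_zpowers y ▸ inf_le_right)) _)
  refine ⟨⟨F, _, _, c, ⟨e.symm.trans e'⟩⟩, n, fun h => H1.isSimpleGroup_of_isQuasisimple hK.2 ?_⟩
  have h2 : Fintype.card F = 2 ^ (2 * 1 + 1) := c
  letI := H23.Sz.titsOfCard h2
  letI := (H23.Sz.lieModel h2).ofEquiv (e.symm.trans e')
  haveI := H23.Sz.big_of_card_eq le_rfl h2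
  have k := H23.Sz.card_ker_le (F := F) (τ := QuotientGroup.mk' (center K))
    ⟨QuotientGroup.mk'_surjective _, (QuotientGroup.ker_mk' _).le, hK.2.1.commutator_eq_top ▸ le_top⟩
  rw [QuotientGroup.ker_mk', Nat.card_eq_fintype_card (α := F), c] at k
  have k3 : ¬ 3 ∣ #(center K) := fun k => h3 (k.trans (card_subgroup_dvd_card _))
  have k0 := card_pos (center K)
  have p2 : IsPGroup 2 (center K) := by
    have : #(center K) = 2 ^ 0 ∨ #(center K) = 2 ^ 1 ∨ #(center K) = 2 ^ 2 := by omega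
    rcases this with k | k | k <;> exact .of_card k
  have := H28.le_pCore_of_subnormal ((H1.SubnIn.map_subtype_iff.2
    (Normal.isSubnormal inferInstance)).trans_isSubnormal hK.1) (p2.map K.subtype)
  rwa [h, le_bot_iff, map_eq_bot_iff_of_injective _ K.subtype_injective] at this

end H28.K
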