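import Cfsg.Agent.H29.BB17
import Cfsg.Agent.H29.PU15
import Cfsg.Agent.H29.Transfer
import Cfsg.Agent.H29.PMinFF

/-! A characteristic subgroup which controls transfer together with the centre, for odd primes. -/

set_option autoImplicit false
set_option linter.unusedVariables false
set_option linter.unusedSectionVars false

namespace H28.TF
open H9 hiding zj
open Cfsg Subgroup H28 H13.SL2 Matrix MatrixGroups H29 H29.PU H29.BB
open scoped commutatorElement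

universe u v
variable {X : Type u} [Group X] [Finite X] {Y : Type v} [Group Y] [Finite Y] {f : X →* Y} {p : ℕ} [hp : Fact p.Prime]
  {A B C D G H K L M S T U V a b d : Subgroup X}

/-- the commutator of the core with the residual is visible in the normalizer of `T` -/
def Gd (p : ℕ) (C T : Subgroup X) : Prop := ∃ H, H ≤ C ∧ H ≤ 𝐍 T ∧ ⁅𝐐 C, 𝐄 C⁆ ≤ ⁅H, H⁆

theorem Gd.map (h : Gd p C T) (hf : Function.Injective f) : Gd p (C.map f) (T.map f) := by
  obtain ⟨H, h1, h2, h3⟩ := h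
  exact ⟨_, map_mono h1, map_nrm h2, by
    rw [← map_pCoreOf hf, ← map_pResidualOf, ← map_commutator, ← map_commutator]; exact map_mono h3⟩

theorem Gd.of_map (h : Gd p (C.map f) (T.map f)) (hf : Function.Injective f) : Gd p C T := by
  obtain ⟨H, h1, h2, h3⟩ := h
  obtain ⟨H, rfl⟩ := exists_map h1
  rw [← map_pCoreOf hf, ← map_pResidualOf, ← map_commutator, ← map_commutator] at h3
  exact ⟨H, (map_le_map_iff_of_injective hf).1 h1, nrm_of_map hf h2, (map_le_map_iff_of_injective hf).1 h3⟩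

theorem Gd.of_syl (h : Gd p C T) (hT : IsSylowIn p T C) (hS : IsSylowIn p S C) : Gd p C S := by
  obtain ⟨g, hg, rfl⟩ := hT.exists_conj hS
  have := h.map (conj_injective' g)
  rwa [cj_eq_self_of_mem hg] at this

theorem gd_core {F : Type} [Field F] (h : Vx p C) (hT : IsSylowIn p T C) (h2 : p ≠ 2) (N : NS p F C (𝐙 C) ⊥ T U)
    (hc : C ⊓ 𝐂 (𝐙 C) ≤ 𝐐 C) {j : X} (hj : j ∈ C) (e : N.π j = -1) (h1 : D ≤ 𝐐 C) (hn : C ≤ 𝐍 D)
    (h3 : ⁅D, 𝐄 C⁆ ≤ 𝐙 C) (h4 : ∀ v ∈ 𝐐 C, ∃ w ∈ 𝐐 C, ⁅j, w⁆⁻¹ * v ∈ D) : Gd p C T := by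
  have f2 := two_ne_zero_of_cast h2 (N.cast_p h.toRk1 hT)
  obtain ⟨H, a1, a2, a3⟩ : ∃ H, H ≤ C ∧ C ≤ 𝐍 H ∧ ∀ g ∈ C, g ∈ H ↔ N.π g ∈ center SL(2, F) :=
    ⟨((center SL(2, F)).comap N.hom).map C.subtype, map_subtype_le _, le_normalizer_map_subtype _,
      fun g hg => ⟨by rintro ⟨x, hx, rfl⟩; exact hx, fun k => ⟨⟨g, hg⟩, k, rfl⟩⟩⟩
  have lQ : 𝐐 C ≤ H := fun q hq => (a3 q (pCoreOf_le p C hq)).2 (by
    rw [(N.inj q (hT.pCoreOf_le hq)).2 hq]; exact one_mem _)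
  have jH : j ∈ H := (a3 j hj).2 (center_iff.2 (.inr e))
  have nR : C ≤ 𝐍 ⁅𝐐 C, H⁆ := le_normalizer_commutator (le_normalizer_pCoreOf p C) a2
  have jR : ∀ w ∈ 𝐐 C, ⁅j, w⁆ ∈ ⁅𝐐 C, H⁆ := fun w hw => commutatorElement_mem_comm.1 (commutator_mem_commutator hw jH)
  have ZR : ⁅𝐙 C, 𝐄 C⁆ ≤ ⁅𝐐 C, H⁆ := commutator_le.2 fun z hz g hg => commutatorElement_mem_comm.1 (by
    have hg' := pResidualOf_le p C hg
    have c := N.comm_mem hg' hz
    obtain ⟨w, hw, e'⟩ := N.onto ((-2 : F)⁻¹ • N.ψ ⁅g, z⁆)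
    have b1 := N.comm_mem hj hw
    have b3 : ⁅j, w⁆⁻¹ * ⁅g, z⁆ ∈ 𝐂 C := (N.mem_C_iff (mul_mem (inv_mem b1) c)).2 (by
      rw [N.mul _ (inv_mem b1) _ c, N.inv b1, N.comm_neg hj e hw, e', smul_smul,
        mul_inv_cancel₀ (neg_ne_zero.2 f2)]; simp)
    have := (h.comm_inf h2).le (mem_inf.2 ⟨mul_mem (inv_mem (commutator_mem_commutator hj hw))
      (commutator_mem_commutator hg' hz), b3⟩)
    rw [← inv_mul_eq_one.1 (mem_bot.1 this)]
    exact jR w (h.Z_le_Q hw))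
  refine ⟨H, a1, le_normalizer_of_commutator_le (commutator_le.2 fun t ht g hg => hT.pCoreOf_le (hc ?_)) le_rfl,
    le_trans ?_ (commutator_mono lQ le_rfl)⟩
  · have b1 := hT.le ht
    have b2 := a1 hg
    have m : ⁅t, g⁆ ∈ C := mul_mem (mul_mem (mul_mem b1 b2) (inv_mem b1)) (inv_mem b2)
    refine ⟨m, mem_centralizer'.2 fun v hv => (comm_eq_one.1 (mem_bot.1 ((N.kerπ _ m).1 ?_ v hv))).symm⟩
    rw [commutatorElement_def, N.π_mul _ (mul_mem (mul_mem b1 b2) (inv_mem b1)) _ (inv_mem b2),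
      N.π_mul _ (mul_mem b1 b2) _ (inv_mem b1), N.π_mul _ b1 _ b2, N.π_inv b1, N.π_inv b2,
      mem_center_iff.1 ((a3 g b2).1 hg)]
    group
  · refine (commutator_mono (show 𝐐 C ≤ D ⊔ ⁅𝐐 C, H⁆ from fun v hv => ?_) le_rfl).trans (comm_sup_le
      ((h1.trans (pCoreOf_le p C)).trans nR) ((pResidualOf_le p C).trans nR) le_rfl ?_)
    · obtain ⟨w, hw, k⟩ := h4 v hv
      rw [← mul_inv_cancel_left ⁅j, w⁆ v]
      exact mul_mem (mem_sup_right (jR w hw)) (mem_sup_left k)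
    · rw [← commutator_commutator_pResidualOf' ((isPGroup_pCoreOf p C).to_le h1) hn]
      exact (commutator_mono h3 le_rfl).trans ZR

theorem gd_p0 (k : P0 p C T) (h : Vx p C) (hT : IsSylowIn p T C) (h2 : p ≠ 2) : Gd p C T := by
  obtain ⟨U, -, -, F, _, _, -, ⟨N⟩⟩ := h.ns' hT
  obtain ⟨j, hj, -, e⟩ := N.exists_neg h2
  exact gd_core h hT h2 N (k.cen_le h.toRk1) hj e le_rfl (le_normalizer_pCoreOf p C) k.choose_spec.2.2
    fun v hv => ⟨1, one_mem _, by simpa using hv⟩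

theorem gd_p2 (k : P2 p C T U a b d D) (h : Vx p C) (hT : IsSylowIn p T C) (h2 : p ≠ 2) : Gd p C T := by
  obtain ⟨F, _, _, _, -, N, N', h'⟩ := k.ns' h hT
  obtain ⟨j, hj, -, e⟩ := N.exists_neg h2
  have f2 := two_ne_zero_of_cast h2 (N.cast_p h.toRk1 hT)
  have e' : N'.π j = -1 := (eq_neg_of_sq (by
    rw [← N'.π_mul _ hj _ hj, k.π'_eq_one h hT N N' (mul_mem hj hj), ← k.π_eq_one h N (mul_mem hj hj),
      N.π_mul _ hj _ hj, e]; simp) f2).resolve_left fun c => neg_one_ne f2 (by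
    rw [← e, k.π_eq_one h N hj, ← k.π'_eq_one h hT N N' hj, c])
  refine gd_core h hT h2 N k.cen hj e k.D_le k.nD k.DE fun v hv => ?_
  obtain ⟨w, hw, e''⟩ := N'.onto ((-2 : F)⁻¹ • N'.ψ v)
  have b1 := N'.comm_mem hj hw
  exact ⟨w, hw, (h' _ (mul_mem (inv_mem b1) hv)).1 (by
    rw [N'.mul _ (inv_mem b1) _ hv, N'.inv b1, N'.comm_neg hj e' hw, e'', smul_smul,
      mul_inv_cancel₀ (neg_ne_zero.2 f2)]; simp)⟩

/-- normal in all bad rank one overgroups -/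
def Cm (p : ℕ) {S : Type u} [Group S] (D : Subgroup S) : Prop := ∀ (G : Type u) [Group G] [Finite G] (τ : S →* G),
  Function.Injective τ → IsSylowIn p ((⊤ : Subgroup S).map τ) ⊤ → Vx p (⊤ : Subgroup G) →
    ¬ Gd p ⊤ ((⊤ : Subgroup S).map τ) → ⊤ ≤ 𝐍 (D.map τ)

/-- the largest subgroup normal in all bad rank one overgroups -/
def k0 (p : ℕ) (S : Type u) [Group S] : Subgroup S := ⨆ D : {D : Subgroup S // Cm p D}, D.1

theorem cm_k0 {S : Type u} [Group S] : Cm p (k0 p S) := fun G _ _ τ h1 h2 h3 h4 => by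
  rw [k0, Subgroup.map_iSup]; exact PU.le_normalizer_iSup fun D => D.2 G τ h1 h2 h3 h4

theorem Cm.map {S R : Type u} [Group S] [Group R] {D : Subgroup S} (h : Cm p D) (φ : S ≃* R) :
    Cm p (D.map φ.toMonoidHom) := fun G _ _ τ h1 h2 h3 h4 => by
  rw [← map_top_equiv φ, Subgroup.map_map] at h2 h4
  rw [Subgroup.map_map]
  exact h G _ (h1.comp φ.injective) h2 h3 h4

theorem map_k0 {S R : Type u} [Group S] [Group R] (φ : S ≃* R) : (k0 p S).map φ.toMonoidHom = k0 p R := by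
  refine le_antisymm (le_iSup_of_le ⟨_, cm_k0.map φ⟩ le_rfl) ?_
  have : (k0 p R).map φ.symm.toMonoidHom ≤ k0 p S := le_iSup_of_le ⟨_, cm_k0.map φ.symm⟩ le_rfl
  intro x hx
  exact ⟨φ.symm x, this ⟨x, hx, rfl⟩, by simp⟩

theorem k0_ne {S : Type u} [Group S] [Finite S] [Nontrivial S] (h2 : p ≠ 2) : k0 p S ≠ ⊥ := by
  intro h0
  have inj : ∀ {G : Type u} [Group G] {φ : G →* Equiv.Perm (Fin (# S * (# S).factorial).factorial)},
      (∀ g ω, φ g ω = ω → g = 1) → Function.Injective φ := fun h =>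
    (injective_iff_map_eq_one _).2 fun g e => h g ⟨0, Nat.factorial_pos _⟩ (by rw [e]; rfl)
  obtain ⟨φ, hφ⟩ := exists_free S (Nat.dvd_factorial Nat.card_pos (Nat.le_mul_of_pos_right _ (Nat.factorial_pos (# S))))
  have key : ∀ D : Subgroup S, (∀ H, Vx p H ∧ (∀ T, IsSylowIn p T H → ¬ Gd p H T) →
      IsSylowIn p ((⊤ : Subgroup S).map φ) H → H ≤ 𝐍 (D.map φ)) → D = ⊥ := fun D hD =>
    le_bot_iff.1 (h0 ▸ le_iSup_of_le ⟨D, fun G _ _ τ h1 h2 h3 h4 => by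
      obtain ⟨ψ, hψ⟩ := exists_free G (Nat.dvd_factorial Nat.card_pos ((card_le_of_charP h3.cp h2).trans_eq
        (by rw [card_map' h1, card_top])))
      obtain ⟨σ, hσ⟩ := exists_conj_of_free (ψ.comp τ) φ (fun s ω e => h1 ((hψ _ ω e).trans (map_one τ).symm)) hφ
      have hi : Function.Injective ((MulAut.conj σ).toMonoidHom.comp ψ) := (conj_injective' σ).comp (inj hψ)
      have e' : ((MulAut.conj σ).toMonoidHom.comp ψ).comp τ = φ := MonoidHom.ext hσ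
      refine nrm_of_map hi ?_
      rw [Subgroup.map_map, e']
      exact hD _ ⟨h3.map hi, fun T hT k => h4 ((k.of_syl hT (h2.map _)).of_map hi)⟩ (by
        rw [← e', ← Subgroup.map_map]; exact h2.map _)⟩ le_rfl)
  by_cases c : ∃ H, (Vx p H ∧ ∀ T, IsSylowIn p T H → ¬ Gd p H T) ∧ IsSylowIn p ((⊤ : Subgroup S).map φ) H
  · obtain ⟨H, c1, c2⟩ := c
    obtain ⟨C, hC, T, hT, k⟩ := family (𝓥 := {H | Vx p H ∧ ∀ T, IsSylowIn p T H → ¬ Gd p H T}) (fun _ h => h.1)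
      (fun G h g => ⟨h.1.map (conj_injective' g), fun T hT k => h.2 (cj g⁻¹ T) (by
        have := hT.conj g⁻¹; rwa [cj_inv_cj] at this) (by
        have := k.map (conj_injective' g⁻¹); rwa [cj_inv_cj] at this)⟩) c1 c2 fun D l hD => by
        obtain ⟨D, rfl⟩ := exists_map l
        rw [key D hD, Subgroup.map_bot]
    exact hC.2 T hT (k.elim (fun k => gd_p0 k hC.1 hT h2) fun ⟨_, _, _, _, _, k⟩ => gd_p2 k hC.1 hT h2)
  · exact top_ne_bot (key ⊤ fun H a b => (c ⟨H, a, b⟩).elim)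

theorem char_k0 (h2 : p ≠ 2) : IsCharPFunctor.{u} p (k0 p) :=
  ⟨fun Q _ _ _ _ => k0_ne h2, fun Q R _ _ _ _ φ => map_k0 φ⟩

/-- the functor -/
def kf (p : ℕ) (S : Type u) [Group S] : Subgroup S := inducedFunctor (k0 p) (bm p ⊤)

theorem bm_ne (hT : IsPGroup p T) (h : T ≠ ⊥) : bm p T ≠ ⊥ :=
  fun e => JJ_ne_bot_of_isPGroup hT h (le_bot_iff.1 (e ▸ JJ_le_bm))

theorem char_kf (h2 : p ≠ 2) : IsCharPFunctor.{u} p (kf p) :=
  ⟨fun Q _ _ h _ => functor_ne_bot (isConj_induced (char_k0 h2)) (h.to_subgroup _) (bm_ne (h.to_subgroup _) top_ne_bot),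
    fun Q R _ _ _ h φ => by
      rw [kf, map_induced_of_injective (char_k0 h2) (h.to_subgroup _) φ.injective, map_bm φ.injective, map_top_equiv]
      rfl⟩

theorem ind_kf (h2 : p ≠ 2) (hT : IsPGroup p T) : inducedFunctor (kf p) T = inducedFunctor (k0 p) (bm p T) := by
  rw [inducedFunctor, kf, map_induced_of_injective (char_k0 h2) (hT.to_subgroup _) T.subtype_injective,
    map_bm T.subtype_injective, map_subtype_top]

theorem vx_of_map (hf : Function.Injective f) (h : Vx p (G.map f)) : Vx p G := by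
  obtain ⟨S, M, r⟩ := h.ex
  obtain ⟨S, rfl⟩ := exists_map r.syl.le
  obtain ⟨M, rfl⟩ := exists_map r.um.lt.le
  have l := fun A B => map_le_map_iff_of_injective (H := A) (K := B) hf
  refine ⟨⟨(isCharP_map_iff hf).1 h.cp, S, M, syl_of_map hf r.syl, r.um.of_map hf, (l _ _).1 ?_, fun x hx => ?_,
    fun x hx g hg e => ?_, fun e => r.ne (map_pCoreOf hf G ▸ map_mono e)⟩,
    fun e => h.nz (map_Z (p := p) hf G ▸ map_cen e), fun S hS => ?_⟩
  · rw [map_pCoreOf hf, map_commutator]; exact r.comm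
  · rw [← mem_map_iff_mem hf, map_pCoreOf hf, map_pow]; exact r.pow _ ⟨x, hx, rfl⟩
  · rw [← mem_map_iff_mem hf, map_pCoreOf hf, ← mem_map_iff_mem (x := g) hf]
    exact r.ti _ ⟨x, hx, rfl⟩ _ ⟨g, hg, rfl⟩ ⟨_, e, by simp⟩
  · obtain ⟨e, A, h1, h2, h3⟩ := h.off _ (hS.map_of_injective hf)
    obtain ⟨A, rfl⟩ := exists_map h2.le
    exact ⟨e, A, h1, h2.of_map hf, fun c => h3 (map_pCoreOf hf G ▸ map_mono c)⟩

theorem nrm_k0 (h : Vx p L) (hB : IsSylowIn p B L) (n : ¬ Gd p L B) : L ≤ 𝐍 (inducedFunctor (k0 p) B) := by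
  have i := L.subtype_injective
  have e : (⊤ : Subgroup B).map (inclusion hB.le) = B.subgroupOf L := by
    rw [← MonoidHom.range_eq_map, inclusion_range]
  have := map_nrm (f := L.subtype) (cm_k0 L (inclusion hB.le) (inclusion_injective _) (e ▸ hB.subgroupOf_top)
    (vx_of_map i ((map_subtype_top L).symm ▸ h)) fun k => n (by have := k.map i; rwa [e, map_subtype_top, map_subtype_subgroupOf hB.le] at this))
  rwa [map_subtype_top, Subgroup.map_map] at this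

/-- `M` contains the normalizer of `J(B)` and the centralizers of centres -/
structure CW (p : ℕ) (G B M : Subgroup X) : Prop extends Amb p G B where
  nJ : G ⊓ 𝐍 (JJ p B) ≤ M
  cen : ∀ R : Subgroup X, IsPGroup p R → B ≤ R → R ≤ G → G ⊓ 𝐂 (𝛀 R) ≤ M

namespace CW
variable (h : CW p G B M)
include h

theorem mono (h1 : B ≤ K) (h2 : K ≤ G) (hK : IsCharP p K) : CW p K B M :=
  ⟨h.toAmb.mono h1 h2 hK, (inf_le_inf_right _ h2).trans h.nJ,
    fun R a b c => (inf_le_inf_right _ h2).trans (h.cen R a b (c.trans h2))⟩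

theorem min (n : ¬ G ≤ M) (m : ∀ K < G, B ⊔ 𝐐 G ≤ K → K ≤ M) : Vx p G ∧ ¬ nclIn B G ≤ M ∧
    ∃ T, IsSylowIn p T G ∧ B ≤ T ∧ T ⊓ nclIn B G ≤ B := by
  obtain ⟨T, hT, e⟩ := h.ex
  have l : B ≤ T := e ▸ bm_le
  have eJ := h.JJ_eq hT.isPGroup l hT.le
  have nT : G ⊓ 𝐍 T ≤ M := (inf_le_inf_left _ (eJ ▸ normalizer_le_normalizer_JJ p T)).trans h.nJ
  have lT : T ≤ M := (le_inf hT.le le_normalizer).trans nT
  have u0 : UniqMax (B ⊔ 𝐐 G) G (G ⊓ M) := ⟨le_inf (sup_le h.le (pCoreOf_le p G))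
    ((sup_le l hT.pCoreOf_le).trans lT), inf_lt_left.2 n, fun K a b => le_inf b.le (m K b a)⟩
  have cV : G ⊓ 𝐂 (𝐖₀ G) ≤ M := (inf_le_inf_left _ (centralizer_anti (h.cp.omegaOneCenter_le hT))).trans
    (h.cen T hT.isPGroup l hT.le)
  have u := u0.mono (sup_le l hT.pCoreOf_le) (le_inf hT.le lT)
  have nn : ¬ G ≤ 𝐍 T := fun c => n ((le_inf le_rfl c).trans nT)
  have nE : ¬ 𝐄 G ≤ M := fun c => u.not_pResidualOf_le hT (le_inf (pResidualOf_le p G) c)
  have ea : IsElementaryAbelian p (𝐖₀ G) := eaW₀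
  have lV : 𝐖₀ G ≤ T := W₀_le.trans hT.pCoreOf_le
  obtain ⟨D⟩ := exists_secRep (p := p) (V₀ := ⊥) (lV.trans hT.le) bot_le (nrmW₀ le_normalizer) (le_top.trans normalizer_bot.ge)
    (comm_Ω (ea_le_centralizer ea)).le fun v hv => (isElementaryAbelian_iff.1 ea).2 v hv
  have hQ : ⁅𝐖₀ G, 𝐐 G⁆ ≤ ⊥ := (comm_Ω (omegaOneCenter_le_centralizer p _)).le
  have hE : ¬ ⁅𝐖₀ G, 𝐄 G⁆ ≤ ⊥ := fun c => nE ((le_inf (pResidualOf_le p G) (commutator_eq_bot_iff'.1
    (le_bot_iff.1 c))).trans cV)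
  have hJ : ¬ JJ p T ≤ 𝐐 G := fun c => n ((le_inf le_rfl (by
    rw [← eJ, ← JJ_eq_of_le c hT.pCoreOf_le]
    exact (le_normalizer_pCoreOf p G).trans (normalizer_le_normalizer_JJ p _))).trans h.nJ)
  have off : ∀ A, MaxAb p T A → # D.U ≤ # (D.im A) * # (Rp.fix D.ρ (D.im A)) := fun A hA => by
    rw [SecRep.off_iff (hA.le.trans hT.le), cmod_bot, cmod_bot]; exact MaxAb.relIndex_le hA lV ea
  obtain ⟨A, hA, hA'⟩ : ∃ A, MaxAb p T A ∧ ¬ A ≤ 𝐐 G := by
    by_contra c; push Not at c; exact hJ (JJ_le_iff.2 c)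
  have a0 : D.im A ≠ ⊥ := fun c => hA' ((le_inf hA.le ((SecRep.im_eq_bot (hA.le.trans hT.le)).1 c)).trans
    (D.ker_le_Q hT u hE))
  have a1 := D.ea_im (hA.le.trans hT.le) hA.ea
  have hy := D.hyp hT u nn hQ hE a1 a0 (off A hA)
  obtain ⟨c, -, hc, -⟩ := hy.exists_rt a1 a0 (off A hA)
  have j : D.im (JJ p T) ≤ Rp.JR D.ρ (D.im T) := (SecRep.im_le ((JJ_le p T).trans hT.le)).2 (JJ_le_iff.2 fun A hA =>
    (SecRep.im_le (hA.le.trans hT.le)).1 ((hy.offender_le_JR (D.ea_im (hA.le.trans hT.le) hA.ea) (off A hA)).trans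
      (Rp.JR_le fun C hC k => Rp.le_JR hC (k.trans (SecRep.im_mono hA.le)))))
  have b : D.im B ≤ Rp.JR D.ρ (D.im T) := hy.le_JR (SecRep.im_mono l) ((Rp.fix_anti j).trans (by
    rw [← SecRep.grp_le_grp, SecRep.grp_fix ((JJ_le p T).trans hT.le), SecRep.grp_fix h.le, cmod_bot, cmod_bot, eJ]
    exact le_inf inf_le_left ((h.le_zj (ea_of_le ea inf_le_left) hT.isPGroup l hT.le (inf_le_left.trans lV)
      inf_le_right).trans (le_centralizer_comm.1 h.le_C))))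
  obtain ⟨F, _, _, _, ⟨φ⟩⟩ := hy.one ((D.um_im hT u hE u0).mono (by
    rw [SecRep.im_sup h.le (pCoreOf_le p G), (SecRep.im_eq_bot (pCoreOf_le p G)).2 (le_cmod (le_top.trans normalizer_bot.ge) hQ)]
    exact sup_le b bot_le) (Rp.JR_le_self.trans hy.um.le)) hc
  have r : Rk1 p G := by
    obtain ⟨S, M, k⟩ := exists_r1 ((QuotientGroup.mk' (center SL(2, F))).comp (φ.toMonoidHom.comp D.f))
      ((QuotientGroup.mk'_surjective _).comp (φ.surjective.comp D.surj)) hT.subgroupOf_top (.inl u.subgroupOf)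
    exact ⟨h.cp, _, _, map_subtype_top G ▸ k.map G.subtype_injective⟩
  have v := r.vx hT dvd_rfl hJ fun c => nE ((le_inf (pResidualOf_le p G) (le_centralizer_comm.1 ((le_inf W₀_le
    (omegaOneCenter_le_centralizer p _)).trans c))).trans cV)
  have b1 := v.baumann hT dvd_rfl hA hA'
  have b2 := v.res_le_ncl hT dvd_rfl hA hA'
  rw [e] at b1 b2
  exact ⟨v, fun c => nE (b2.trans c), T, hT, l, b1⟩

theorem exists_vx (n : ¬ G ≤ M) : ∃ L ≤ G, ¬ L ≤ M ∧ Vx p L ∧ IsSylowIn p B L ∧ ⁅𝐐 G, 𝐄 L⁆ ≤ 𝐐 L := by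
  obtain ⟨K, k1, k2⟩ := exists_minimal_le_of_wellFoundedLT (fun K => B ⊔ 𝐐 G ≤ K ∧ ¬ K ≤ M) G
    ⟨sup_le h.le (pCoreOf_le p G), n⟩
  have lQ := le_sup_right.trans k2.1.1
  have c := h.mono (le_sup_left.trans k2.1.1) k1 (h.cp.of_pCoreOf_le k1 lQ)
  obtain ⟨-, a1, T, hT, -, a2⟩ := c.min k2.1.2 fun L a b => by_contra fun e => k2.not_prop_of_lt a
    ⟨(sup_le_sup_left (pCoreOf_le_pCoreOf_of_le k1 lQ) _).trans b, e⟩
  have l0 := nclIn_le_self c.le
  have c0 := c.mono (le_nclIn B K) l0 (c.cp.of_normal l0 (le_normalizer_nclIn B K))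
  obtain ⟨L, m1, m2⟩ := exists_minimal_le_of_wellFoundedLT (fun L => B ≤ L ∧ IsCharP p L ∧ ¬ L ≤ M) _
    ⟨c0.le, c0.cp, a1⟩
  have c1 := c0.mono m2.1.1 m1 m2.1.2.1
  obtain ⟨v, b1, S, hS, b2, b3⟩ := c1.min m2.1.2.2 fun H a b => by_contra fun e => m2.not_prop_of_lt a
    ⟨le_sup_left.trans b, c1.cp.of_pCoreOf_le a.le (le_sup_right.trans b), e⟩
  have l1 := nclIn_le_self c1.le
  rw [l1.eq_or_lt.resolve_right fun a => m2.not_prop_of_lt a ⟨le_nclIn B L,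
    c1.cp.of_normal l1 (le_normalizer_nclIn B L), b1⟩, inf_of_le_left hS.le] at b3
  have lG := m1.trans (l0.trans k1)
  have nQ := lG.trans (le_normalizer_pCoreOf p G)
  refine ⟨L, lG, m2.1.2.2, v, le_antisymm b2 b3 ▸ hS, le_trans (le_inf (commutator_le_of_le_normalizer
    ((pResidualOf_le p L).trans nQ)) ((commutator_mono le_rfl ((pResidualOf_le p L).trans m1)).trans
    (commutator_le_of_le_normalizer' (lQ.trans (le_normalizer_nclIn B K))))) (le_pCoreOf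
    ((isPGroup_pCoreOf p G).to_le inf_le_left) ((inf_le_inf_right _ ((pCoreOf_le_pCoreOf_of_le k1 lQ).trans
    hT.pCoreOf_le)).trans (a2.trans c1.le)) (le_normalizer_inf nQ (m1.trans le_normalizer)))⟩

end CW

theorem Ω_le_bm : 𝛀 T ≤ bm p T :=
  le_inf (omegaOneCenter_le _ _) ((omegaOneCenter_le_centralizer _ _).trans (centralizer_anti zj_le))

theorem loc (hc : IsCharP p (⊤ : Subgroup X)) (hS : IsSylowIn p S ⊤) (hM : M ≠ ⊤)
    (m : ∀ H : Subgroup X, S ≤ H → H ≠ ⊤ → H ≤ M) (hz : ¬ 𝛀 S ≤ 𝐂 (⊤ : Subgroup X))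
    (hk : 𝐍 (inducedFunctor (k0 p) (bm p S)) ≠ ⊤) (h2 : p ≠ 2) :
    ⁅𝐐 (⊤ : Subgroup X), 𝐄 (⊤ : Subgroup X)⁆ ≤ ⁅M, M⁆ := by
  have a := amb_of hc hS
  have sB : S ≤ 𝐍 (bm p S) := nrm_bm le_normalizer
  have BK := normalizer_le_normalizer_functor (isConj_induced (char_k0 h2)) a.pg
  have kM := m _ (sB.trans BK) hk
  have BM := BK.trans kM
  have cM : 𝐂 (𝛀 S) ≤ M := m _ (le_centralizer_omegaOneCenter p S) fun e => hz (le_centralizer_comm.1 e.ge)
  have eJ := a.JJ_eq hS.isPGroup bm_le le_top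
  have c : CW p ⊤ (bm p S) M := ⟨a, inf_le_right.trans (m _ (eJ ▸ le_normalizer_JJ p S) fun e => hM (top_le_iff.1 (by
      rw [← eJ] at e
      have n : (⊤ : Subgroup X) ≤ 𝐍 (𝐂 (zj p S)) := le_normalizer_centralizer (le_normalizer_omegaOneCenter e.ge)
      rw [← (hS.inf_normal' le_top n).frattini_sup le_top n]
      exact sup_le ((centralizer_anti (Ω_le_zj dvd_rfl)).trans cM) (inf_le_right.trans BM)))),
    fun R h1 h3 _ => inf_le_right.trans (by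
      obtain ⟨T, hT, l⟩ := exists_isSylowIn_ge h1 le_top
      obtain ⟨g, -, rfl⟩ := hS.exists_conj hT
      have e := a.bm_eq hT.isPGroup (h3.trans l) le_top
      refine (centralizer_anti (le_omegaOneCenter (Ω_le_bm.trans (e.le.trans h3))
        ((omegaOneCenter_le_centralizer p _).trans (centralizer_anti l))
        fun x hx => (mem_omegaOneCenter.1 hx).2.2)).trans ?_
      rw [← cj_omegaOneCenter, ← cj_centralizer]
      exact cj_le_of_mem cM (BM (by rw [mem_normalizer_iff_cj, cj_bm, e])))⟩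
  obtain ⟨L, -, l1, v, s, l2⟩ := c.exists_vx fun e => hM (top_le_iff.1 e)
  obtain ⟨H, -, g1, g2⟩ : Gd p L (bm p S) := by_contra fun n => l1 ((nrm_k0 v s n).trans kM)
  have nQ : ∀ A : Subgroup X, A ≤ 𝐍 (𝐐 (⊤ : Subgroup X)) := fun A => le_top.trans (le_normalizer_pCoreOf p ⊤)
  have SM := sB.trans BM
  have b : ⁅𝐐 (⊤ : Subgroup X), 𝐄 L⁆ ≤ 𝐐 (⊤ : Subgroup X) ⊓ ⁅M, M⁆ := le_inf (commutator_le_of_le_normalizer (nQ _)) (by
    rw [← commutator_commutator_pResidualOf' (isPGroup_pCoreOf p ⊤) (nQ L)]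
    exact (commutator_mono l2 le_rfl).trans (g2.trans (commutator_mono (g1.trans BM) (g1.trans BM))))
  have nM : M ≤ 𝐍 (𝐐 (⊤ : Subgroup X) ⊓ ⁅M, M⁆) :=
    le_normalizer_inf (nQ _) (le_normalizer_commutator le_normalizer le_normalizer)
  have t : cmod (𝐐 (⊤ : Subgroup X)) (𝐐 (⊤ : Subgroup X) ⊓ ⁅M, M⁆) = ⊤ := by_contra fun e => l1 (by
    rw [← s.pResidualOf_sup]
    refine sup_le (le_trans ?_ (m _ (le_cmod (SM.trans nM) (le_inf (commutator_le_of_le_normalizer (nQ _))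
      (commutator_mono (hS.pCoreOf_le.trans SM) SM))) e)) (bm_le.trans SM)
    exact le_cmod (le_normalizer_of_commutator_le ((commutator_mono inf_le_left le_rfl).trans b) le_rfl) b)
  exact (commutator_le_of_le_cmod (le_top.trans t.ge)).trans inf_le_right

/-- the centre as a functor -/
def zf (S : Type u) [Group S] : Subgroup S := ⊤ ⊓ 𝐂 (⊤ : Subgroup S)

theorem char_zf : IsCharPFunctor.{u} p zf :=
  ⟨fun Q _ _ h _ => center_ne_bot (h.to_subgroup ⊤) top_ne_bot, fun Q R _ _ _ _ φ => by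
    rw [zf, map_centralizer_inf φ.injective, map_top_equiv, zf]⟩

theorem ind_zf : inducedFunctor zf T = T ⊓ 𝐂 T := by
  rw [inducedFunctor, zf, map_centralizer_inf T.subtype_injective, map_subtype_top]

theorem char_two (h2 : p ≠ 2) : ∀ W ∈ ({kf p, zf} : Set (∀ (Q : Type u) [Group Q], Subgroup Q)),
    IsCharPFunctor.{u} p W := by
  rintro _ (rfl | rfl)
  exacts [char_kf h2, char_zf]

theorem comm_top_le [V.Normal] (hT : IsSylowIn p T ⊤) (TM : T ≤ M) (a3 : ⁅V, M⁆ ≤ V ⊓ ⁅M, M⁆)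
    (l : ⁅V, 𝐄 (⊤ : Subgroup X)⁆ ≤ ⁅M, M⁆) : ⁅V, (⊤ : Subgroup X)⁆ ≤ V ⊓ ⁅M, M⁆ := by
  have nM : M ≤ 𝐍 (V ⊓ ⁅M, M⁆) := le_normalizer_inf (le_normalizer_of_normal' _ _)
    (le_normalizer_commutator le_normalizer le_normalizer)
  have b := le_inf (commutator_le_of_le_normalizer (le_normalizer_of_normal' _ _)) l
  rw [← hT.pResidualOf_sup]
  exact commutator_le_of_le_cmod (sup_le (le_cmod (le_normalizer_of_commutator_le
    ((commutator_mono inf_le_left le_rfl).trans b) le_rfl) b)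
    (le_cmod (TM.trans nM) ((commutator_mono le_rfl TM).trans a3)))

theorem tc_step (h2 : p ≠ 2) (ih : ∀ (Y : Type u) [Group Y] [Finite Y], Involves Y X → Nat.card Y < Nat.card X →
    TC p {kf p, zf} Y) (hc : 𝐂 (pCore p X) ≤ pCore p X) : TC p {kf p, zf} X := by
  obtain ⟨T, hT⟩ := exists_isSylowIn p (⊤ : Subgroup X)
  refine familyControlsTransferIn_iff_exists.2 ⟨_, hT, by_contra fun hG => ?_⟩
  obtain ⟨-, ⟨a1, a2⟩, ⟨a3, a4⟩, -⟩ := tc_counter (char_two h2) ⟨_, .inl rfl⟩ hT ih hG rfl rfl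
  have nk : 𝐍 (inducedFunctor (kf p) T) ≠ ⊤ := fun e =>
    hG (tctl_of_normal (W := inducedFunctor (kf p)) (Set.mem_image_of_mem _ (.inl rfl)) e.ge)
  have nz : ¬ T ⊓ 𝐂 T ≤ 𝐂 (⊤ : Subgroup X) := fun e => hG (tctl_of_normal (W := inducedFunctor zf)
    (Set.mem_image_of_mem _ (.inr rfl)) (by
      rw [ind_zf]; exact le_normalizer_of_le_centralizer (le_centralizer_comm.1 e)))
  have c := isCharP_top.2 hc
  have l := loc c hT a1 a2 (fun e => nz (Rp.center_le_of_omega c hT e)) (ind_kf h2 hT.isPGroup ▸ nk) h2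
  rw [pCoreOf_top] at l
  have hP : pCore p X ≤ T := pCoreOf_top (G := X) p ▸ hT.pCoreOf_le
  have TM := le_normalizer.trans (a2 (𝐍 T) le_normalizer fun e => nk (top_le_iff.1 (e.ge.trans
    (normalizer_le_normalizer_functor (isConj_induced (char_kf h2)) hT.isPGroup))))
  refine hG (tctl_of_pCore_inf (char_two h2) hT ih (fun e => hG (tctl_of_le_pCore (char_two h2) ⟨_, .inl rfl⟩ hT e))
    ((inf_commutator_le_of_normal hT hP).trans (sup_le ?_ ((comm_top_le hT TM a3 l).trans (a4.trans inf_le_right)))))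
  exact le_trans (le_inf (commutator_le_of_le_normalizer le_normalizer) (commutator_mono TM TM))
    (inf_commutator_le_of_proper (char_two h2) hT ih a1 TM)

theorem tc (h2 : p ≠ 2) : TC p {kf p, zf} X :=
  tc_of_constrained (char_two h2) (fun K R _ ih hc => tc_step h2 ih hc) X involves_refl

/-- control of transfer by the centralizer of the centre and one normalizer -/
theorem main (h2 : p ≠ 2) (hS : IsSylowIn p S ⊤) : S ⊓ ⁅(⊤ : Subgroup X), (⊤ : Subgroup X)⁆ ≤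
    S ⊓ ⁅𝐂 (S ⊓ 𝐂 S), 𝐂 (S ⊓ 𝐂 S)⁆ ⊔ S ⊓ ⁅𝐍 (inducedFunctor (kf p) S), 𝐍 (inducedFunctor (kf p) S)⁆ := by
  refine ((familyControlsTransferIn_iff (isConj_ind (char_two h2)) hS).1 (tc h2)).trans (iSup₂_le ?_)
  rintro _ ⟨_, rfl | rfl, rfl⟩
  · rw [top_inf_eq]; exact le_sup_right
  · have l : S ≤ 𝐂 (S ⊓ 𝐂 S) := le_centralizer_comm.1 inf_le_right
    have n := normalizer_le_normalizer_functor (isConj_induced (char_kf h2)) hS.isPGroup
    rw [top_inf_eq]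
    beta_reduce
    rw [ind_zf]
    refine focal_le (hS.mono (le_normalizer_of_le_centralizer l) le_top) fun x hx g hg e => ?_
    obtain ⟨c, hc, k, hk, rfl⟩ := (hS.mono l le_top).frattini (normalizer_le_normalizer_centralizer _ hg)
    have y := conj_mem_of_mem_normalizer hk hx
    rw [show c * k * x * (c * k)⁻¹ * x⁻¹ = ⁅c, k * x * k⁻¹⁆ * ⁅k, x⁆ by simp only [commutatorElement_def]; group]
    refine mul_mem (mem_sup_left (mem_inf.2 ⟨?_, commutator_mem_commutator hc (l y)⟩)) (mem_sup_right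
      (mem_inf.2 ⟨mul_mem y (inv_mem hx), commutator_mem_commutator (n hk) (n (le_normalizer hx))⟩))
    rw [show ⁅c, k * x * k⁻¹⁆ = c * k * x * (c * k)⁻¹ * (k * x * k⁻¹)⁻¹ by simp only [commutatorElement_def]; group]
    exact mul_mem e (inv_mem y)

end H28.TF
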