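import Cfsg.Agent.H21.UM1

/-! Theorem A of the unique-maximal-2-local theorem: chunks `HA` and `HC`. -/

set_option autoImplicit false
set_option linter.unusedVariables false
set_option linter.unusedSectionVars false

namespace H28.UM
open H9 hiding zj
open Cfsg Subgroup H28 H29 H29.PU H29.BB H28.GC H21.UM
open scoped commutatorElement

universe u
variable {X : Type u} [Group X] [Finite X] {B C U V W A₁ A₂ : Subgroup X} {a g u z : X} {F : Type} [Field F] [Finite F]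

theorem tr3 (hU : IsElementaryAbelian 2 U) (h4 : V.relIndex U ≤ 4) (l : V ≤ U) (h1 : g ∈ 𝐍 U ⊓ 𝐍 V)
    (f : ∀ u ∈ U, ⁅g, u⁆ ∈ V → u ∈ V) (hW : g ∈ 𝐍 W) (l' : V ≤ W) (ha : a ∈ U) (a1 : a ∉ V) (a2 : a ∈ W) : U ≤ W :=
  fun u hu => (em (u ∈ V)).elim (fun k => l' k) fun k =>
    let ⟨j, e⟩ := trans3 hU h4 l h1 f ha a1 hu k
    (mul_mem_cancel_left (conj_mem_of_mem_normalizer (pow_mem hW j) a2)).1 (l' e)

theorem ha : HA.{u} := fun X _ _ F _ _ T M B C A₁ A₂ z c => by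
  obtain ⟨D⟩ := c.hs
  have := D.ch
  have q := c.q4
  have TN := D.le_N q c.pg c.BT
  have BM := c.BT.trans c.TM
  have kk : Hs.KK B A₁ A₂ M → M ≤ 𝐍 B := fun k => (k.resolve_left fun e => c.sw (c.TM.trans e)).resolve_left
    fun e => c.sw fun x hx => D.symm.n₂_of (TN hx) (e (c.TM hx))
  obtain q2 | q4 | q8 := q_cases F
  · omega
  swap
  · exact kk (D.kk q8 c.cpM BM)
  obtain ⟨h, h1, h2, h3, h4⟩ := c.tor
  have hP := isPGroup_pCoreOf 2 M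
  have nP := le_normalizer_pCoreOf 2 M
  have RN := c.OT.trans TN
  have cp : M ⊓ 𝐂 (O₂ M) ≤ O₂ M := c.cpM
  by_cases l : O₂ M ≤ B
  · exact kk (D.kk_le c.cpM BM l)
  have zP := c.OT.trans c.zT
  generalize O₂ M = P at *
  have hN := D.nB_of h1.1 h1.2
  have h0 : P ⊓ 𝐍 A₁ ≤ B := fun y hy => by_contra fun n => by
    obtain ⟨a, a1, a2, a3⟩ := exists_fixed_mod (W := C) (ea_isPGroup D.ea₁) (hP.to_le (inf_le_left : P ⊓ 𝐍 A₁ ≤ P))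
      inf_le_right fun e => let ⟨a, b, d⟩ := D.exists₁; d (e b)
    have k := tr3 D.ea₁ (by rw [D.idx₁, q4.1]) D.C₁ ⟨h1.1, D.NC hN⟩ h2 (W := cmod (P ⊓ 𝐍 A₁) C)
      (le_normalizer_cmod (le_normalizer_inf (A := zpowers h) (zpowers_le.2 (nP (c.nB hN)))
        (zpowers_le.2 (le_normalizer h1.1))) (zpowers_le.2 (D.NC hN)) (mem_zpowers h))
      (fun x hx => ⟨le_normalizer hx, fun u hu => comm_mem_of' (D.NC (RN hu.1)) hx⟩) a1 a2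
      ⟨D.nBC (D.le₁ a1), fun u hu => commutatorElement_mem_comm.1 (a3 u hu)⟩
    have := two_of_sq (D.fi₁ hy.2 (D.n₂_of (RN hy.1) hy.2) (isPGroup_iff_mem.1 hP y hy.1) n)
    rw [relIndex_eq_one.2 (show A₁ ≤ fm y C from fun x hx => ⟨(k hx).1, (k hx).2 y hy⟩)] at this
    omega
  have sw : ∀ x ∈ P, x ∉ B → x ∉ 𝐍 A₁ := fun x hx n k => n (h0 ⟨hx, k⟩)
  obtain ⟨y, hy, n⟩ := SetLike.not_le_iff_exists.1 l
  have y1 := sw y hy n
  have m : ⁅y, h⁆ ∈ B := h0 (mem_inf.2 ⟨comm_mem_of nP hy (c.nB hN), mul_mem (D.two_N _ (mul_mem (RN hy) hN) _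
    (inv_mem (RN hy)) (mt (mul_mem_cancel_right (H := 𝐍 A₁) h1.1).1 y1) (mt inv_mem_iff.1 y1)) (inv_mem h1.1)⟩)
  have e0 : C ⊓ 𝐜 h = ⊥ := by
    rw [← h4 y (RN hy) y1]
    refine (inf_eq_left.2 fun x hx => mem_cj.2 (mem_inf.2
      ⟨conj_mem_of_mem_normalizer' (D.NC (RN hy)) hx.1, ?_⟩)).symm
    have k : x ∈ 𝐜 (y * h * y⁻¹) := by
      rw [show y * h * y⁻¹ = ⁅y, h⁆ * h by simp [commutatorElement_def], mem_c_symm]
      exact mul_mem (mem_c_of D.cenC m hx.1) (mem_c_symm.1 hx.2)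
    simpa [mul_assoc] using (conj_mem_c (g := y⁻¹)).2 k
  rw [e0, card_bot, mul_one] at h3
  have l1 : C ≤ 𝐂 P := tr3 D.eaC (V := ⊥) (by rw [relIndex_bot_left, h3, q4.1]) bot_le
    ⟨D.NC hN, by rw [normalizer_bot]; trivial⟩ (fun u hu k => e0.le ⟨hu, mem_c_comm.2 k⟩)
    (normalizer_le_normalizer_centralizer _ (nP (c.nB hN))) bot_le c.zC c.z1 (le_c_iff.1 zP)
  have l2 : Ω₂ P = C := le_antisymm (fun w hw => by
    obtain ⟨w1, w2, w3⟩ := mem_omegaOneCenter.1 hw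
    rw [sq] at w3
    by_cases k : w ∈ B
    · exact D.mem_of_sw (RN hy) y1 k w3 (mem_c_symm.1 (cen_le_c hy w2))
    have := D.sw_idx (BM.trans nP) hy (RN hy) y1
    rw [relIndex_eq_one.2 (show P ⊓ B ≤ A₁ from fun b hb => D.C₁ (D.cen_sw (RN w1) (sw w w1 k) (w3 ▸ one_mem _)
      (le_centralizer_iff.1 l1 w1) hb.2 (mem_c_symm.1 (cen_le_c hb.1 w2))))] at this
    omega) fun w hw => mem_omegaOneCenter.2 ⟨cp ⟨BM (D.CB hw), l1 hw⟩, l1 hw, by rw [sq, sq_of_ea D.eaC hw]⟩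
  have l3 := D.graph4 q (c.chC (ea_isPGroup D.eaC) c.zC (c.tc (sq_of_ea D.eaC c.zC) c.z1 c.zT)) D.cenC le_rfl
  exact fun g hg => mem_normalizer_iff_cj.2 (D.cj_eq' q ((cj_le_of_mem_normalizer D.cenC
    (normalizer_le_normalizer_centralizer _ (l2 ▸ le_normalizer_omegaOneCenter nP hg))).trans l3))

theorem sign_aux (D : Hs F B C A₁ A₂) (q : 4 ≤ # F) (c₁ : ∀ a ∈ A₁, ∃ h ∈ 𝐍 A₁, a ∈ cj h C) (l : 𝐜 z ≤ 𝐍 B)
    (hu : u ∈ 𝐍 B) (u1 : u ∉ 𝐍 A₁) (h : g * z * g⁻¹ ∈ A₁) : g * u * g⁻¹ ∉ 𝐍 A₁ := fun e => by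
  obtain ⟨k, hk, e'⟩ := c₁ _ h
  have m : g⁻¹ * k ∈ 𝐍 B := mem_normalizer_iff_cj.2 (D.cj_eq' q (((D.conj _).cenC.trans
    (cen_le_c (by rw [← cj_cj, mem_cj, inv_inv]; simpa [mul_assoc] using e'))).trans l))
  have e1 : u ∈ 𝐍 (cj (g⁻¹ * k) A₁) := by
    rw [← cj_cj, cj_eq_self hk, ← cj_normalizer, mem_cj, inv_inv]; exact e
  rcases D.swap m with s | s
  · exact u1 (cj_eq_self s.1 ▸ e1)
  · exact D.not₂ hu u1 (s.1 ▸ e1)

theorem hc : HC.{u} := fun X _ _ F _ _ T M B C A₁ A₂ z c l i => by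
  obtain ⟨D⟩ := c.hs
  have q := c.q4
  have hT := c.syl
  have sign : ∀ {u z g : X}, 𝐜 z ≤ 𝐍 B → u ∈ 𝐍 B → u ∉ 𝐍 A₁ → z * z = 1 → g * z * g⁻¹ ∈ B → g * u * g⁻¹ ∈ 𝐍 B →
      g * u * g⁻¹ ∉ 𝐍 A₁ := fun l hu u1 hz h h' => (D.inv_or h (conj_sq hz)).elim (sign_aux D q c.c₁ l hu u1)
    fun k => D.symm.not₂ h' (sign_aux D.symm q c.c₂ l hu (D.not₂ hu u1) k)
  have TN := D.le_N q hT.isPGroup c.BT
  obtain ⟨u, u1, u2, g, s1, s2⟩ := tmin hT c.res (fun a ha b hb => D.two_N a (TN ha) b (TN hb)) c.sw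
  have z2 := sq_of_ea D.eaC c.zC
  have z4 := c.zT
  have zT := c.BT (D.CB c.zC)
  obtain ⟨S, hS, l'⟩ := exists_isSylowIn_ge (hT.isPGroup.to_le inf_le_left) (inf_le_right : T ⊓ 𝐜 u ≤ _)
  obtain ⟨r, -, hr⟩ := hT.exists_conj_le hS.isPGroup le_top
  obtain ⟨k, hk, e⟩ := hS.exists_conj_le (isPGroup_cj g⁻¹ (pg_z z2)) (by
    rw [cj_le_iff, inv_inv, cj_c, zpowers_le, mem_c_symm]; exact z4 s2)
  have e1 := TN (hr (conj_mem_cj (l' ⟨u1, self_mem_c u⟩)))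
  have e2 := sign l (TN u1) u2 z2 (i r (TN (hr (conj_mem_cj (l' ⟨zT, mem_c_symm.1 (z4 u1)⟩))))) e1
  have e3 : r * k * g⁻¹ * z * (r * k * g⁻¹)⁻¹ ∈ B := i _ (TN (hr (by
    have := conj_mem_cj (g := r) (e (conj_mem_cj (conj_mem_cj (mem_zpowers z))))
    convert this using 1; group)))
  have e4 : r * u * r⁻¹ = r * k * g⁻¹ * (g * u * g⁻¹) * (r * k * g⁻¹)⁻¹ := by
    conv_lhs => rw [← mem_c''.1 hk]
    group
  have e5 : r * u * r⁻¹ ∈ 𝐜 (r * k * g⁻¹ * z * (r * k * g⁻¹)⁻¹) := e4 ▸ conj_mem_c.2 (z4 s2)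
  have e6 := D.mem_of_sw e1 e2 e3 (conj_sq z2) e5
  rw [e4] at e1 e2
  generalize r * k * g⁻¹ = w at *
  have e7 : w⁻¹ ∈ 𝐍 B := mem_normalizer_iff_cj.2 (D.cj_eq' q (le_trans (by
    rw [cj_le_iff, inv_inv, cj_c]; exact D.cenC.trans (cen_le_c e6)) l))
  have := sign (g := w⁻¹) (cj_c w z ▸ cj_le_of_mem l (inv_mem_iff.1 e7)) e1 e2 (conj_sq z2)
    (by convert D.CB c.zC using 1; group)
  rw [inv_inv, show ∀ a b : X, a⁻¹ * (a * b * a⁻¹) * a = b from fun a b => by group] at this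
  exact this (TN s2) s1

end H28.UM
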