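import Cfsg.Agent.H28.Large

/-! Weak closures: factorizations and quasisimple sections. -/

set_option autoImplicit false

namespace H28

open Cfsg Subgroup
open scoped Pointwise commutatorElement

variable {G : Type*} [Group G] {p : ℕ}

theorem le_of_res {K X O : Subgroup G} (hK : pResidualOf p K = K) (hO : IsPGroup p O)
    (hn : O ≤ 𝐍 X) (h : K ≤ X ⊔ O) : K ≤ X :=
  hK.ge.trans ((pResidualOf_mono (h.trans (sup_comm X O).le)).trans (pResidualOf_sup_le hO hn))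

variable [hp : Fact p.Prime] [Finite G]

theorem wc_factor {Q A B : Subgroup G} (h : WC p Q ⊤) (hQ : IsPGroup p Q)
    (hA : nclIn Q ⊤ ≤ 𝐍 A) (hB : nclIn Q ⊤ ≤ 𝐍 B) (e : A ⊔ B = nclIn Q ⊤) (hc : ⁅A, B⁆ ≤ 𝐍 Q)
    {K : Subgroup G} (hK : K = pResidualOf p (nclIn Q (A ⊔ Q))) :
    (⁅K, Q⁆ = K ∧ ⁅K, A⁆ = K ∧ K ≤ ⁅A, A⁆ ∧ nclIn Q ⊤ ≤ 𝐍 K) ∧ K ⊔ Q = nclIn Q A ∧
      pResidualOf p K = K ∧ K ≤ A ∧ ⁅K, B⁆ ≤ pCoreOf p (nclIn Q ⊤) := by
  set H := nclIn Q ⊤
  have QH : Q ≤ H := le_nclIn _ _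
  have AH : A ≤ H := e ▸ le_sup_left
  have BH : B ≤ H := e ▸ le_sup_right
  have nN : H ≤ 𝐍 ⁅A, B⁆ := le_normalizer_commutator hA hB
  have nO : H ≤ 𝐍 (pCoreOf p ⁅A, B⁆) := le_normalizer_pCoreOf' nN
  have NA : ⁅A, B⁆ ≤ A := commutator_le_of_le_normalizer (BH.trans hA)
  set O := pCoreOf p ⁅A, B⁆
  have h1 : ⁅⁅A, B⁆, H⁆ ≤ O := by
    rw [commutator_comm]
    exact (commutator_mono (h.nclIn_nclIn hQ le_top).ge le_rfl).trans <| commutator_nclIn_le (le_pCoreOf (isPGroup_commutator_of_le_normalizer hQ hc)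
      (commutator_le_of_le_normalizer' (QH.trans nN)) (le_normalizer_commutator_right _ _)) nN nO
      (QH.trans nO)
  have h1' : ⁅⁅B, A⁆, H⁆ ≤ O := by rwa [commutator_comm B]
  have h2 : ⁅⁅B, B⁆, A⁆ ≤ O := H1.three_subgroups' (BH.trans nO) (BH.trans nO) (AH.trans nO)
    ((commutator_mono le_rfl BH).trans h1') ((commutator_mono le_rfl BH).trans h1)
  have h3 : ⁅⁅A, H⁆, B⁆ ≤ O := by
    refine H1.three_subgroups' (AH.trans nO) nO (BH.trans nO) ?_ h1'
    have : ⁅H, B⁆ ≤ ⁅A, B⁆ ⊔ ⁅B, B⁆ := by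
      have n : H ≤ 𝐍 (⁅A, B⁆ ⊔ ⁅B, B⁆) := le_normalizer_sup nN (le_normalizer_commutator hB hB)
      rw [← e]
      exact H1.commutator_sup_le (AH.trans n) (BH.trans n) le_sup_left le_sup_right
    exact (commutator_mono this le_rfl).trans (H1.commutator_sup_le ((NA.trans AH).trans nO)
      (((commutator_le_self B).trans BH).trans nO) ((commutator_mono le_rfl AH).trans h1) h2)
  have w := h.mono (le_top (a := A ⊔ Q))
  have k1 : ⁅K, Q⁆ = K := hK ▸ w.commutator_pResidualOf hQ le_sup_right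
  have k2 : pResidualOf p K = K := hK ▸ pResidualOf_pResidualOf _ _
  have KA : K ≤ A := hK ▸ (pResidualOf_mono ((nclIn_le_self le_sup_right).trans (sup_comm A Q).le)).trans
    (pResidualOf_sup_le hQ (QH.trans hA))
  have nK : A ≤ 𝐍 K := hK ▸ le_normalizer_pResidualOf' (le_sup_left.trans (le_normalizer_nclIn _ _))
  have k3 : ⁅K, B⁆ ≤ O := (commutator_mono (k1.ge.trans (commutator_mono KA QH)) le_rfl).trans h3
  have OA : O ≤ A := (pCoreOf_le _ _).trans NA
  have pO : IsPGroup p O := isPGroup_pCoreOf _ _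
  have k4 : ⁅K, A⁆ = K := le_antisymm (commutator_le_of_le_normalizer nK) (le_of_res k2 pO
    (OA.trans (le_normalizer_commutator_right _ _)) (k1.ge.trans ((commutator_mono le_rfl QH).trans (by
      have n : A ≤ 𝐍 (⁅K, A⁆ ⊔ O) :=
        le_normalizer_sup (le_normalizer_commutator_right _ _) (AH.trans nO)
      rw [← e]
      refine H1.commutator_sup_le' n (le_normalizer_of_commutator_le (V := ⁅K, A⁆ ⊔ O) ?_ le_rfl)
        le_sup_left (le_sup_of_le_right k3)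
      refine H1.commutator_sup_le (le_sup_left.trans le_normalizer) (le_sup_right.trans le_normalizer)
        (le_sup_of_le_right ((commutator_mono (commutator_le_of_le_normalizer nK) le_rfl).trans k3))
        (le_sup_of_le_right (commutator_le_of_le_normalizer (BH.trans nO)))))))
  refine ⟨⟨k1, k4, k4.ge.trans (commutator_mono KA le_rfl), e ▸ sup_le nK ?_⟩, ?_, k2, KA,
    k3.trans (pCoreOf_le_of_normal (NA.trans AH) nN)⟩
  · rw [← k2, ← pResidualOf_sup' pO (OA.trans nK)]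
    refine le_normalizer_pResidualOf' (le_normalizer_of_commutator_le (V := K ⊔ O) ?_ le_rfl)
    exact H1.commutator_sup_le (le_sup_left.trans le_normalizer) (le_sup_right.trans le_normalizer)
      (le_sup_of_le_right k3) (le_sup_of_le_right (commutator_le_of_le_normalizer (BH.trans nO)))
  · rw [hK, w.pResidualOf_sup hQ le_sup_right, sup_comm, nclIn_sup_right (QH.trans hA)]

theorem s2859 {Q A B K L : Subgroup G} (h : WC p Q ⊤) (hQ : IsPGroup p Q)
    (hA : nclIn Q ⊤ ≤ 𝐍 A) (hB : nclIn Q ⊤ ≤ 𝐍 B) (e : A ⊔ B = nclIn Q ⊤) (hc : ⁅A, B⁆ ≤ 𝐍 Q)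
    (hK : K = pResidualOf p (nclIn Q (A ⊔ Q))) (hL : L = pResidualOf p (nclIn Q (B ⊔ Q))) :
    (⁅K, Q⁆ = K ∧ ⁅K, A⁆ = K ∧ K ≤ ⁅A, A⁆ ∧ nclIn Q ⊤ ≤ 𝐍 K) ∧
    (⁅L, Q⁆ = L ∧ ⁅L, B⁆ = L ∧ L ≤ ⁅B, B⁆ ∧ nclIn Q ⊤ ≤ 𝐍 L) ∧
      K ⊔ L = pResidualOf p (nclIn Q ⊤) ∧ ⁅K, L⁆ ≤ pCoreOf p (nclIn Q ⊤) := by
  obtain ⟨a1, a2, a3, a4, a5⟩ := wc_factor h hQ hA hB e hc hK
  obtain ⟨b1, b2, b3, b4, -⟩ := wc_factor h hQ hB hA ((sup_comm _ _).trans e)
    (by rwa [commutator_comm]) hL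
  have AH : A ≤ nclIn Q ⊤ := e ▸ le_sup_left
  have BH : B ≤ nclIn Q ⊤ := e ▸ le_sup_right
  refine ⟨a1, b1, le_antisymm (sup_le (a3.ge.trans (pResidualOf_mono (a4.trans AH)))
    (b3.ge.trans (pResidualOf_mono (b4.trans BH)))) ?_, (commutator_mono le_rfl b4).trans a5⟩
  have n : nclIn Q ⊤ ≤ 𝐍 (K ⊔ L) := le_normalizer_sup a1.2.2.2 b1.2.2.2
  refine (pResidualOf_mono ?_).trans (pResidualOf_sup_le hQ ((le_nclIn _ _).trans n))
  rw [← h.nclIn_nclIn hQ le_top, nclIn_le_iff]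
  intro g hg
  obtain ⟨a, ha, b, hb, rfl⟩ := (mem_sup_of_le_normalizer' (BH.trans hA)).1 (e.ge hg)
  rw [← cj_cj]
  refine (cj_mono a (cj_le_nclIn Q hb)).trans ?_
  rw [← b2, cj_sup, cj_eq_self (b1.2.2.2 (AH ha))]
  refine sup_le (le_sup_of_le_right le_sup_right) ((cj_le_nclIn Q ha).trans ?_)
  rw [← a2]
  exact sup_le (le_sup_of_le_right le_sup_left) le_sup_left

theorem commutator_res_eq (h0 : pCore p G = ⊥) (hq : IsQuasisimple (pResidual p G)) {Y : Subgroup G}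
    (hY : IsPGroup p Y) (h1 : Y ≠ ⊥) : ⁅pResidual p G, Y⁆ = pResidual p G := by
  refine (H1.commutator_eq_self_or_eq_bot hq le_normalizer_of_normal).resolve_right fun k => h1 ?_
  obtain ⟨P, hP, YP⟩ := exists_isSylowIn_ge hY (commutator_eq_bot_iff'.1 k)
  have : P = pCoreOf p _ := hP.eq_pCoreOf (by
    rw [← hP.pResidualOf_sup]
    refine sup_le (le_trans ?_ (centralizer_le_normalizer _)) le_normalizer
    exact le_centralizer_iff.1 (hP.le.trans (centralizer_le (by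
      rw [← pResidualOf_top]; exact pResidualOf_mono le_top))))
  exact eq_bot_iff.2 (YP.trans (this.le.trans ((pCoreOf_le_of_normal le_top
    le_normalizer_of_normal).trans ((pCoreOf_top p).trans h0).le)))

omit hp [Finite G] in
theorem qs_quot {X : Type*} [Group X] (hp : ⁅(⊤ : Subgroup G), (⊤ : Subgroup G)⁆ = ⊤) (g : G →* X)
    (hq : IsQuasisimple g.range) (O : Subgroup G) [O.Normal] (h1 : ⁅g.ker, (⊤ : Subgroup G)⁆ ≤ O)
    (h2 : O ≤ g.ker) :
    IsQuasisimple (G ⧸ O) := by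
  obtain ⟨q1, q2, q3⟩ := H1.isQuasisimple_subgroup_iff.1 hq
  have hs := QuotientGroup.mk'_surjective O
  refine H1.isQuasisimple_iff.2 ⟨⟨?_⟩, ?_, fun N _ => ?_⟩
  · rw [_root_.commutator_def, ← map_top_of_surjective _ hs, ← map_commutator, hp]
  · exact QuotientGroup.nontrivial_iff.2 fun k => q2 (MonoidHom.range_eq_bot_iff.2
      (MonoidHom.ker_eq_top_iff.1 (eq_top_iff.2 (k ▸ h2))))
  let M := N.comap (QuotientGroup.mk' O)
  have OM : O ≤ M := fun x hx => by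
    rw [mem_comap, (QuotientGroup.eq_one_iff x).2 hx |> fun k => (k : QuotientGroup.mk' O x = 1)]
    exact one_mem _
  rw [← map_comap_eq_self_of_surjective hs N]
  rcases q3 (M.map g) (map_le_range _ _) (by
    rw [MonoidHom.range_eq_map]
    exact (map_mono le_normalizer_of_normal).trans (le_normalizer_map g)) with k | k
  · have : M ⊔ g.ker = ⊤ := by
      rw [← comap_map_eq, k, MonoidHom.comap_range_self]
    have : M = ⊤ := eq_top_iff.2 (hp.ge.trans (by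
      nth_rw 1 [← this]
      exact H1.commutator_sup_le le_normalizer_of_normal le_normalizer_of_normal
        (commutator_le_left _ _) (h1.trans OM)))
    exact .inl (by rw [show N.comap _ = ⊤ from this, map_top_of_surjective _ hs])
  · have k1 : ⁅M, (⊤ : Subgroup G)⁆ ≤ g.ker := by
      rw [← Subgroup.map_eq_bot_iff, map_commutator, ← MonoidHom.range_eq_map]
      exact commutator_eq_bot_iff.2 k
    have k2 : ⁅⁅(⊤ : Subgroup G), (⊤ : Subgroup G)⁆, M⁆ ≤ O := H1.three_subgroups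
      (by rw [commutator_comm ⊤ M]; exact (commutator_mono k1 le_rfl).trans h1)
      ((commutator_mono k1 le_rfl).trans h1)
    rw [hp, ← QuotientGroup.ker_mk' O, ← Subgroup.map_eq_bot_iff, map_commutator,
      map_top_of_surjective _ hs, commutator_eq_bot_iff'] at k2
    exact .inr fun x hx => mem_center_iff.2 fun y => k2 hx y trivial

theorem s2860 {Q U E : Subgroup G} (hQp : IsPGroup p Q) (hQ1 : Q ≠ ⊥) (hQ : IsLarge Q)
    (hU : IsPGroup p U) (hU1 : U ≠ ⊥) (hQE : Q ≤ E) (hEU : E ≤ 𝐍 U) (hQn : ¬ E ≤ 𝐍 Q)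
    [((𝐂 U).subgroupOf E).Normal] (hred : pCore p (E ⧸ (𝐂 U).subgroupOf E) = ⊥)
    (hqs : IsQuasisimple ((pResidual p E ⊔ (𝐂 U).subgroupOf E).map
      (QuotientGroup.mk' ((𝐂 U).subgroupOf E)))) {R : Subgroup G}
    (hR : R = pResidualOf p (nclIn Q E)) [((𝐂 U).subgroupOf R).Normal] :
    pResidualOf p E ⊔ E ⊓ 𝐂 U = R ⊔ E ⊓ 𝐂 U ∧ ⁅R, R⁆ = R ∧ pResidualOf p R = R ∧
      IsQuasisimple (R ⧸ (𝐂 U).subgroupOf R) ∧ IsQuasisimple (R ⧸ pCore p R) ∧
      ∀ Y : Subgroup G, Y ≤ E → IsPGroup p Y → ¬ Y ≤ 𝐂 U → ⁅R, Y⁆ = R := by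
  set f := QuotientGroup.mk' ((𝐂 U).subgroupOf E)
  have hs : Function.Surjective f := QuotientGroup.mk'_surjective _
  have fk : f.ker = (𝐂 U).subgroupOf E := QuotientGroup.ker_mk' _
  rw [Subgroup.map_sup, (Subgroup.map_eq_bot_iff _).2 fk.ge, sup_bot_eq, map_pResidual hs] at hqs
  let b : Subgroup G → Subgroup (E ⧸ (𝐂 U).subgroupOf E) := fun A => (A.subgroupOf E).map f
  have ble : ∀ {A B}, A ≤ E → B ≤ E → b A ≤ b B → A ≤ B ⊔ E ⊓ 𝐂 U := fun {A B} h1 h2 h => by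
    have := map_mono (f := E.subtype) (map_le_map_iff.1 h)
    rwa [fk, Subgroup.map_sup, map_subgroupOf_eq_of_le h1, map_subgroupOf_eq_of_le h2,
      subgroupOf_map_subtype, inf_comm] at this
  have bc : ∀ {A B}, A ≤ E → B ≤ E → b ⁅A, B⁆ = ⁅b A, b B⁆ := fun h1 h2 => by
    simp only [b, commutator_subgroupOf h1 h2, map_commutator]
  have br : ∀ {A}, A ≤ E → b (pResidualOf p A) = pResidualOf p (b A) := fun h => by
    simp only [b, pResidualOf_subgroupOf_of_le h, map_pResidualOf]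
  have bY : ∀ {Y}, Y ≤ E → IsPGroup p Y → ¬ Y ≤ 𝐂 U → ⁅pResidual p _, b Y⁆ = pResidual p _ :=
    fun {Y} h1 h2 h3 => commutator_res_eq hred hqs ((h2.comap_subtype).map _) fun k =>
      h3 fun y hy => by
        rw [Subgroup.map_eq_bot_iff, fk] at k
        exact k (show (⟨y, h1 hy⟩ : E) ∈ Y.subgroupOf E from hy)
  have cE : nclIn Q E ≤ E := nclIn_le_self hQE
  have Rc : R ≤ nclIn Q E := hR ▸ pResidualOf_le _ _
  have RE := Rc.trans cE
  have nR : E ≤ 𝐍 R := hR ▸ le_normalizer_pResidualOf' (le_normalizer_nclIn _ _)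
  have rR : pResidualOf p R = R := hR ▸ pResidualOf_pResidualOf _ _
  have bE : b (pResidualOf p E) = pResidual p _ := by
    simp only [b, pResidualOf_subgroupOf, map_pResidual hs]
  obtain ⟨q1, -, -⟩ := H1.isQuasisimple_subgroup_iff.1 hqs
  have bR : b R = pResidual p _ := by
    refine le_antisymm (bE ▸ map_mono (subgroupOf_mono E (hR ▸ pResidualOf_mono cE))) ?_
    rw [hR, br cE, ← pResidualOf_top, ← pResidualOf_pResidualOf, pResidualOf_top]
    refine pResidualOf_mono ?_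
    rw [← bY hQE hQp fun k => hQn (hEU.trans (large_normalizer_le hQ (le_centralizer_iff.1 k) hU1)),
      ← bE, ← bc (pResidualOf_le _ _) hQE, commutator_comm]
    exact map_mono (subgroupOf_mono E ((commutator_mono le_rfl (pResidualOf_le _ _)).trans
      (commutator_le_nclIn _ _)))
  have c0 := (large_weakClosure_sup hQ hQp hQ1 hQE hU hU1 hEU).2.2
  have pO : IsPGroup p (pCoreOf p R) := isPGroup_pCoreOf _ _
  have c1 : ⁅R ⊓ 𝐂 U, nclIn Q E⁆ ≤ pCoreOf p R := by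
    rw [pCoreOf_eq_inf_of_normal Rc (cE.trans nR)]
    exact le_inf ((commutator_mono inf_le_left cE).trans (commutator_le_of_le_normalizer nR))
      (by rw [commutator_comm]; exact (commutator_mono le_rfl inf_le_right).trans c0)
  have split : ∀ {A}, A ≤ R → R ≤ 𝐍 A → b R ≤ b A → A ⊔ R ⊓ 𝐂 U = R := fun {A} h1 h2 h3 => by
    refine le_antisymm (sup_le h1 inf_le_left) fun x hx => ?_
    have n : A ≤ 𝐍 (E ⊓ 𝐂 U) := (h1.trans RE).trans
      (le_normalizer_inf le_normalizer (le_normalizer_centralizer hEU))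
    obtain ⟨a, ha, c, hc, rfl⟩ := (mem_sup_of_le_normalizer n).1 (ble RE (h1.trans RE) h3 hx)
    exact mul_mem_sup ha ⟨(mul_mem_cancel_left (h1 ha)).1 hx, hc.2⟩
  have fin : ∀ {A D}, A ≤ R → R ≤ 𝐍 A → b R ≤ b A → D ≤ nclIn Q E → ⁅A, D⁆ ≤ A → ⁅R, D⁆ = R →
      A = R := fun {A D} h1 h2 h3 h4 h5 h6 => by
    refine le_antisymm h1 (le_of_res rR pO ((pCoreOf_le _ _).trans h2) (h6.ge.trans ?_))
    have n : R ≤ 𝐍 (A ⊔ pCoreOf p R) := le_normalizer_sup h2 (le_normalizer_pCoreOf _ _)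
    nth_rw 1 [← split h1 h2 h3]
    exact H1.commutator_sup_le (h1.trans n) (inf_le_left.trans n) (le_sup_of_le_left h5)
      (le_sup_of_le_right ((commutator_mono le_rfl h4).trans c1))
  have pf : ⁅R, R⁆ = R := fin (commutator_le_self R) (le_normalizer_commutator_left _ _)
    (by rw [bc RE RE, bR, q1]) (le_nclIn Q E)
    (commutator_le_of_le_normalizer (hQE.trans (le_normalizer_commutator nR nR)))
    (hR ▸ ((large_wc hQ hQ1).mono le_top).commutator_pResidualOf hQp hQE)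
  let g : R →* _ := f.comp (inclusion RE)
  have gr : IsQuasisimple g.range := by
    rw [MonoidHom.range_comp, inclusion_range]; change IsQuasisimple (b R); rwa [bR]
  have gk : g.ker = (𝐂 U).subgroupOf R := by
    ext x; rw [MonoidHom.mem_ker, MonoidHom.comp_apply, ← MonoidHom.mem_ker, fk]; rfl
  have tp : ⁅(⊤ : Subgroup R), (⊤ : Subgroup R)⁆ = ⊤ := by
    rw [← subgroupOf_self, ← commutator_subgroupOf le_rfl le_rfl, pf]
  refine ⟨le_antisymm (sup_le (ble (pResidualOf_le _ _) RE (bE.trans bR.symm).le) le_sup_right)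
    (sup_le_sup_right (hR ▸ pResidualOf_mono cE) _), pf, rR,
    qs_quot tp g gr _ (gk ▸ commutator_le_left _ _) gk.ge, qs_quot tp g gr _ ?_ ?_, fun Y h1 h2 h3 =>
      fin (commutator_le_of_le_normalizer (h1.trans nR)) (le_normalizer_commutator_left _ _)
        (by rw [bc RE h1, bR, bY h1 h2 h3]) Rc
        (commutator_le_of_le_normalizer (le_normalizer_commutator_left _ _)) pf⟩
  · rw [gk, ← inf_subgroupOf_left, ← subgroupOf_self, ← commutator_subgroupOf inf_le_left le_rfl,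
      ← pCoreOf_subgroupOf]
    exact subgroupOf_mono R ((commutator_mono le_rfl Rc).trans c1)
  · have : pCoreOf p R ≤ 𝐂 U := by
      have h1 : pCoreOf p R ≤ pCoreOf p E := pCoreOf_le_of_normal RE nR
      have h2 := map_pCoreOf_le (p := p) f ⊤
      rw [map_top_of_surjective _ hs, pCoreOf_top, pCoreOf_top, hred, le_bot_iff,
        Subgroup.map_eq_bot_iff, fk, ← pCoreOf_subgroupOf] at h2
      exact fun x hx => h2 (show (⟨x, pCoreOf_le _ _ (h1 hx)⟩ : E) ∈ _ from h1 hx)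
    rw [gk, ← pCoreOf_subgroupOf]
    exact subgroupOf_mono R this

end H28
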