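import Cfsg.Agent.H28.ZF3
import Cfsg.Agent.S2834

/-!
Glauberman's theorem on the failure of control by `ZJ`, part 4: the local lemma for `p`-minimal
groups.
-/

set_option autoImplicit false

open Cfsg Subgroup
open scoped commutatorElement

namespace H28.ZF

variable {G : Type*} [Group G] [Finite G] {p : ℕ} [hp : Fact p.Prime]

theorem exL_top {T M A : Subgroup G} (hT : IsSylowIn p T ⊤) (hg : nclIn T ⊤ = ⊤)
    (hu : UniqMax T ⊤ M) (hAT : A ≤ T) (hA : ¬ A ≤ pCore p G) :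
    ∃ (g : G) (L : Subgroup G), UniqMax A L (L ⊓ cj g M) ∧ nclIn A L = L := by
  obtain ⟨Y, g, y1, y2, y3, y4, y5, y6⟩ := Cfsg.Agent.S2834.aux hT hg hu hAT hA
  obtain ⟨L, l1, ⟨l2, l3⟩, l4⟩ := H1.exists_minimal_le
    (P := fun L => A ≤ L ∧ ¬ L ≤ cj g M) ⟨y3, y5⟩
  have hum : UniqMax A L (L ⊓ cj g M) := ⟨le_inf l2 (le_sup_left.trans y4), inf_lt_left.2 l3,
    fun X a b => le_inf b.le (by_contra fun c => b.ne (l4 X ⟨a, c⟩ b.le))⟩
  have u := hu.conj g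
  refine ⟨g, L, hum, hum.eq_of_not_le (le_nclIn _ _) (nclIn_le_self l2) fun e =>
    l3 fun x hx => ?_⟩
  have h2 : A ⊔ Y ≤ cj (x⁻¹ * g) M := by
    rw [← cj_cj, ← cj_le_iff, cj_sup, cj_eq_self (l1 hx)]
    exact sup_le ((cj_le_nclIn A hx).trans (e.trans inf_le_right)) (le_sup_right.trans y4)
  refine (Subgroup.inv_mem_iff _).1 (u.mem_of_cj_le (by rw [← cj_nclIn, hg]) (g := x⁻¹)
    (by rw [cj_top]; exact mem_top _) ?_)
  rw [← y6 _ h2, ← cj_cj]; exact cj_mono _ (cj_mono _ hu.le)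

theorem exL {X T M A : Subgroup G} (hT : IsSylowIn p T X) (hu : UniqMax T X M) (hAT : A ≤ T)
    (hA : ¬ A ≤ pCoreOf p X) :
    ∃ g ∈ X, ∃ L ≤ X, UniqMax A L (L ⊓ cj g M) ∧ nclIn A L = L := by
  have hAX := hAT.trans hT.le
  have hg := hu.nclIn_eq hT fun h => hA (hAT.trans (le_pCoreOf hT.isPGroup hT.le h))
  obtain ⟨g, L, h1, h2⟩ := exL_top (A := A.subgroupOf X) hT.subgroupOf_top
    (by rw [nclIn_top, ← nclIn_subgroupOf hT.le, hg, subgroupOf_self]) hu.subgroupOf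
    ((subgroupOf_le_subgroupOf hAX).2 hAT) fun h => hA (by
      rw [← map_subtype_subgroupOf hAX]; exact map_mono h)
  refine ⟨g, g.2, L.map X.subtype, map_subtype_le L, ?_, ?_⟩
  · have := h1.map_of_injective X.subtype_injective
    rwa [map_inf_eq _ _ _ X.subtype_injective, map_subtype_cj, map_subtype_subgroupOf hAX,
      map_subtype_subgroupOf hu.lt.le] at this
  · have := congrArg (map X.subtype) h2
    rwa [map_nclIn, map_subtype_subgroupOf hAX] at this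

theorem ll (h2 : p ≠ 2) {X T M Y Z : Subgroup G} {a : G} (hT : IsSylowIn p T X)
    (hu : UniqMax T X M) (hY : Y ≤ pCoreOf p X) (hM : M ≤ 𝐍 Y) (hX : ¬ X ≤ 𝐍 Y) (hZ : X ≤ 𝐂 Z)
    (ha : a ∈ T) (haQ : a ∉ pCoreOf p X) (hq : ⁅⁅nclIn Y X, zpowers a⁆, zpowers a⁆ ≤ Z) :
    ∃ (U W : Subgroup G) (ψ : G → Fin 2 → ZMod p) (t : G) (l : (ZMod p)ˣ),
      Dat U Y W ψ t l ∧ pCoreOf p X < U ∧ U ≤ T ∧ t ∈ M := by
  obtain ⟨g, gX, L, hL, h1, h3⟩ := exL hT hu (zpowers_le.2 ha) (by rwa [zpowers_le])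
  replace h1 := h1.conj g⁻¹
  rw [cj_inf, cj_inv_cj, cj_zpowers] at h1
  replace h3 := congrArg (fun K => cj g⁻¹ K) h3
  simp only [cj_nclIn, cj_zpowers] at h3
  replace hL : cj g⁻¹ L ≤ X := cj_le_of_mem hL (inv_mem gX)
  have hQM := hT.pCoreOf_le.trans hu.le
  obtain ⟨U, W, ψ, t, l, d, u1, u2, u3⟩ := core h2 (Z := Z) h1 h3
    (by rw [← cj_zpowers]; exact isPGroup_cj _ (hT.isPGroup.to_le (zpowers_le.2 ha)))
    (isPGroup_pCoreOf p X) (hL.trans (le_normalizer_pCoreOf p X)) hY (hQM.trans hM)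
    (inf_le_right.trans hM) (fun h => h1.not_le (le_inf le_rfl ((le_inf hL h).trans
      (hu.max _ (le_inf hT.le (hu.le.trans hM)) (inf_lt_left.2 hX))))) (le_nclIn Y X)
    (hL.trans (le_normalizer_nclIn Y X)) ((sup_le hL (pCoreOf_le p X)).trans hZ) (by
      rw [← cj_zpowers, ← cj_eq_self (le_normalizer_nclIn Y X (inv_mem gX)), ← cj_commutator,
        ← cj_commutator, ← cj_eq_self (centralizer_le_normalizer _ (hZ (inv_mem gX)))]
      exact cj_mono _ hq)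
  obtain ⟨m, hm, e⟩ := (hT.mono hu.le hu.lt.le).exists_conj_le d.pU
    (u2.trans (sup_le inf_le_right hQM))
  have d' := d.conj m
  rw [cj_eq_self (hM hm)] at d'
  refine ⟨_, _, _, _, l, d', ?_, e, mul_mem (mul_mem hm u3.2) (inv_mem hm)⟩
  rw [← cj_eq_self (le_normalizer_pCoreOf p X (hu.lt.le hm))]
  exact cj_lt_cj.2 u1

end H28.ZF
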