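import Cfsg.Agent.H28.ZF4
import Cfsg.Agent.H29.Bridge
import Cfsg.Agent.H9.ZJ

/-!
Glauberman's theorem on the failure of control by `ZJ`, part 5: a largest subgroup whose fusion is
not controlled.
-/

set_option autoImplicit false

open Cfsg Subgroup
open scoped commutatorElement

namespace H28.ZF

variable {G : Type*} [Group G] {p : ℕ} {H U U' A S D : Subgroup G} {g h : G}

/-- `g` acts on `U` as an element of `H` -/
def Ag (H U : Subgroup G) (g : G) : Prop := ∃ x ∈ H, ∀ a ∈ U, x * a * x⁻¹ = g * a * g⁻¹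

theorem Ag.comp (h1 : Ag H U g) (h2 : Ag H (cj g U) h) : Ag H U (h * g) := by
  obtain ⟨x, hx, e⟩ := h1
  obtain ⟨y, hy, f⟩ := h2
  refine ⟨y * x, mul_mem hy hx, fun a ha => ?_⟩
  calc _ = y * (x * a * x⁻¹) * y⁻¹ := by group
    _ = _ := by rw [e a ha, f _ (conj_mem_cj ha)]; group

theorem Ag.inv (h1 : Ag H U g) : Ag H (cj g U) g⁻¹ := by
  obtain ⟨x, hx, e⟩ := h1
  refine ⟨x⁻¹, inv_mem hx, ?_⟩
  rintro _ ⟨a, ha, rfl⟩
  change x⁻¹ * (g * a * g⁻¹) * x⁻¹⁻¹ = g⁻¹ * (g * a * g⁻¹) * g⁻¹⁻¹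
  conv_lhs => rw [← e a ha]
  group

theorem Ag.mono (h1 : Ag H U g) (h : U' ≤ U) : Ag H U' g :=
  let ⟨x, hx, e⟩ := h1; ⟨x, hx, fun a ha => e a (h ha)⟩

theorem Ag.of_mem (h : g ∈ H) : Ag H U g := ⟨g, h, fun _ _ => rfl⟩

theorem Ag.of_cent (h : g ∈ 𝐂 U) : Ag H U g :=
  ⟨1, one_mem H, fun a ha => by rw [← h a ha]; group⟩

theorem Ag.mem_normalizer [Finite G] (h1 : Ag (𝐍 A) U g) (hD : D ≤ U) (hg : g ∈ 𝐍 D) :
    g ∈ 𝐍 (A ⊓ D) := mem_normalizer_of_cj_le (by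
  obtain ⟨x, hx, e⟩ := h1
  rintro _ ⟨y, hy, rfl⟩
  exact ⟨(e y (hD hy.2) ▸ conj_mem_of_mem_normalizer hx hy.1 : g * y * g⁻¹ ∈ A),
    conj_mem_of_mem_normalizer hg hy.2⟩)

variable [Finite G] [hp : Fact p.Prime]

theorem exists_mem_not_mem (hS : IsPGroup p S) (hA : A ≤ S) (hD : D ≤ S) (hn : S ≤ 𝐍 A)
    (h : ¬ A ≤ D) : ∃ a ∈ A, a ∈ 𝐍 D ∧ a ∉ D := by
  obtain ⟨x, ⟨h1, h2⟩, h3⟩ := SetLike.exists_of_lt (lt_inf_normalizer (hS.to_le (sup_le hD hA))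
    (left_lt_sup.2 h))
  obtain ⟨d, h4, a, h5, rfl⟩ := (mem_sup_of_le_normalizer (hD.trans hn)).1 h1
  exact ⟨a, h5, (mul_mem_cancel_left (le_normalizer h4)).1 h2, fun e => h3 (mul_mem h4 e)⟩

theorem ag_of_normal (hS : IsPGroup p S) (hA : A ≤ S) (hab : A ≤ 𝐂 A) (hn : S ≤ 𝐍 A) (hD : D ≤ S)
    (hT : IsSylowIn p (S ⊓ 𝐍 D) (𝐍 D)) (big : ∀ U ≤ S, D < U → ∀ g ∈ 𝐍 U, Ag (𝐍 A) U g)
    (h : 𝐍 D ≤ 𝐍 (A ⊓ D)) (hg : g ∈ 𝐍 D) : Ag (𝐍 A) D g := by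
  by_cases hAD : A ≤ D
  · exact Ag.of_mem (by rw [inf_of_le_left hAD] at h; exact h hg)
  obtain ⟨a, a1, a2, a3⟩ := exists_mem_not_mem hS hA hD hn hAD
  set X := nclIn (A ⊓ 𝐍 D) (𝐍 D) with hX
  have x1 : X ≤ 𝐍 D := nclIn_le_self inf_le_right
  have x2 : 𝐍 D ≤ 𝐍 X := le_normalizer_nclIn _ _
  have x3 : ⁅X, D⁆ ≤ A ⊓ D := commutator_nclIn_le (le_inf ((commutator_mono inf_le_left le_rfl).trans
    (commutator_le_of_le_normalizer (hD.trans hn))) (commutator_le_of_le_normalizer' inf_le_right))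
    le_rfl h (inf_le_right.trans h)
  have x4 : X ≤ 𝐂 (A ⊓ D) := nclIn_le (inf_le_left.trans (hab.trans (centralizer_anti inf_le_left)))
    (le_normalizer_centralizer h)
  have x5 : pResidualOf p X ≤ 𝐂 D := pResidualOf_le_centralizer_of_commutator_le
    (hS.to_le (inf_le_left.trans hA)) (by
      rw [comm_comm]; exact (commutator_mono (pResidualOf_le p X) le_rfl).trans x3)
    ((pResidualOf_le p X).trans x4)
  have hT' := hT.inf_normal' x1 x2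
  obtain ⟨k, hk, n, hn', rfl⟩ := hT'.frattini (x2 hg)
  have nD : n ∈ 𝐍 D := (mul_mem_cancel_left (x1 hk)).1 hg
  rw [← hT'.pResidualOf_sup, mem_sup_of_le_normalizer'
    (hT'.le.trans (le_normalizer_pResidualOf p X))] at hk
  obtain ⟨r, hr, t, ht, rfl⟩ := hk
  have tD : t * n ∈ 𝐍 D := mul_mem ht.1.2 nD
  rw [mul_assoc]
  refine Ag.comp ((big (D ⊔ S ⊓ 𝐍 D ⊓ X) (sup_le hD (inf_le_left.trans inf_le_left))
    (left_lt_sup.2 fun e => a3 (e ⟨⟨hA a1, a2⟩, le_nclIn _ _ ⟨a1, a2⟩⟩)) _ ?_).mono le_sup_left)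
    (Ag.of_cent (by rw [cj_eq_self tD]; exact x5 hr))
  exact le_normalizer_sup (A := zpowers (t * n)) (zpowers_le.2 tD)
    (zpowers_le.2 (mul_mem (le_normalizer ht) hn')) (mem_zpowers _)

theorem exists_bad (hS : IsSylowIn p S ⊤) (hA : A ≤ S) (hab : A ≤ 𝐂 A) (hN : 𝐍 S ≤ 𝐍 A)
    (h : ¬ H29.SCtl (𝐍 A) S) : ∃ D ≤ S, IsSylowIn p (S ⊓ 𝐍 D) (𝐍 D) ∧ ¬ 𝐍 D ≤ 𝐍 (A ⊓ D) ∧
      ∀ U ≤ S, D < U → ∀ g ∈ 𝐍 U, Ag (𝐍 A) U g := by
  obtain ⟨D₀, ⟨h0, g, h1, h2⟩, hmax⟩ := Set.exists_max_image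
    {D : Subgroup G | D ≤ S ∧ ∃ g, cj g D ≤ S ∧ ¬ Ag (𝐍 A) D g} (fun D => Nat.card D)
    (Set.toFinite _) (by
      simp only [H29.SCtl, not_forall, H29.exists_mul_iff_exists_eq_on] at h
      obtain ⟨D, a, g, b, c⟩ := h
      exact ⟨D, a, g, b, c⟩)
  have big : ∀ U ≤ S, Nat.card D₀ < Nat.card U → ∀ g, cj g U ≤ S → Ag (𝐍 A) U g :=
    fun U a b g c => by_contra fun e => (hmax U ⟨a, g, c, e⟩).not_gt b
  have ne : Nat.card D₀ < Nat.card S := card_lt_of_lt (lt_of_le_of_ne h0 fun e => h2 (by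
    subst e; exact Ag.of_mem (hN (mem_normalizer_of_cj_le h1))))
  obtain ⟨T₀, hT₀, -⟩ := exists_isSylowIn_ge (hS.isPGroup.to_le inf_le_left)
    (inf_le_right : S ⊓ 𝐍 D₀ ≤ _)
  obtain ⟨k, -, hk⟩ := hS.exists_conj_le hT₀.isPGroup le_top
  have hD : cj k D₀ ≤ S := (cj_mono k (hT₀.le_of_le_normalizer' (hS.isPGroup.to_le h0)
    le_normalizer hT₀.le)).trans hk
  have hT : IsSylowIn p (S ⊓ 𝐍 (cj k D₀)) (𝐍 (cj k D₀)) := by
    have := hT₀.conj k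
    rw [cj_normalizer] at this
    exact this.of_card_le (hS.isPGroup.to_le inf_le_left) inf_le_right
      (card_le_of_le' (le_inf hk this.le))
  have big' : ∀ U ≤ S, cj k D₀ < U → ∀ g ∈ 𝐍 U, Ag (𝐍 A) U g := fun U a b g c =>
    big U a (card_cj k D₀ ▸ card_lt_of_lt b) g ((cj_eq_self c).le.trans a)
  refine ⟨cj k D₀, hD, hT, fun hn => h2 ?_, big'⟩
  have mv : ∀ x : G, cj x D₀ ≤ S → ∃ y, cj y (cj x D₀) = cj k D₀ ∧ Ag (𝐍 A) (cj x D₀) y := by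
    intro x hx
    have e : cj (k * x⁻¹) (cj x D₀) = cj k D₀ := by rw [cj_cj, inv_mul_cancel_right]
    obtain ⟨m, hm, e1⟩ := hT.exists_conj_le (R := cj (k * x⁻¹) (S ⊓ 𝐍 (cj x D₀)))
      (isPGroup_cj _ (hS.isPGroup.to_le inf_le_left)) (by
        rw [← e, ← cj_normalizer (k * x⁻¹)]; exact cj_mono _ inf_le_right)
    have lt := lt_inf_normalizer hS.isPGroup (lt_of_le_of_ne hx fun e => ne.ne (by
      rw [← e, card_cj]))
    rw [cj_cj] at e1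
    exact ⟨m * (k * x⁻¹), by rw [← cj_cj m, e, cj_eq_self hm],
      (big _ inf_le_left (card_cj x D₀ ▸ card_lt_of_lt lt) _ (e1.trans inf_le_left)).mono lt.le⟩
  obtain ⟨y₀, e₀, a₀⟩ := mv 1 (by rwa [cj_one])
  obtain ⟨y₁, e₁, a₁⟩ := mv g h1
  rw [cj_one] at e₀ a₀
  have n : y₁ * g * y₀⁻¹ ∈ 𝐍 (cj k D₀) := by
    rw [mem_normalizer_iff_cj]
    nth_rw 1 [← e₀]
    rw [cj_cj, inv_mul_cancel_right, ← cj_cj, e₁]
  have a := ag_of_normal hS.isPGroup hA hab (le_normalizer.trans hN) hD hT big' hn n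
  rw [← e₀] at a
  have b := a₁.inv
  rw [cj_cj, ← inv_mul_cancel_right (y₁ * g) y₀] at b
  have c := (a₀.comp a).comp b
  rwa [inv_mul_cancel_right, inv_mul_cancel_left] at c

end H28.ZF
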