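import Cfsg.Agent.H28.ZF5
import Cfsg.Agent.H9.Qd

/-!
Glauberman's theorem on the failure of control by `ZJ`, part 6: the global argument.
-/

set_option autoImplicit false

open Cfsg Subgroup H9
open scoped commutatorElement Pointwise

namespace H28.ZF

universe u

variable {G : Type*} [Group G] {p : ℕ} [hp : Fact p.Prime] {A S T P X : Subgroup G}

/-- the conclusion of the theorem -/
def Concl (p : ℕ) [Fact p.Prime] (A : Subgroup G) : Prop :=
  H9.Involves (𝐍 A) (fOver (ZMod p)) ∧ ∃ c ∈ A, orderOf c = p ∧ ∃ t ∈ 𝐍 A, ∃ l : (ZMod p)ˣ,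
    orderOf l = p - 1 ∧ t * c * t⁻¹ = c ^ (l : ZMod p).val

theorem Concl.map {G' : Type*} [Group G'] {f : G →* G'} (hf : Function.Injective f)
    (h : Concl p A) : Concl p (A.map f) := by
  obtain ⟨h1, c, c1, c2, t, t1, l, l1, e⟩ := h
  exact ⟨(h1.map_of_injective hf).mono (le_normalizer_map f), f c, mem_map_of_mem f c1,
    by rw [orderOf_injective f hf, c2], f t, le_normalizer_map f (mem_map_of_mem f t1), l, l1,
    by rw [← map_inv, ← map_mul, ← map_mul, e, map_pow]⟩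

variable [Finite G]

theorem Dat.concl {U Y W : Subgroup G} {ψ : G → Fin 2 → ZMod p} {t : G} {l : (ZMod p)ˣ}
    (h : Dat U Y W ψ t l) (h2 : p ≠ 2) (hU : U ≤ 𝐍 A) (ht : t ∈ 𝐍 A) (hY : Y ≤ A)
    (hA : A ≤ 𝐂 A) : Concl p A :=
  let ⟨c, c1, c2, c3⟩ := h.eigen (hY.trans (hA.trans (centralizer_anti hY)))
  ⟨h.involves h2 hU ht, c, hY c1, c2, t, ht, l, h.ord, c3⟩

omit hp [Finite G] in
theorem ZJ_comm (S : Subgroup G) : ZJ 0 S ≤ 𝐂 (ZJ 0 S) := center_le_centralizer _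

theorem JJ_eq (hS : IsSylowIn p S ⊤) (hT : IsPGroup p T) (h : JJ 0 S ≤ T) : JJ 0 T = JJ 0 S := by
  obtain ⟨k, -, hk⟩ := hS.exists_le_conj hT le_top
  have e : JJ 0 S = JJ 0 (cj k S) := eq_of_le_of_card_le (JJ_le_iff.2 fun B hB =>
    ((hB.conj k).of_card_le (hB.le_JJ.trans (h.trans hk)) hB.abE (card_cj k B).le).le_JJ)
    (by rw [← cj_JJ, card_cj])
  rw [e] at h ⊢
  exact JJ_eq_of_le h hk

/-- weak closure of `ZJ(S)` in proper subgroups -/
def WC (p : ℕ) (A : Subgroup G) : Prop :=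
  ∀ X T : Subgroup G, X ≠ ⊤ → IsSylowIn p T X → ZJ 0 T = A → ∀ g ∈ X, cj g A ≤ T → g ∈ 𝐍 A

theorem WC.eq (hS : IsSylowIn p S ⊤) (hw : WC p (ZJ 0 S)) (hX : X ≠ ⊤) (hJ : JJ 0 S ≤ X)
    (hP : IsSylowIn p P X) (h : ZJ 0 S ≤ P) : ZJ 0 P = ZJ 0 S := by
  obtain ⟨T, hT, hJT⟩ := exists_isSylowIn_ge (hS.isPGroup.to_le (JJ_le 0 S)) hJ
  have e : ZJ 0 T = ZJ 0 S := by rw [ZJ, JJ_eq hS hT.isPGroup hJT, ZJ]
  obtain ⟨x, hx, rfl⟩ := hT.exists_conj hP
  rw [← cj_ZJ, e, cj_eq_self (inv_mem_iff.1 (hw X T hX hT e _ (inv_mem hx) (le_cj_iff.1 h)))]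

theorem WC.ti (hS : IsSylowIn p S ⊤) (hw : WC p (ZJ 0 S)) {g : G}
    (h : IsPGroup p (ZJ 0 S ⊔ cj g (ZJ 0 S) : Subgroup G)) (hg : g ∉ 𝐍 (ZJ 0 S)) :
    ZJ 0 S ⊓ cj g (ZJ 0 S) ≤ center G := fun a ⟨a1, a2⟩ => by
  by_contra hc
  have k : ∀ x ∈ ZJ 0 S, JJ 0 S ≤ 𝐂 (zpowers x) := fun x hx =>
    le_centralizer_comm.1 ((zpowers_le.2 hx).trans inf_le_right)
  have k' : ZJ 0 S ≤ JJ 0 S := inf_le_left
  have ne : 𝐂 (zpowers a) ≠ ⊤ := fun e => hc (centralizer_top (G := G) ▸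
    le_centralizer_comm.1 e.ge (mem_zpowers a))
  have j2 : JJ 0 S ≤ cj g⁻¹ (𝐂 (zpowers a)) := by
    rw [cj_centralizer, cj_zpowers, inv_inv]; exact k _ (mem_cj.1 a2)
  obtain ⟨P, hP, e⟩ := exists_isSylowIn_ge h (sup_le (k'.trans (k a a1))
    (cj_le_iff.2 (k'.trans j2)))
  have e1 := hw.eq hS ne (k a a1) hP (le_sup_left.trans e)
  have e2 := hw.eq hS (cj_eq_top.not.2 ne) j2 (hP.conj g⁻¹) (cj_le_iff.1 (le_sup_right.trans e))
  rw [← cj_ZJ, e1] at e2
  exact hg (inv_mem_iff.1 (mem_normalizer_iff_cj.2 e2))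

omit hp in
theorem exists_min {N H : Subgroup G} (h1 : T ≤ N) (h2 : T ≤ H) (h3 : ¬ N ≤ H) :
    ∃ X ≤ N, ¬ X ≤ H ∧ UniqMax T X (X ⊓ H) := by
  obtain ⟨X, l1, ⟨l2, l3⟩, l4⟩ := H1.exists_minimal_le (P := fun X => T ≤ X ∧ ¬ X ≤ H) ⟨h1, h3⟩
  exact ⟨X, l1, l3, le_inf l2 h2, inf_lt_left.2 l3,
    fun Y a b => le_inf b.le (by_contra fun c => b.ne (l4 Y ⟨a, c⟩ b.le))⟩

omit hp [Finite G] in
/-- the amalgam argument -/
theorem amalgam {V Q : Subgroup G} (hV : V ≤ Q) (hQ : Q ≤ T) (hX : X ≤ 𝐍 Q) (hP : P ≤ 𝐍 T)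
    (h : ∀ w : G, cj w V ≤ T → cj w⁻¹ V ≤ T → cj w V ≤ Q) :
    ∃ K, V ≤ K ∧ K ≤ Q ∧ X ≤ 𝐍 K ∧ P ≤ 𝐍 K := by
  let W : ℕ → Set G := fun k => ((P : Set G) * X) ^ k * P
  have w1 : ∀ k, ∀ w ∈ W k, w⁻¹ ∈ W k := fun k w hw => by
    rw [← Set.mem_inv]
    simpa only [W, mul_inv_rev, ← inv_pow, inv_coe_set, ← mul_pow_mul] using hw
  have w2 : ∀ k, W (k + 1) = P * X * W k := fun k => by simp only [W, pow_succ', mul_assoc]
  have w3 : ∀ k, ∀ w ∈ W k, cj w V ≤ Q := fun k => by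
    suffices (∀ w ∈ W k, cj w V ≤ T) from fun w hw => h w (this w hw) (this _ (w1 k w hw))
    induction k with
    | zero => exact fun w hw => cj_le_of_mem_normalizer (hV.trans hQ) (hP (by simpa [W] using hw))
    | succ k ih =>
      rw [w2]
      rintro _ ⟨_, ⟨y, hy, x, hx, rfl⟩, w, hw, rfl⟩
      simp only [← cj_cj]
      exact cj_le_of_mem_normalizer ((cj_le_of_mem_normalizer (h w (ih w hw) (ih _ (w1 k w hw)))
        (hX hx)).trans hQ) (hP hy)
  have w4 : ∀ y ∈ P, ∀ x ∈ X, cj (y * x) (⨆ k, ⨆ w ∈ W k, cj w V) ≤ ⨆ k, ⨆ w ∈ W k, cj w V :=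
    fun y hy x hx => by
      simp only [cj_iSup, iSup_le_iff, cj_cj]
      exact fun k w hw => le_iSup₂_of_le (k + 1) (y * x * w) (le_iSup_of_le
        (w2 k ▸ Set.mul_mem_mul (Set.mul_mem_mul hy hx) hw) le_rfl)
  refine ⟨⨆ k, ⨆ w ∈ W k, cj w V, le_iSup₂_of_le 0 1 (le_iSup_of_le (by simp [W]) (cj_one V).ge),
    iSup_le fun k => iSup₂_le (w3 k), le_normalizer_of_cj_le fun x hx => ?_,
    le_normalizer_of_cj_le fun y hy => ?_⟩
  · simpa only [one_mul] using w4 1 (one_mem P) x hx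
  · simpa only [mul_one] using w4 y hy 1 (one_mem X)

theorem case_le (h2 : p ≠ 2) (hS : IsSylowIn p S ⊤) (hw : WC p (ZJ 0 S)) {D : Subgroup G}
    (hD : D ≤ S) (h1 : ZJ 0 S ≤ D) (h3 : ¬ 𝐍 D ≤ 𝐍 (ZJ 0 S)) : Concl p (ZJ 0 S) := by
  set A := ZJ 0 S with hA
  have hN : 𝐍 S ≤ 𝐍 A := normalizer_le_normalizer_ZJ 0 S
  have hSA := le_normalizer.trans hN
  obtain ⟨T, ⟨hTS, K, k1, k2, k3, k4⟩, hmax⟩ := Set.exists_max_image
    {T : Subgroup G | T ≤ S ∧ ∃ K, A ≤ K ∧ K ≤ T ∧ T ≤ 𝐍 K ∧ ¬ 𝐍 K ≤ 𝐍 A} (fun D => Nat.card D)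
    (Set.toFinite _) ⟨D, hD, D, h1, le_rfl, le_normalizer, h3⟩
  have big : ∀ K' T' : Subgroup G, A ≤ K' → K' ≤ T' → IsPGroup p T' → T' ≤ 𝐍 K' → T' ≤ 𝐍 A →
      T < T' → 𝐍 K' ≤ 𝐍 A := fun K' T' a b c d e f => by
    by_contra n
    obtain ⟨g, hg, e1⟩ := (hS.mono hSA le_top).exists_conj_le c e
    refine (hmax _ ⟨e1, cj g K', (cj_eq_self hg).ge.trans (cj_mono g a), cj_mono g b, ?_,
      fun m => n ?_⟩).not_gt (by simpa only [card_cj] using card_lt_of_lt f)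
    · rw [← cj_normalizer]; exact cj_mono g d
    · rwa [← cj_normalizer, ← cj_eq_self_of_mem hg, cj_le_cj] at m
  have pT := hS.isPGroup.to_le hTS
  have hNT : 𝐍 T ≤ 𝐍 A := by
    rcases hTS.eq_or_lt with e | e
    · rwa [e]
    · have lt := lt_inf_normalizer hS.isPGroup e
      exact big T _ (k1.trans k2) lt.le (hS.isPGroup.to_le inf_le_left) inf_le_right
        (inf_le_left.trans hSA) lt
  have hT : IsSylowIn p T (𝐍 K) := IsSylowIn.of_inf_normalizer ⟨le_inf k3 le_normalizer, pT,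
    fun R a b c => by_contra fun e => k4 (big K R k1 (k2.trans b) a (c.trans inf_le_left)
      (c.trans (inf_le_right.trans hNT)) (lt_of_le_of_ne b (Ne.symm e)))⟩
  obtain ⟨X, x1, x2, hu⟩ := exists_min k3 (hTS.trans hSA) k4
  replace hT := hT.mono hu.le_L x1
  have hAQ : A ≤ pCoreOf p X := k1.trans (le_pCoreOf (pT.to_le k2) (k2.trans hT.le) x1)
  have hQT := hT.pCoreOf_le
  have hXQ := le_normalizer_pCoreOf p X
  have hVQ : nclIn A X ≤ pCoreOf p X := nclIn_le hAQ hXQ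
  have hXV := le_normalizer_nclIn A X
  have hV : ⁅nclIn A X, nclIn A X⁆ ≤ center G := by
    refine commutator_nclIn_le ?_ hXV le_normalizer_of_normal le_normalizer_of_normal
    rw [comm_comm]
    refine H1.commutator_iSup_le (fun _ => le_normalizer_of_normal) fun g => ?_
    by_cases hg : (g : G) ∈ 𝐍 A
    · rw [cj_eq_self hg, commutator_eq_bot_iff.2 (ZJ_comm S)]; exact bot_le
    · have a := (cj_le_nclIn A g.2).trans hVQ
      refine le_trans (le_inf (commutator_le_of_le_normalizer' (a.trans (hQT.trans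
        (hTS.trans hSA)))) (commutator_le_of_le_normalizer ?_))
        (hw.ti hS ((isPGroup_pCoreOf p X).to_le (sup_le hAQ a)) hg)
      rw [← cj_normalizer]
      exact hAQ.trans ((cj_eq_self (hXQ g.2)).ge.trans (cj_mono _ (hQT.trans (hTS.trans hSA))))
  obtain ⟨a, a1, a2, a3⟩ : ∃ a ∈ T, a ∉ pCoreOf p X ∧
      ⁅⁅nclIn A X, zpowers a⁆, zpowers a⁆ ≤ center G := by
    rcases hTS.eq_or_lt with rfl | e
    · obtain ⟨U, u1, u2⟩ : ∃ U, MaxAb 0 T U ∧ ¬ nclIn A X ≤ U := by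
        by_contra! c
        refine x2 (le_normalizer_of_cj_le fun g hg x hx => ?_)
        have := mem_omegaOneCenter_JJ_iff.2 fun U hU => c U hU (cj_le_nclIn A hg hx)
        rwa [omegaOneCenter_zero] at this
      have hV' := (commutator_le_of_le_normalizer le_normalizer).trans (hVQ.trans hQT)
      obtain ⟨B, b1, -, b2, b3⟩ := u1.exists_normalized (Or.inr rfl) pT le_rfl (hVQ.trans hQT)
        (hT.le.trans hXV) ((hVQ.trans hQT).trans le_normalizer)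
        (fun w hw h => eq_one_of_sq_eq_one h2 pT (hV' hw) h)
        (u1.inf_centralizer_eq ▸ le_inf hV' (hV.trans (Subgroup.center_le_centralizer _))) u2
      obtain ⟨a, a1, a2⟩ := SetLike.not_le_iff_exists.1 (fun c : B ≤ pCoreOf p X => b2 (by
        have b4 := b1.mono c hQT
        rw [← b4.inf_centralizer_eq]
        exact (nclIn_le (le_inf hAQ (inf_le_right.trans (centralizer_anti
          (JJ_mono_of_mem hQT b1 c)))) (le_normalizer_inf hXQ (le_normalizer_centralizer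
          (hXQ.trans (normalizer_le_normalizer_JJ 0 _))))).trans
          (inf_le_inf_left _ (centralizer_anti b4.le_JJ))))
      refine ⟨a, b1.le a1, a2, le_trans (commutator_mono ((commutator_mono le_rfl
        (zpowers_le.2 a1)).trans (commutator_le_of_le_normalizer' b3)) (zpowers_le.2 a1)) ?_⟩
      rw [commutator_eq_bot_iff.2 b1.comm]; exact bot_le
    · by_contra! c
      obtain ⟨K', l1, l2, l3, l4⟩ := amalgam (P := S ⊓ 𝐍 T) hVQ hQT hXQ inf_le_right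
        fun w w1 w2 a ha => by_contra fun n => c a (w1 ha) n (by
          have e1 : nclIn A X ≤ 𝐍 (cj w (nclIn A X)) := by
            rw [← cj_normalizer, le_cj_iff]; exact w2.trans (hT.le.trans hXV)
          refine le_trans (commutator_mono ((commutator_mono le_rfl (zpowers_le.2 ha)).trans
            (commutator_le_of_le_normalizer' e1)) (zpowers_le.2 ha)) ?_
          rw [← cj_commutator]
          exact cj_le_of_mem_normalizer hV (mem_normalizer_of_normal _ w))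
      have lt := lt_inf_normalizer hS.isPGroup e
      exact x2 (l3.trans (big K' _ ((le_nclIn A X).trans l1) (l2.trans (hQT.trans lt.le))
        (hS.isPGroup.to_le inf_le_left) l4 (inf_le_left.trans hSA) lt))
  obtain ⟨U, W, ψ, t, l, d, -, u1, u2⟩ := ll h2 hT hu hAQ inf_le_right x2
    (le_centralizer_comm.1 (Subgroup.center_le_centralizer _)) a1 a2 a3
  exact d.concl h2 (u1.trans (hTS.trans hSA)) u2.2 le_rfl (ZJ_comm S)

theorem case_not_le (h2 : p ≠ 2) (hS : IsPGroup p S) (hA : A ≤ S) (hab : A ≤ 𝐂 A) (hSA : S ≤ 𝐍 A)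
    {D : Subgroup G} (hD : D ≤ S) (hT : IsSylowIn p (S ⊓ 𝐍 D) (𝐍 D)) (h1 : ¬ A ≤ D)
    (h3 : ¬ 𝐍 D ≤ 𝐍 (A ⊓ D)) (big : ∀ U ≤ S, D < U → ∀ g ∈ 𝐍 U, Ag (𝐍 A) U g) : Concl p A := by
  obtain ⟨X, x1, x2, hu⟩ := exists_min hT.le
    (le_normalizer_inf (inf_le_left.trans hSA) inf_le_right) h3
  replace hT := hT.mono hu.le_L x1
  have hQ : D = pCoreOf p X := by
    have a := le_pCoreOf (hS.to_le hD) ((le_inf hD le_normalizer).trans hT.le) x1
    by_contra e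
    exact x2 fun g hg => (big _ (hT.pCoreOf_le.trans inf_le_left) (lt_of_le_of_ne a e) g
      (le_normalizer_pCoreOf p X hg)).mem_normalizer a (x1 hg)
  obtain ⟨a, a1, a2, a3⟩ := exists_mem_not_mem hS hA hD hSA h1
  obtain ⟨U, W, ψ, t, l, d, u0, u1, -⟩ := ll h2 (Z := ⊥) hT hu (inf_le_right.trans hQ.le)
    inf_le_right x2 (centralizer_bot (G := G) ▸ le_top) ⟨hA a1, a2⟩ (hQ ▸ a3) (by
      refine le_trans (commutator_mono ((commutator_mono (nclIn_le inf_le_right x1)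
        (zpowers_le.2 a1)).trans (commutator_le_of_le_normalizer' (hD.trans hSA)))
        (zpowers_le.2 a1)) (commutator_eq_bot_iff.2 hab).le)
  obtain ⟨s, hs, e⟩ := big U (u1.trans inf_le_left) (hQ ▸ u0) t d.tN
  exact (d.congr e).concl h2 (u1.trans (inf_le_left.trans hSA)) hs inf_le_left hab

theorem main (h2 : p ≠ 2) (n : ℕ) : ∀ (G : Type u) [Group G] [Finite G] (S : Subgroup G),
    Nat.card G ≤ n → IsSylowIn p S ⊤ → ¬ H29.SCtl (𝐍 (ZJ 0 S)) S → Concl p (ZJ 0 S) := by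
  induction n with
  | zero => exact fun G _ _ S h => absurd h (Nat.card_pos.not_ge)
  | succ n ih =>
    intro G _ _ S hn hS h
    by_contra hc
    have hw : WC p (ZJ 0 S) := fun X T hX hT e g hg hle => by
      have e1 : (ZJ 0 (T.subgroupOf X)).map X.subtype = ZJ 0 S := by
        rw [map_ZJ_of_injective X.subtype_injective, map_subtype_subgroupOf hT.le, e]
      have c : H29.SCtl (𝐍 (ZJ 0 (T.subgroupOf X))) (T.subgroupOf X) := by_contra fun c =>
        hc (e1 ▸ (ih X _ (by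
          have := card_lt_of_lt (lt_top_iff_ne_top.2 hX)
          rw [card_top] at this; omega) hT.subgroupOf_top c).map X.subtype_injective)
      have := c.mem_normalizer (ZJ_le 0 _) (g := ⟨g, hg⟩) (by
        rw [← map_subtype_le_iff, map_subtype_cj, e1]; exact hle)
      exact e1 ▸ le_normalizer_map X.subtype (mem_map_of_mem X.subtype this)
    have hN := normalizer_le_normalizer_ZJ 0 S
    obtain ⟨D, d1, d2, d3, d4⟩ := exists_bad hS (ZJ_le 0 S) (ZJ_comm S) hN h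
    by_cases e : ZJ 0 S ≤ D
    · exact hc (case_le h2 hS hw d1 e (by rwa [inf_of_le_left e] at d3))
    · exact hc (case_not_le h2 hS.isPGroup (ZJ_le 0 S) (ZJ_comm S) (le_normalizer.trans hN)
        d1 d2 e d3 d4)

end H28.ZF
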